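import Mathlib
import Cfsg.Prelude.Def_Local
import Cfsg.Prelude.Def_SolvableStructure

/-!
# S4394 (team project): abstract properties of the normal Sylow subgroup of a Schmidt group

`SLike p T`: `T` is abelian, or `T` has class two, central `p`-th powers, every commutator of
`T` is of the form `[v, g]` for each non-central `v`, and two small-case side conditions
(`p = 2`: if `|T : Z(T)| = 4` then no non-central involution; `p = 3`: `|T : Z(T)| ≠ 9`).
-/

set_option autoImplicit false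

namespace Cfsg.Agent.H13.Sch

open scoped commutatorElement
open Cfsg

/-- the structural properties of the normal Sylow `p`-subgroup of a minimal non-nilpotent group
that are used in the proof of S4394. -/
def SLike (p : ℕ) (T : Type*) [Group T] : Prop :=
  (∀ a b : T, a * b = b * a) ∨
  ((∀ a b c : T, ⁅a, b⁆ * c = c * ⁅a, b⁆) ∧
   (∀ u : T, u ^ p ∈ Subgroup.center T) ∧
   (∀ v : T, v ∉ Subgroup.center T → ∀ a b : T, ∃ g : T, ⁅v, g⁆ = ⁅a, b⁆) ∧
   (p = 2 → Nat.card T = 4 * Nat.card (Subgroup.center T) →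
      ∀ v : T, v ∉ Subgroup.center T → v ^ 2 ≠ 1) ∧
   (p = 3 → Nat.card T ≠ 9 * Nat.card (Subgroup.center T)))

/-- The local configuration used in the main lemma: `x ∈ Q` outside `W = O_p(Γ)`, an `r`-subgroup
`R ≠ 1` (`r ≠ p`) whose image mod `W` is normalized by `x` and equals its own commutator with
`x` (mod `W`), and every element of `Q` is `x^i * t` with `t` centralizing `R` mod `W`. -/
def Config (p : ℕ) {Γ : Type*} [Group Γ] (Q : Subgroup Γ) (x : Γ) (R : Subgroup Γ) : Prop :=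
  x ∈ Q ∧ x ∉ pCore p Γ ∧ R ≠ ⊥ ∧ (∃ r : ℕ, r.Prime ∧ r ≠ p ∧ IsPGroup r R) ∧
  x ∈ Subgroup.normalizer ((R ⊔ pCore p Γ : Subgroup Γ) : Set Γ) ∧
  R ≤ Subgroup.closure {c : Γ | ∃ s ∈ R, ∃ i : ℕ, c = ⁅s, x ^ i⁆} ⊔ pCore p Γ ∧
  ∀ g ∈ Q, ∃ i : ℕ, ∃ t ∈ Q, g = x ^ i * t ∧ ∀ s ∈ R, ⁅t, s⁆ ∈ pCore p Γ

end Cfsg.Agent.H13.Sch
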