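import Mathlib
import Cfsg.Agent.H93.AOrbDefs

/-!
helper13: piece AO-SLA of helper93's project S4068: in `SL₂(F) × A` with `F` of characteristic 2 and `A` of
odd order, if every non-identity element has prime order then `A` is trivial and `SL₂(F)` inherits the
property.
-/

set_option autoImplicit false

namespace Cfsg.Agent.H13.AOrb

open Cfsg.Agent.H93.AOrb

universe u

/-- The transvection `!![1, 1; 0, 1]`. -/
def slaT (F : Type) [Field F] : Matrix.SpecialLinearGroup (Fin 2) F :=
  ⟨!![1, 1; 0, 1], by simp [Matrix.det_fin_two_of]⟩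

theorem slaT_ne_one (F : Type) [Field F] : slaT F ≠ 1 := by
  intro h
  have h1 := congrArg (fun m : Matrix.SpecialLinearGroup (Fin 2) F => (m : Matrix (Fin 2) (Fin 2) F) 0 1) h
  simp [slaT] at h1

theorem slaT_mul_self (F : Type) [Field F] [CharP F 2] : slaT F * slaT F = 1 := by
  have h2 : (1 : F) + 1 = 0 := CharTwo.add_self_eq_zero 1
  apply Subtype.ext
  rw [Matrix.SpecialLinearGroup.coe_mul]
  ext i j
  fin_cases i <;> fin_cases j <;> simp [slaT, Matrix.mul_apply, Fin.sum_univ_two, h2]

theorem sla : StSLA.{u} := by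
  intro G _ _ hE F _ _ A _ _ hchar hodd e
  have hEP : ∀ h : Matrix.SpecialLinearGroup (Fin 2) F × A, h ≠ 1 → (orderOf h).Prime := by
    intro h hh
    have h1 : e.symm h ≠ 1 := by
      intro h0
      apply hh
      have := congrArg e h0
      rwa [MulEquiv.apply_symm_apply, map_one] at this
    have h2 := hE _ h1
    rwa [MulEquiv.orderOf_eq] at h2
  constructor
  · by_contra hA
    have hnt : Nontrivial A := by
      rw [← Finite.one_lt_card_iff_nontrivial]
      have := Nat.card_pos (α := A)
      omega
    obtain ⟨a, ha⟩ := exists_ne (1 : A)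
    have hoa_odd : Odd (orderOf a) := by
      have hdvd : orderOf a ∣ Nat.card A := orderOf_dvd_natCard a
      exact hodd.of_dvd_nat hdvd
    have hoa_ne : orderOf a ≠ 1 := by
      rw [Ne, orderOf_eq_one_iff]; exact ha
    have hot : orderOf (slaT F) = 2 := by
      have : Fact (Nat.Prime 2) := ⟨Nat.prime_two⟩
      apply orderOf_eq_prime
      · rw [pow_two]; exact slaT_mul_self F
      · exact slaT_ne_one F
    have hne : ((slaT F, a) : Matrix.SpecialLinearGroup (Fin 2) F × A) ≠ 1 := by
      intro h
      exact ha (congrArg Prod.snd h)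
    have hp := hEP _ hne
    rw [Prod.orderOf, hot] at hp
    have hcop : Nat.Coprime 2 (orderOf a) := by
      rw [Nat.coprime_two_left]
      exact hoa_odd
    rw [hcop.lcm_eq_mul] at hp
    have h3 : orderOf a ≥ 3 := by
      obtain ⟨k, hk⟩ := hoa_odd
      have hpos := orderOf_pos a
      omega
    have h4 := (Nat.prime_mul_iff.mp hp)
    rcases h4 with ⟨_, h5⟩ | ⟨_, h5⟩
    · omega
    · omega
  · intro s hs
    have hne : ((s, 1) : Matrix.SpecialLinearGroup (Fin 2) F × A) ≠ 1 := by
      intro h
      exact hs (congrArg Prod.fst h)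
    have hp := hEP _ hne
    rw [Prod.orderOf] at hp
    simpa using hp

example : Cfsg.Agent.H93.AOrb.StSLA.{u} := sla

end Cfsg.Agent.H13.AOrb

#print axioms Cfsg.Agent.H13.AOrb.sla
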