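import Mathlib
import Cfsg.Agent.H93.AOrbDefs

/-!
helper13: piece AO-SLTORUS of helper93's project S4068: if every non-identity element of `SL₂(F)` has
prime order then `#F = 2` or `#F - 1` is prime (the diagonal torus is cyclic of order `#F - 1`).
-/

set_option autoImplicit false

namespace Cfsg.Agent.H13.AOrb

open Cfsg.Agent.H93.AOrb

/-- The diagonal element `diag(u, u⁻¹)`. -/
def slTorusFun (F : Type) [Field F] (u : Fˣ) : Matrix.SpecialLinearGroup (Fin 2) F :=
  ⟨!![(u : F), 0; 0, ((u⁻¹ : Fˣ) : F)], by simp [Matrix.det_fin_two_of]⟩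

theorem slTorusFun_mul (F : Type) [Field F] (a b : Fˣ) :
    slTorusFun F (a * b) = slTorusFun F a * slTorusFun F b := by
  apply Subtype.ext
  rw [Matrix.SpecialLinearGroup.coe_mul]
  ext i j
  fin_cases i <;> fin_cases j <;> simp [slTorusFun, Matrix.mul_apply, Fin.sum_univ_two, mul_comm]

/-- The diagonal torus `u ↦ diag(u, u⁻¹)`. -/
def slTorusHom (F : Type) [Field F] : Fˣ →* Matrix.SpecialLinearGroup (Fin 2) F :=
  MonoidHom.mk' (slTorusFun F) (slTorusFun_mul F)

theorem slTorusHom_injective (F : Type) [Field F] : Function.Injective (slTorusHom F) := by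
  intro a b hab
  have h1 := congrArg (fun m : Matrix.SpecialLinearGroup (Fin 2) F => (m : Matrix (Fin 2) (Fin 2) F) 0 0) hab
  apply Units.ext
  simpa [slTorusHom, slTorusFun] using h1

theorem slTorus : StSLTorus := by
  intro F _ _ hE
  classical
  by_cases h2 : Fintype.card F = 2
  · exact Or.inl h2
  · right
    obtain ⟨g, hg⟩ := IsCyclic.exists_generator (α := Fˣ)
    have hord : orderOf g = Fintype.card F - 1 := by
      rw [orderOf_eq_card_of_forall_mem_zpowers hg, Nat.card_eq_fintype_card, Fintype.card_units]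
    have hord' : orderOf (slTorusHom F g) = Fintype.card F - 1 := by
      rw [orderOf_injective (slTorusHom F) (slTorusHom_injective F) g, hord]
    have hcard : 2 ≤ Fintype.card F := Fintype.one_lt_card
    have hne : slTorusHom F g ≠ 1 := by
      intro h1
      rw [h1, orderOf_one] at hord'
      omega
    rw [← hord']
    exact hE _ hne

example : Cfsg.Agent.H93.AOrb.StSLTorus := slTorus

end Cfsg.Agent.H13.AOrb

#print axioms Cfsg.Agent.H13.AOrb.slTorus
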