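import Mathlib
import Cfsg.Agent.H72.ClassSize
import Cfsg.Agent.H72.BHM1
import Cfsg.Agent.H40.Burnside

set_option autoImplicit false

namespace Cfsg.Agent.H13.Sqf

open Subgroup

/-- normal `p`-complement -/
def NPC (p : ℕ) (G : Type*) [Group G] : Prop :=
  ∃ H : Subgroup G, H.Normal ∧ (Nat.card H).Coprime p ∧ ∃ k : ℕ, H.index = p ^ k

/-- hypothesis: `p²` divides no class size of a `p'`-element -/
def Hyp (p : ℕ) (G : Type*) [Group G] : Prop :=
  ∀ y : G, (orderOf y).Coprime p → ¬ p ^ 2 ∣ (Subgroup.centralizer ({y} : Set G)).index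

theorem comm_of_isCyclic {α : Type*} [Group α] [IsCyclic α] (x y : α) : x * y = y * x := by
  obtain ⟨g, hg⟩ := IsCyclic.exists_generator (α := α)
  obtain ⟨i, rfl⟩ := Subgroup.mem_zpowers_iff.mp (hg x)
  obtain ⟨j, rfl⟩ := Subgroup.mem_zpowers_iff.mp (hg y)
  rw [← zpow_add, ← zpow_add, add_comm]

section
variable {G : Type*} [Group G]

theorem orderOf_conj' (g x : G) : orderOf (g * x * g⁻¹) = orderOf x :=
  (SemiconjBy.orderOf_eq g (show SemiconjBy g x (g * x * g⁻¹) by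
    unfold SemiconjBy; group)).symm

theorem orderOf_coprime_of_mem {p : ℕ} {H : Subgroup G} (hH : (Nat.card H).Coprime p) {y : G}
    (hy : y ∈ H) : (orderOf y).Coprime p := by
  have h1 : orderOf (⟨y, hy⟩ : H) ∣ Nat.card H := orderOf_dvd_natCard _
  rw [Subgroup.orderOf_mk] at h1
  exact Nat.Coprime.coprime_dvd_left h1 hH

theorem mem_of_coprime_of_index {p k : ℕ} {H : Subgroup G} [H.Normal] (hH : H.index = p ^ k)
    {y : G} (hy : (orderOf y).Coprime p) : y ∈ H := by
  rw [← QuotientGroup.eq_one_iff]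
  have h1 : orderOf (QuotientGroup.mk y : G ⧸ H) ∣ p ^ k := by
    rw [← hH, Subgroup.index_eq_card]; exact orderOf_dvd_natCard _
  have h2 : orderOf (QuotientGroup.mk y : G ⧸ H) ∣ orderOf y :=
    orderOf_map_dvd (QuotientGroup.mk' H) y
  have h3 : orderOf (QuotientGroup.mk y : G ⧸ H) = 1 :=
    Nat.Coprime.eq_one_of_dvd ((Nat.Coprime.coprime_dvd_left h2 hy).pow_right k) h1
  exact orderOf_eq_one_iff.mp h3

/-- a `p'`-element of the image lifts to a `p'`-element -/
theorem exists_coprime_lift {Q : Type*} [Group Q] [Finite G] (f : G →* Q) {p : ℕ}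
    (hp : p.Prime) (g : G) (h : (orderOf (f g)).Coprime p) :
    ∃ y : G, f y = f g ∧ (orderOf y).Coprime p := by
  have hn0 : orderOf g ≠ 0 := (orderOf_pos g).ne'
  obtain ⟨m, hm⟩ := exists_pow_eq_self_of_coprime (x := f g)
    (n := p ^ (orderOf g).factorization p) (Nat.Coprime.pow_left _ h.symm)
  refine ⟨(g ^ (p ^ (orderOf g).factorization p)) ^ m, by rw [map_pow, map_pow, hm], ?_⟩
  have h1 : orderOf ((g ^ (p ^ (orderOf g).factorization p)) ^ m) ∣
      orderOf (g ^ (p ^ (orderOf g).factorization p)) := orderOf_pow_dvd m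
  have h2 : orderOf (g ^ (p ^ (orderOf g).factorization p)) =
      orderOf g / p ^ (orderOf g).factorization p := by
    rw [orderOf_pow, Nat.gcd_eq_right (Nat.ordProj_dvd _ _)]
  rw [h2] at h1
  exact Nat.Coprime.coprime_dvd_left h1 (Nat.coprime_ordCompl hp hn0).symm

theorem index_cen_map_dvd {Q : Type*} [Group Q] (f : G →* Q) (hf : Function.Surjective f)
    (y : G) : (centralizer ({f y} : Set Q)).index ∣ (centralizer ({y} : Set G)).index := by
  have hle : centralizer ({y} : Set G) ≤ (centralizer ({f y} : Set Q)).comap f := by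
    intro g hg
    rw [Subgroup.mem_comap, Subgroup.mem_centralizer_singleton_iff]
    rw [Subgroup.mem_centralizer_singleton_iff] at hg
    rw [← map_mul, ← map_mul, hg]
  have := Subgroup.index_dvd_of_le hle
  rwa [Subgroup.index_comap_of_surjective _ hf] at this

theorem Hyp.quot [Finite G] {p : ℕ} (hp : p.Prime) (h : Hyp p G) (N : Subgroup G) [N.Normal] :
    Hyp p (G ⧸ N) := by
  intro y' hy'
  obtain ⟨g, rfl⟩ := QuotientGroup.mk_surjective y'
  obtain ⟨y, hy1, hy2⟩ := exists_coprime_lift (QuotientGroup.mk' N) hp g hy'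
  intro hdvd
  apply h y hy2
  have := index_cen_map_dvd (QuotientGroup.mk' N) (QuotientGroup.mk'_surjective N) y
  rw [hy1] at this
  exact hdvd.trans this

theorem sq_quot (h : ∀ x : G, Squarefree (centralizer ({x} : Set G)).index) (N : Subgroup G)
    [N.Normal] (x : G ⧸ N) : Squarefree (centralizer ({x} : Set (G ⧸ N))).index := by
  obtain ⟨g, rfl⟩ := QuotientGroup.mk_surjective x
  exact Squarefree.squarefree_of_dvd
    (index_cen_map_dvd (QuotientGroup.mk' N) (QuotientGroup.mk'_surjective N) g) (h g)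

/-- a Sylow subgroup of `C(y)` through a `p`-element `u` -/
theorem key0 [Finite G] {p : ℕ} [Fact p.Prime] {y u : G}
    (hy : ¬ p ^ 2 ∣ (centralizer ({y} : Set G)).index)
    (hu : ∃ k : ℕ, orderOf u = p ^ k) (huy : u * y = y * u) :
    ∃ (Q : Sylow p G) (S : Subgroup G), S ≤ Q ∧ u ∈ S ∧ S ≤ centralizer ({y} : Set G) ∧
      Nat.card Q ∣ p * Nat.card S := by
  have hp : p.Prime := Fact.out
  obtain ⟨k, hk⟩ := hu
  have huC : u ∈ centralizer ({y} : Set G) := Subgroup.mem_centralizer_singleton_iff.mpr huy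
  have hZ : IsPGroup p (Subgroup.zpowers (⟨u, huC⟩ : centralizer ({y} : Set G))) :=
    IsPGroup.of_card (n := k) (by rw [Nat.card_zpowers, Subgroup.orderOf_mk]; exact hk)
  obtain ⟨S₀, hS₀⟩ := hZ.exists_le_sylow
  have hSp : IsPGroup p ((S₀ : Subgroup (centralizer ({y} : Set G))).map
      (centralizer ({y} : Set G)).subtype) := S₀.isPGroup'.map _
  obtain ⟨Q, hQ⟩ := hSp.exists_le_sylow
  refine ⟨Q, _, hQ, ?_, Subgroup.map_subtype_le _, ?_⟩
  · exact ⟨⟨u, huC⟩, hS₀ (Subgroup.mem_zpowers _), rfl⟩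
  · rw [Subgroup.card_map_of_injective (Subgroup.subtype_injective _),
      Sylow.card_eq_multiplicity, Sylow.card_eq_multiplicity,
      ← Subgroup.card_mul_index (centralizer ({y} : Set G)),
      Nat.factorization_mul Nat.card_pos.ne' Subgroup.index_ne_zero_of_finite,
      Finsupp.add_apply, ← pow_succ']
    apply pow_dvd_pow
    have h1 : (centralizer ({y} : Set G)).index.factorization p ≤ 1 := by
      by_contra hcon
      push Not at hcon
      exact hy ((Nat.Prime.pow_dvd_iff_le_factorization hp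
        Subgroup.index_ne_zero_of_finite).mpr hcon)
    omega

/-- a subgroup of index at most `p` in a `p`-group contains commutators and `p`-th powers -/
theorem key1 [Finite G] {p : ℕ} [Fact p.Prime] (Q : Sylow p G) (S : Subgroup G)
    (hSQ : S ≤ Q) (hcard : Nat.card Q ∣ p * Nat.card S) :
    ∀ a ∈ (Q : Subgroup G), ∀ b ∈ (Q : Subgroup G), a * b * a⁻¹ * b⁻¹ ∈ S ∧ a ^ p ∈ S := by
  have hp : p.Prime := Fact.out
  obtain ⟨S', hS'⟩ : ∃ S' : Subgroup (Q : Subgroup G), S' = S.subgroupOf Q := ⟨_, rfl⟩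
  have hc1 : Nat.card S' = Nat.card S := by
    rw [hS']; exact Nat.card_congr (Subgroup.subgroupOfEquivOfLe hSQ).toEquiv
  have hidx : S'.index ∣ p := by
    have h1 : Nat.card S' * S'.index = Nat.card (Q : Subgroup G) := Subgroup.card_mul_index S'
    rw [hc1] at h1
    rw [← h1, mul_comm p] at hcard
    exact Nat.dvd_of_mul_dvd_mul_left Nat.card_pos hcard
  have key : ∀ a b : (Q : Subgroup G), a * b * a⁻¹ * b⁻¹ ∈ S' ∧ a ^ p ∈ S' := by
    rcases (Nat.dvd_prime hp).mp hidx with h1 | h1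
    · have : S' = ⊤ := Subgroup.index_eq_one.mp h1
      intro a b; rw [this]; exact ⟨Subgroup.mem_top _, Subgroup.mem_top _⟩
    · have hn : S'.Normal := by
        apply Subgroup.normal_of_index_eq_minFac_card
        rw [h1]
        obtain ⟨n, hn⟩ := IsPGroup.iff_card.mp Q.isPGroup'
        have hn0 : n ≠ 0 := by
          rintro rfl
          have : S'.index ∣ Nat.card (Q : Subgroup G) := Subgroup.index_dvd_card S'
          rw [hn, h1, pow_zero] at this
          exact hp.one_lt.ne' (Nat.dvd_one.mp this)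
        rw [hn, Nat.Prime.pow_minFac hp hn0]
      have hcq : Nat.card ((Q : Subgroup G) ⧸ S') = p := by rw [← Subgroup.index_eq_card, h1]
      have hcyc : IsCyclic ((Q : Subgroup G) ⧸ S') := isCyclic_of_prime_card hcq
      intro a b
      constructor
      · rw [← QuotientGroup.eq_one_iff]
        have e : ((a * b * a⁻¹ * b⁻¹ : (Q : Subgroup G)) : (Q : Subgroup G) ⧸ S') =
            (a : (Q : Subgroup G) ⧸ S') * b * (a : (Q : Subgroup G) ⧸ S')⁻¹ *
              (b : (Q : Subgroup G) ⧸ S')⁻¹ := rfl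
        rw [e, comm_of_isCyclic (a : (Q : Subgroup G) ⧸ S') b]
        group
      · rw [← QuotientGroup.eq_one_iff, QuotientGroup.mk_pow]
        have := pow_card_eq_one' (G := (Q : Subgroup G) ⧸ S') (x := (a : (Q : Subgroup G) ⧸ S'))
        rwa [hcq] at this
  intro a ha b hb
  have := key ⟨a, ha⟩ ⟨b, hb⟩
  rw [hS'] at this
  exact ⟨Subgroup.mem_subgroupOf.mp this.1, Subgroup.mem_subgroupOf.mp this.2⟩

theorem exists_sylow_frat [Finite G] {p : ℕ} [Fact p.Prime] {y u : G}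
    (hy : ¬ p ^ 2 ∣ (centralizer ({y} : Set G)).index)
    (hu : ∃ k : ℕ, orderOf u = p ^ k) (huy : u * y = y * u) :
    ∃ Q : Sylow p G, u ∈ Q ∧ ∀ a ∈ (Q : Subgroup G), ∀ b ∈ (Q : Subgroup G),
      (a * b * a⁻¹ * b⁻¹) * y = y * (a * b * a⁻¹ * b⁻¹) ∧ a ^ p * y = y * a ^ p := by
  obtain ⟨Q, S, hSQ, huS, hSC, hcard⟩ := key0 hy hu huy
  refine ⟨Q, hSQ huS, ?_⟩
  intro a ha b hb
  obtain ⟨h1, h2⟩ := key1 Q S hSQ hcard a ha b hb
  exact ⟨Subgroup.mem_centralizer_singleton_iff.mp (hSC h1),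
    Subgroup.mem_centralizer_singleton_iff.mp (hSC h2)⟩

theorem conj_comm_of_smul {p : ℕ} (P Q : Sylow p G) (c : G) (hc : c • P = Q) (y : G)
    (hQ : ∀ a ∈ (Q : Subgroup G), ∀ b ∈ (Q : Subgroup G),
      (a * b * a⁻¹ * b⁻¹) * y = y * (a * b * a⁻¹ * b⁻¹) ∧ a ^ p * y = y * a ^ p) :
    ∀ a ∈ (P : Subgroup G), ∀ b ∈ (P : Subgroup G),
      (a * b * a⁻¹ * b⁻¹) * (c⁻¹ * y * c) = (c⁻¹ * y * c) * (a * b * a⁻¹ * b⁻¹) ∧
      a ^ p * (c⁻¹ * y * c) = (c⁻¹ * y * c) * a ^ p := by
  intro a ha b hb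
  have hmem : ∀ x ∈ (P : Subgroup G), c * x * c⁻¹ ∈ (Q : Subgroup G) := by
    intro x hx
    have : c * x * c⁻¹ ∈ (c • P : Sylow p G) := by
      rw [Cfsg.Agent.H72.mem_sylow_smul]
      have e : c⁻¹ * (c * x * c⁻¹) * c = x := by group
      rw [e]; exact hx
    rw [hc] at this
    exact this
  obtain ⟨h1, h2⟩ := hQ _ (hmem a ha) _ (hmem b hb)
  constructor
  · have e : c * a * c⁻¹ * (c * b * c⁻¹) * (c * a * c⁻¹)⁻¹ * (c * b * c⁻¹)⁻¹ =
        c * (a * b * a⁻¹ * b⁻¹) * c⁻¹ := by group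
    rw [e] at h1
    calc (a * b * a⁻¹ * b⁻¹) * (c⁻¹ * y * c)
        = c⁻¹ * (c * (a * b * a⁻¹ * b⁻¹) * c⁻¹ * y) * c := by group
      _ = c⁻¹ * (y * (c * (a * b * a⁻¹ * b⁻¹) * c⁻¹)) * c := by rw [h1]
      _ = (c⁻¹ * y * c) * (a * b * a⁻¹ * b⁻¹) := by group
  · have e : (c * a * c⁻¹) ^ p = c * a ^ p * c⁻¹ := conj_pow
    rw [e] at h2
    calc a ^ p * (c⁻¹ * y * c) = c⁻¹ * (c * a ^ p * c⁻¹ * y) * c := by group
      _ = c⁻¹ * (y * (c * a ^ p * c⁻¹)) * c := by rw [h2]
      _ = (c⁻¹ * y * c) * a ^ p := by group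

/-- FACT Z: with squarefree class sizes, commutators and `p`-th powers of Sylow subgroups are
central. -/
theorem sylow_frattini_central [Finite G]
    (h : ∀ x : G, Squarefree (centralizer ({x} : Set G)).index) (p : ℕ) [Fact p.Prime]
    (P : Sylow p G) :
    ∀ a ∈ (P : Subgroup G), ∀ b ∈ (P : Subgroup G),
      a * b * a⁻¹ * b⁻¹ ∈ center G ∧ a ^ p ∈ center G := by
  have hp : p.Prime := Fact.out
  obtain ⟨T, hT⟩ : ∃ T : Set G, T = {t | ∃ a ∈ (P : Subgroup G), ∃ b ∈ (P : Subgroup G),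
      t = a * b * a⁻¹ * b⁻¹ ∨ t = a ^ p} := ⟨_, rfl⟩
  have htop : centralizer T = ⊤ := by
    apply Cfsg.Agent.H72.eq_top_of_conj_cover
    intro g
    have hg : ¬ p ^ 2 ∣ (centralizer ({g} : Set G)).index := by
      intro hd
      have h1 := h g
      rw [sq] at hd
      exact hp.one_lt.ne' (Nat.isUnit_iff.mp (h1 p hd))
    obtain ⟨Q, -, hQ⟩ := exists_sylow_frat (u := 1) hg ⟨0, by simp⟩ (by simp)
    obtain ⟨c, hc⟩ := MulAction.exists_smul_eq G P Q
    refine ⟨c, ?_⟩
    rw [Subgroup.mem_centralizer_iff]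
    intro t ht
    rw [hT] at ht
    obtain ⟨a, ha, b, hb, rfl | rfl⟩ := ht
    · exact (conj_comm_of_smul P Q c hc g hQ a ha b hb).1
    · exact (conj_comm_of_smul P Q c hc g hQ a ha b hb).2
  intro a ha b hb
  have h1 : ∀ t ∈ T, t ∈ center G := by
    intro t ht
    rw [Subgroup.mem_center_iff]
    intro g
    have hg : g ∈ centralizer T := by rw [htop]; exact Subgroup.mem_top _
    exact ((Subgroup.mem_centralizer_iff.mp hg) t ht).symm
  exact ⟨h1 _ (by rw [hT]; exact ⟨a, ha, b, hb, Or.inl rfl⟩),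
    h1 _ (by rw [hT]; exact ⟨a, ha, b, hb, Or.inr rfl⟩)⟩

/-- Step 1: the derived subgroup of a Sylow `p`-subgroup is normal and centralized by all
`p'`-elements. -/
theorem step1 [Finite G] {p : ℕ} [Fact p.Prime] (h : Hyp p G) (P : Sylow p G) :
    (⁅(P : Subgroup G), (P : Subgroup G)⁆).Normal ∧
      ∀ y : G, (orderOf y).Coprime p → ∀ d ∈ ⁅(P : Subgroup G), (P : Subgroup G)⁆,
        y * d = d * y := by
  have hp : p.Prime := Fact.out
  obtain ⟨D, hD⟩ : ∃ D : Subgroup G, D = ⁅(P : Subgroup G), (P : Subgroup G)⁆ := ⟨_, rfl⟩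
  rw [← hD]
  have hPN : (P : Subgroup G) ≤ normalizer (D : Set G) := by
    have h1 := Subgroup.le_normalizer_map (H := commutator (P : Subgroup G))
      (P : Subgroup G).subtype
    rw [Subgroup.map_subtype_commutator, ← hD,
      Subgroup.normalizer_eq_top_iff.mpr inferInstance, ← MonoidHom.range_eq_map,
      Subgroup.range_subtype] at h1
    exact h1
  -- conjugates of p'-elements centralize D
  have hcen : ∀ (Q : Sylow p G) (c : G), c • P = Q → ∀ y : G,
      (∀ a ∈ (Q : Subgroup G), ∀ b ∈ (Q : Subgroup G),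
        (a * b * a⁻¹ * b⁻¹) * y = y * (a * b * a⁻¹ * b⁻¹) ∧ a ^ p * y = y * a ^ p) →
      c⁻¹ * y * c ∈ centralizer (D : Set G) := by
    intro Q c hc y hQ
    rw [hD, Subgroup.commutator_def, Subgroup.centralizer_closure, Subgroup.mem_centralizer_iff]
    rintro t ⟨a, ha, b, hb, rfl⟩
    rw [commutatorElement_def]
    exact (conj_comm_of_smul P Q c hc y hQ a ha b hb).1
  have htop : normalizer (D : Set G) = ⊤ := by
    apply Cfsg.Agent.H72.eq_top_of_conj_cover
    intro g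
    obtain ⟨a, b, hab, ha, hb⟩ := Cfsg.Agent.H72.exists_pparts p hp g
    obtain ⟨Q, huQ, hQ⟩ := exists_sylow_frat (h (g ^ b) hb) ha
      (Commute.pow_pow_self g a b).eq
    obtain ⟨c, hc⟩ := MulAction.exists_smul_eq G P Q
    refine ⟨c, ?_⟩
    have e : c⁻¹ * g * c = (c⁻¹ * g ^ a * c) * (c⁻¹ * g ^ b * c) := by
      conv_lhs => rw [← hab]
      group
    rw [e]
    apply Subgroup.mul_mem
    · apply hPN
      have : g ^ a ∈ (c • P : Sylow p G) := by rw [hc]; exact huQ
      exact Cfsg.Agent.H72.mem_sylow_smul.mp this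
    · exact Subgroup.centralizer_le_normalizer _ (hcen Q c hc _ hQ)
  have hDn : D.Normal := Subgroup.normalizer_eq_top_iff.mp htop
  refine ⟨hDn, ?_⟩
  intro y hy d hd
  obtain ⟨Q, -, hQ⟩ := exists_sylow_frat (u := 1) (h y hy) ⟨0, by simp⟩ (by simp)
  obtain ⟨c, hc⟩ := MulAction.exists_smul_eq G P Q
  have h1 := hcen Q c hc y hQ
  have h2 : c⁻¹ * d * c ∈ D := by
    have := hDn.conj_mem d hd c⁻¹
    rwa [inv_inv] at this
  have h3 := (Subgroup.mem_centralizer_iff.mp h1) _ h2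
  calc y * d = c * (c⁻¹ * y * c * (c⁻¹ * d * c)) * c⁻¹ := by group
    _ = c * (c⁻¹ * d * c * (c⁻¹ * y * c)) * c⁻¹ := by rw [h3]
    _ = d * y := by group

/-- Step 2: lifting a normal `p`-complement through an abelian normal `p`-subgroup centralized
by all `p'`-elements. -/
theorem NPC.lift [Finite G] {p : ℕ} [Fact p.Prime] (Z : Subgroup G) [Z.Normal]
    (hZp : IsPGroup p Z) (hZab : ∀ a ∈ Z, ∀ b ∈ Z, a * b = b * a)
    (hZc : ∀ y : G, (orderOf y).Coprime p → ∀ z ∈ Z, y * z = z * y)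
    (h : NPC p (G ⧸ Z)) : NPC p G := by
  have hp : p.Prime := Fact.out
  obtain ⟨H', hn', hco', k, hk⟩ := h
  obtain ⟨K, hK⟩ : ∃ K : Subgroup G, K = H'.comap (QuotientGroup.mk' Z) := ⟨_, rfl⟩
  have hKn : K.Normal := by rw [hK]; exact Subgroup.Normal.comap hn' _
  have hZK : Z ≤ K := by
    intro z hz
    rw [hK, Subgroup.mem_comap]
    have : QuotientGroup.mk' Z z = 1 := (QuotientGroup.eq_one_iff z).mpr hz
    rw [this]; exact Subgroup.one_mem _
  have hKidx : K.index = p ^ k := by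
    rw [hK, Subgroup.index_comap_of_surjective _ (QuotientGroup.mk'_surjective Z), hk]
  -- `Z` is central in `K`
  have hcent : ∀ x ∈ K, ∀ z ∈ Z, x * z = z * x := by
    intro x hx z hz
    obtain ⟨a, b, hab, ⟨j, hj⟩, hb⟩ := Cfsg.Agent.H72.exists_pparts p hp x
    have h1 : x ^ a ∈ Z := by
      rw [← QuotientGroup.eq_one_iff]
      have hmem : (QuotientGroup.mk' Z) (x ^ a) ∈ H' := by
        have : x ^ a ∈ K := Subgroup.pow_mem _ hx _
        rw [hK] at this; exact this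
      have h2 : orderOf ((QuotientGroup.mk' Z) (x ^ a)) ∣ p ^ j := by
        rw [← hj]; exact orderOf_map_dvd _ _
      have h3 := orderOf_coprime_of_mem hco' hmem
      exact orderOf_eq_one_iff.mp (Nat.Coprime.eq_one_of_dvd (h3.pow_right j) h2)
    have h4 : x ^ a * z = z * x ^ a := hZab _ h1 _ hz
    have h5 : x ^ b * z = z * x ^ b := hZc _ hb z hz
    rw [← hab, mul_assoc, h5, ← mul_assoc, h4, mul_assoc]
  -- `Z` as a Sylow subgroup of `K`
  have hrel : Z.relIndex K = Nat.card H' := by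
    have h1 : Z.relIndex K * K.index = Z.index := Subgroup.relIndex_mul_index hZK
    have h2 : Nat.card H' * H'.index = Nat.card (G ⧸ Z) := Subgroup.card_mul_index H'
    rw [hKidx] at h1
    rw [hk, ← Subgroup.index_eq_card, ← h1] at h2
    exact (Nat.eq_of_mul_eq_mul_right (pow_pos hp.pos k) h2).symm
  have hndvd : ¬ p ∣ (Z.subgroupOf K).index := by
    change ¬ p ∣ Z.relIndex K
    rw [hrel]
    exact (Nat.Prime.coprime_iff_not_dvd hp).mp hco'.symm
  obtain ⟨Zs, hZs⟩ : ∃ Zs : Sylow p K, (Zs : Subgroup K) = Z.subgroupOf K :=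
    ⟨IsPGroup.toSylow (hZp.comap_subtype) hndvd, rfl⟩
  have hZscen : (Zs : Subgroup K) ≤ center K := by
    intro z hz
    rw [hZs, Subgroup.mem_subgroupOf] at hz
    rw [Subgroup.mem_center_iff]
    intro x
    apply Subtype.ext
    exact hcent x x.2 z hz
  obtain ⟨L', hL'n, hL'c, hL'co, hL'all⟩ :=
    Cfsg.Agent.H40.exists_normal_complement_of_central_sylow Zs hZscen
  refine ⟨L'.map K.subtype, ?_, ?_, ?_⟩
  · constructor
    intro l hl g
    obtain ⟨l', hl', rfl⟩ := hl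
    have hmem : g * (l' : G) * g⁻¹ ∈ K := hKn.conj_mem _ l'.2 g
    refine ⟨⟨_, hmem⟩, (hL'all _).mpr ?_, rfl⟩
    have h1 := (hL'all l').mp hl'
    have e1 : orderOf (⟨g * (l' : G) * g⁻¹, hmem⟩ : K) = orderOf (g * (l' : G) * g⁻¹) :=
      Subgroup.orderOf_mk _ _
    have e2 : orderOf (g * (l' : G) * g⁻¹) = orderOf (l' : G) := orderOf_conj' _ _
    rw [e1, e2, Subgroup.orderOf_coe]
    exact h1
  · rw [Subgroup.card_map_of_injective (Subgroup.subtype_injective _)]
    exact hL'co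
  · obtain ⟨j, hj⟩ := IsPGroup.iff_card.mp Zs.isPGroup'
    refine ⟨j + k, ?_⟩
    rw [Subgroup.index_map_subtype, hKidx, hL'c.symm.index_eq_card, hj, pow_add]

end

end Cfsg.Agent.H13.Sqf
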