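import Mathlib
import Cfsg.Agent.H13.SqfA
import Cfsg.Agent.H13.PCore
import Cfsg.Agent.H92.ClassComm

set_option autoImplicit false

universe u

namespace Cfsg.Agent.H13.Baer

open Subgroup Cfsg.Agent.H13.Sqf

section
variable {G : Type u} [Group G] [Finite G]

/-- a `q`-element of the image lifts to a `q`-element -/
theorem exists_pelt_lift {H : Type*} [Group H] (f : G →* H) {q : ℕ} (hq : q.Prime) (g : G)
    (h : ∃ k : ℕ, orderOf (f g) = q ^ k) :
    ∃ y : G, f y = f g ∧ ∃ j : ℕ, orderOf y = q ^ j := by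
  have hn0 : orderOf g ≠ 0 := (orderOf_pos g).ne'
  obtain ⟨k, hk⟩ := h
  have hco : (orderOf g / q ^ (orderOf g).factorization q).Coprime (orderOf (f g)) := by
    rw [hk]
    exact Nat.Coprime.pow_right _ (Nat.coprime_ordCompl hq hn0).symm
  obtain ⟨m, hm⟩ := exists_pow_eq_self_of_coprime (x := f g) hco
  refine ⟨(g ^ (orderOf g / q ^ (orderOf g).factorization q)) ^ m,
    by rw [map_pow, map_pow, hm], ?_⟩
  have h1 : orderOf ((g ^ (orderOf g / q ^ (orderOf g).factorization q)) ^ m) ∣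
      orderOf (g ^ (orderOf g / q ^ (orderOf g).factorization q)) := orderOf_pow_dvd m
  have h2 : orderOf (g ^ (orderOf g / q ^ (orderOf g).factorization q)) =
      q ^ (orderOf g).factorization q := by
    rw [orderOf_pow, Nat.gcd_eq_right (Nat.ordCompl_dvd _ _)]
    exact Nat.div_div_self (Nat.ordProj_dvd _ _) hn0
  rw [h2] at h1
  obtain ⟨j, _, hj⟩ := (Nat.dvd_prime_pow hq).mp h1
  exact ⟨j, hj⟩

/-- an abelian group generated by `q`-elements is a `q`-group -/
theorem isPGroup_closure_of_comm {q : ℕ} (S : Set G)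
    (hS : ∀ s ∈ S, ∃ k : ℕ, s ^ q ^ k = 1)
    (hc : ∀ u v : G, u ∈ closure S → v ∈ closure S → u * v = v * u) :
    IsPGroup q (closure S) := by
  have key : ∀ u : G, u ∈ closure S → ∃ k : ℕ, u ^ q ^ k = 1 := by
    intro u hu
    induction hu using Subgroup.closure_induction with
    | mem x hx => exact hS x hx
    | one => exact ⟨0, by simp⟩
    | mul x y hx hy ihx ihy =>
      obtain ⟨k, hk⟩ := ihx
      obtain ⟨j, hj⟩ := ihy
      refine ⟨k + j, ?_⟩
      have hcomm : Commute x y := hc x y hx hy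
      rw [hcomm.mul_pow, pow_add, pow_mul, hk, one_pow, one_mul, mul_comm (q ^ k), pow_mul, hj,
        one_pow]
    | inv x hx ih =>
      obtain ⟨k, hk⟩ := ih
      exact ⟨k, by rw [inv_pow, hk, inv_one]⟩
  intro u
  obtain ⟨k, hk⟩ := key u u.2
  exact ⟨k, Subtype.ext (by simpa using hk)⟩

/-- **S4125-G3**: if every `q`-element has `p`-power class size, `p ≠ q`, then the Sylow
`q`-subgroups are abelian and `O_p(G) Q` is normal. -/
theorem case_ne (q : ℕ) [Fact q.Prime] (p : ℕ) (hp : p.Prime) (hpq : p ≠ q)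
    (h : ∀ x : G, (∃ k : ℕ, orderOf x = q ^ k) →
      ∃ a : ℕ, (Subgroup.centralizer ({x} : Set G)).index = p ^ a)
    (Q : Sylow q G) :
    IsMulCommutative (Q : Subgroup G) ∧ (Cfsg.pCore p G ⊔ (Q : Subgroup G)).Normal := by
  have hq : q.Prime := Fact.out
  haveI : Fact p.Prime := ⟨hp⟩
  haveI hRn : (Cfsg.pCore p G).Normal := pCore_normal p G
  obtain ⟨π, hπ⟩ : ∃ π : G →* G ⧸ Cfsg.pCore p G, π = QuotientGroup.mk' (Cfsg.pCore p G) :=
    ⟨_, rfl⟩
  have hπs : Function.Surjective π := by rw [hπ]; exact QuotientGroup.mk'_surjective _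
  have hker : ∀ g : G, π g = 1 ↔ g ∈ Cfsg.pCore p G := by
    intro g; rw [hπ]; exact QuotientGroup.eq_one_iff g
  have hdisj : ∀ g : G, g ∈ Cfsg.pCore p G → g ∈ (Q : Subgroup G) → g = 1 := by
    intro g h1 h2
    have := IsPGroup.disjoint_of_ne p q hpq _ _ (pCore_isPGroup p G) Q.isPGroup'
    exact Subgroup.disjoint_def.mp this h1 h2
  -- (a) the quotient has trivial `p`-core
  have hOp : ∀ N : Subgroup (G ⧸ Cfsg.pCore p G), N.Normal → IsPGroup p N → N = ⊥ := by
    intro N hN hNp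
    have hcn : (N.comap π).Normal := hN.comap π
    have hcp : IsPGroup p (N.comap π) := by
      intro g
      obtain ⟨k, hk⟩ := hNp ⟨π g, g.2⟩
      have h1 : π ((g : G) ^ p ^ k) = 1 := by
        rw [map_pow]; exact congrArg Subtype.val hk
      have h2 : (g : G) ^ p ^ k ∈ Cfsg.pCore p G := (hker _).mp h1
      obtain ⟨j, hj⟩ := pCore_isPGroup p G ⟨_, h2⟩
      refine ⟨k + j, Subtype.ext ?_⟩
      have h3 : ((g : G) ^ p ^ k) ^ p ^ j = 1 := congrArg Subtype.val hj
      show (g : G) ^ p ^ (k + j) = 1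
      rw [pow_add, pow_mul]; exact h3
    have hle := le_pCore hcn hcp
    rw [eq_bot_iff]
    intro x hx
    obtain ⟨g, rfl⟩ := hπs x
    rw [Subgroup.mem_bot]
    exact (hker g).mpr (hle hx)
  -- (b) `q`-elements of the quotient have `p`-power class size
  have hcls : ∀ x : G ⧸ Cfsg.pCore p G, (∃ k : ℕ, orderOf x = q ^ k) →
      ∃ a : ℕ, (Subgroup.centralizer ({x} : Set (G ⧸ Cfsg.pCore p G))).index = p ^ a := by
    intro x hx
    obtain ⟨g, rfl⟩ := hπs x
    obtain ⟨y, hy1, hy2⟩ := exists_pelt_lift π hq g hx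
    obtain ⟨a, ha⟩ := h y hy2
    have hd := index_cen_map_dvd π hπs y
    rw [hy1, ha] at hd
    obtain ⟨b, _, hb⟩ := (Nat.dvd_prime_pow hp).mp hd
    exact ⟨b, hb⟩
  -- (c) `q`-elements of the quotient lie in its `q`-core
  have hmemq : ∀ x : G ⧸ Cfsg.pCore p G, (∃ k : ℕ, orderOf x = q ^ k) →
      x ∈ Cfsg.pCore q (G ⧸ Cfsg.pCore p G) := by
    intro x hx
    obtain ⟨a, ha⟩ := hcls x hx
    have hab := Cfsg.Agent.H92.normalClosure_abelian_of_no_normal_p hp hOp x ha
    have hNq : IsPGroup q (Subgroup.normalClosure ({x} : Set (G ⧸ Cfsg.pCore p G))) := by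
      have e : Subgroup.normalClosure ({x} : Set (G ⧸ Cfsg.pCore p G)) =
          closure (Group.conjugatesOfSet {x}) := rfl
      rw [e]
      apply isPGroup_closure_of_comm
      · intro s hs
        rw [Group.mem_conjugatesOfSet_iff] at hs
        obtain ⟨t, ht, hconj⟩ := hs
        rw [Set.mem_singleton_iff] at ht
        subst ht
        obtain ⟨c, rfl⟩ := isConj_iff.mp hconj
        obtain ⟨k, hk⟩ := hx
        refine ⟨k, ?_⟩
        rw [← hk, ← orderOf_conj' c t]
        exact pow_orderOf_eq_one _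
      · intro u v hu hv
        exact hab u v hu hv
    exact le_pCore Subgroup.normalClosure_normal hNq
      (Subgroup.subset_normalClosure (Set.mem_singleton x))
  -- (d) the image of `Q` is the `q`-core of the quotient
  have hQle : (Q : Subgroup G).map π ≤ Cfsg.pCore q (G ⧸ Cfsg.pCore p G) := by
    rintro x ⟨g, hg, rfl⟩
    apply hmemq
    obtain ⟨k, hk⟩ := Q.isPGroup' ⟨g, hg⟩
    have h1 : g ^ q ^ k = 1 := congrArg Subtype.val hk
    have h2 : (π g) ^ q ^ k = 1 := by rw [← map_pow, h1, map_one]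
    obtain ⟨j, _, hj⟩ := (Nat.dvd_prime_pow hq).mp (orderOf_dvd_of_pow_eq_one h2)
    exact ⟨j, hj⟩
  have hcardQ : Nat.card ((Q : Subgroup G).map π) = Nat.card (Q : Subgroup G) := by
    symm
    apply Nat.card_congr
    refine Equiv.ofBijective (fun x : (Q : Subgroup G) =>
      (⟨π x, Subgroup.mem_map_of_mem π x.2⟩ : (Q : Subgroup G).map π)) ⟨?_, ?_⟩
    · intro x y hxy
      have h1 : π (x : G) = π (y : G) := congrArg Subtype.val hxy
      have h2 : π ((x : G) * (y : G)⁻¹) = 1 := by rw [map_mul, map_inv, h1, mul_inv_cancel]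
      have h3 := hdisj _ ((hker _).mp h2)
        (Subgroup.mul_mem _ x.2 (Subgroup.inv_mem _ y.2))
      exact Subtype.ext (mul_inv_eq_one.mp h3)
    · rintro ⟨x, g, hg, rfl⟩
      exact ⟨⟨g, hg⟩, rfl⟩
  have hQeq : (Q : Subgroup G).map π = Cfsg.pCore q (G ⧸ Cfsg.pCore p G) := by
    apply Subgroup.eq_of_le_of_card_ge hQle
    rw [hcardQ, Sylow.card_eq_multiplicity]
    obtain ⟨j, hj⟩ := IsPGroup.iff_card.mp (pCore_isPGroup q (G ⧸ Cfsg.pCore p G))
    rw [hj]
    have h1 : q ^ j ∣ Nat.card G := by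
      rw [← hj]
      exact (Subgroup.card_subgroup_dvd_card _).trans (Subgroup.card_quotient_dvd_card _)
    exact Nat.pow_le_pow_right hq.pos
      ((Nat.Prime.pow_dvd_iff_le_factorization hq Nat.card_pos.ne').mp h1)
  constructor
  · -- (f) `Q` is abelian
    refine ⟨⟨fun a b => Subtype.ext ?_⟩⟩
    show (a : G) * (b : G) = (b : G) * (a : G)
    have ha : π (a : G) ∈ Cfsg.pCore q (G ⧸ Cfsg.pCore p G) :=
      hQle (Subgroup.mem_map_of_mem π a.2)
    have hb : π (b : G) ∈ Cfsg.pCore q (G ⧸ Cfsg.pCore p G) :=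
      hQle (Subgroup.mem_map_of_mem π b.2)
    have hqa : ∃ k : ℕ, orderOf (π (a : G)) = q ^ k := by
      obtain ⟨k, hk⟩ := pCore_isPGroup q (G ⧸ Cfsg.pCore p G) ⟨_, ha⟩
      have h1 : (π (a : G)) ^ q ^ k = 1 := congrArg Subtype.val hk
      obtain ⟨j, _, hj⟩ := (Nat.dvd_prime_pow hq).mp (orderOf_dvd_of_pow_eq_one h1)
      exact ⟨j, hj⟩
    obtain ⟨c, hc⟩ := hcls _ hqa
    haveI : (Cfsg.pCore q (G ⧸ Cfsg.pCore p G)).Normal := pCore_normal q _
    have h1 := Cfsg.Agent.H72.BHM.relIndex_dvd_index_of_normal_right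
      (Subgroup.centralizer ({π (a : G)} : Set (G ⧸ Cfsg.pCore p G)))
      (Cfsg.pCore q (G ⧸ Cfsg.pCore p G))
    rw [hc] at h1
    have h2 : (Subgroup.centralizer ({π (a : G)} : Set (G ⧸ Cfsg.pCore p G))).relIndex
        (Cfsg.pCore q (G ⧸ Cfsg.pCore p G)) ∣ Nat.card (Cfsg.pCore q (G ⧸ Cfsg.pCore p G)) :=
      Subgroup.relIndex_dvd_card _ _
    obtain ⟨j, hj⟩ := IsPGroup.iff_card.mp (pCore_isPGroup q (G ⧸ Cfsg.pCore p G))
    rw [hj] at h2
    have hco : (p ^ c).Coprime (q ^ j) :=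
      Nat.Coprime.pow _ _ ((Nat.coprime_primes hp hq).mpr hpq)
    have h3 := Nat.eq_one_of_dvd_coprimes hco h1 h2
    have h4 := Subgroup.relIndex_eq_one.mp h3 hb
    have h5 : π (b : G) * π (a : G) = π (a : G) * π (b : G) :=
      Subgroup.mem_centralizer_singleton_iff.mp h4
    have h6 : π ((a : G) * (b : G) * (a : G)⁻¹ * (b : G)⁻¹) = 1 := by
      rw [map_mul, map_mul, map_mul, map_inv, map_inv, ← h5]
      group
    have h7 := hdisj _ ((hker _).mp h6)
      (Subgroup.mul_mem _ (Subgroup.mul_mem _ (Subgroup.mul_mem _ a.2 b.2)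
        (Subgroup.inv_mem _ a.2)) (Subgroup.inv_mem _ b.2))
    calc (a : G) * (b : G) = ((a : G) * (b : G) * (a : G)⁻¹ * (b : G)⁻¹) * ((b : G) * (a : G)) := by
          group
      _ = (b : G) * (a : G) := by rw [h7, one_mul]
  · -- (e) normality
    have e : Cfsg.pCore p G ⊔ (Q : Subgroup G) =
        (Cfsg.pCore q (G ⧸ Cfsg.pCore p G)).comap π := by
      rw [← hQeq, Subgroup.comap_map_eq, sup_comm]
      congr 1
      ext g
      rw [MonoidHom.mem_ker]
      exact (hker g).symm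
    rw [e]
    exact (pCore_normal q _).comap π

end

end Cfsg.Agent.H13.Baer
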