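import Mathlib
import Cfsg.Agent.H13.BaerG3
import Cfsg.Agent.H14.Cores
import Cfsg.Agent.H72.BaerDefs

set_option autoImplicit false

universe u

namespace Cfsg.Agent.H13.Baer

open Subgroup Cfsg.Agent.H13.Sqf

/-- a normal abelian Sylow `q`-subgroup `N` of a group with trivial `q'`-core is
self-centralizing -/
theorem centralizer_le_of_sylow {X : Type u} [Group X] [Finite X] (q : ℕ) [Fact q.Prime]
    (N : Subgroup X) [hNn : N.Normal] (hab : ∀ a ∈ N, ∀ b ∈ N, a * b = b * a)
    (hNq : IsPGroup q N) (hidx : ¬ q ∣ N.index) (hcore : Cfsg.pPrimeCore q X = ⊥) :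
    centralizer (N : Set X) ≤ N := by
  have hq : q.Prime := Fact.out
  obtain ⟨C, hC⟩ : ∃ C : Subgroup X, C = centralizer (N : Set X) := ⟨_, rfl⟩
  rw [← hC]
  have hCn : C.Normal := by rw [hC]; infer_instance
  have hNC : N ≤ C := by
    intro a ha
    rw [hC, Subgroup.mem_centralizer_iff]
    intro b hb
    exact hab b hb a ha
  have hndvd : ¬ q ∣ (N.subgroupOf C).index := by
    intro hd
    exact hidx (hd.trans (Subgroup.relIndex_dvd_index_of_le hNC))
  obtain ⟨Zs, hZs⟩ : ∃ Zs : Sylow q C, (Zs : Subgroup C) = N.subgroupOf C :=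
    ⟨IsPGroup.toSylow (hNq.comap_subtype) hndvd, rfl⟩
  have hZscen : (Zs : Subgroup C) ≤ center C := by
    intro z hz
    rw [hZs, Subgroup.mem_subgroupOf] at hz
    rw [Subgroup.mem_center_iff]
    intro x
    apply Subtype.ext
    have hx : (x : X) ∈ centralizer (N : Set X) := by rw [← hC]; exact x.2
    exact ((Subgroup.mem_centralizer_iff.mp hx) _ hz).symm
  obtain ⟨L', hL'n, hL'c, hL'co, hL'all⟩ :=
    Cfsg.Agent.H40.exists_normal_complement_of_central_sylow Zs hZscen
  have hMn : (L'.map C.subtype).Normal := by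
    constructor
    intro l hl g
    obtain ⟨l', hl', rfl⟩ := hl
    have hmem : g * (l' : X) * g⁻¹ ∈ C := hCn.conj_mem _ l'.2 g
    refine ⟨⟨_, hmem⟩, (hL'all _).mpr ?_, rfl⟩
    have h1 := (hL'all l').mp hl'
    have e1 : orderOf (⟨g * (l' : X) * g⁻¹, hmem⟩ : C) = orderOf (g * (l' : X) * g⁻¹) :=
      Subgroup.orderOf_mk _ _
    have e2 : orderOf (g * (l' : X) * g⁻¹) = orderOf (l' : X) := orderOf_conj' _ _
    rw [e1, e2, Subgroup.orderOf_coe]
    exact h1
  have hMco : (Nat.card (L'.map C.subtype)).Coprime q := by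
    rw [Subgroup.card_map_of_injective (Subgroup.subtype_injective _)]
    exact hL'co
  have hMbot : L'.map C.subtype = ⊥ := by
    have := Cfsg.Agent.H14.le_pPrimeCore hMn hMco
    rwa [hcore, le_bot_iff] at this
  have hL'bot : L' = ⊥ := by
    rw [eq_bot_iff]
    intro l hl
    have : (l : X) ∈ L'.map C.subtype := ⟨l, hl, rfl⟩
    rw [hMbot, Subgroup.mem_bot] at this
    rw [Subgroup.mem_bot]
    exact Subtype.ext this
  have htop : (Zs : Subgroup C) = ⊤ := by
    have := hL'c.sup_eq_top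
    rwa [hL'bot, bot_sup_eq] at this
  intro x hx
  have : (⟨x, hx⟩ : C) ∈ (Zs : Subgroup C) := by rw [htop]; exact Subgroup.mem_top _
  rw [hZs, Subgroup.mem_subgroupOf] at this
  exact this

/-- the conjugation action of `X` on a self-centralizing abelian normal Sylow `q`-subgroup
all of whose elements have `p`-power class size satisfies the hypotheses of Lemma T -/
theorem solvable_of_abelian_normal {X : Type u} [Group X] [Finite X] (p q : ℕ) (hp : p.Prime)
    (hq : q.Prime) (N : Subgroup X) [hNn : N.Normal] (hab : ∀ a ∈ N, ∀ b ∈ N, a * b = b * a)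
    (hNq : IsPGroup q N) (hidx : ¬ q ∣ N.index) (hcen : centralizer (N : Set X) ≤ N)
    (hcls : ∀ v ∈ N, ∃ a : ℕ, (centralizer ({v} : Set X)).index = p ^ a)
    (hT : ∀ {V : Type u} [CommGroup V] [Finite V] (A : Subgroup (MulAut V)),
      Cfsg.Agent.H72.BaerT.TH p q V A → Group.IsSolvable A) :
    Group.IsSolvable X := by
  letI cg : CommGroup ↥N :=
    { (inferInstance : Group ↥N) with mul_comm := fun a b => Subtype.ext (hab a a.2 b b.2) }
  obtain ⟨A, hA⟩ : ∃ A : Subgroup (MulAut ↥N), A = (MulAut.conjNormal (H := N)).range :=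
    ⟨_, rfl⟩
  have hker : (MulAut.conjNormal (H := N)).ker = centralizer (N : Set X) := by
    ext g
    rw [MonoidHom.mem_ker, Subgroup.mem_centralizer_iff]
    constructor
    · intro hg n hn
      have h1 : (MulAut.conjNormal g : MulAut N) ⟨n, hn⟩ = ⟨n, hn⟩ := by rw [hg]; rfl
      have h2 := congrArg Subtype.val h1
      rw [MulAut.conjNormal_apply] at h2
      calc n * g = (g * n * g⁻¹) * g := by rw [h2]
        _ = g * n := by group
    · intro hg
      ext n
      rw [MulAut.conjNormal_apply]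
      have := hg n n.2
      show g * (n : X) * g⁻¹ = (n : X)
      rw [← this]; group
  have hcardA : (Nat.card A).Coprime q := by
    rw [hA, ← Subgroup.index_ker, hker]
    have h1 : (centralizer (N : Set X)).index ∣ N.index := by
      apply Subgroup.index_dvd_of_le
      intro a ha
      rw [Subgroup.mem_centralizer_iff]
      intro b hb
      exact hab b hb a ha
    exact Nat.Coprime.coprime_dvd_left h1 ((Nat.Prime.coprime_iff_not_dvd hq).mpr hidx).symm
  have horb : ∀ v : ↥N, ∃ a : ℕ, Nat.card (MulAction.orbit A v) = p ^ a := by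
    intro v
    obtain ⟨a, ha⟩ := hcls (v : X) v.2
    refine ⟨a, ?_⟩
    rw [← ha, ← Cfsg.Agent.H72.BHM.card_conj]
    have hconj : ∀ u : ↥N, u ∈ MulAction.orbit A v → IsConj (v : X) (u : X) := by
      intro u hu
      obtain ⟨a', ha'⟩ := MulAction.mem_orbit_iff.mp hu
      have ha2 : (a' : MulAut ↥N) ∈ (MulAut.conjNormal (H := N)).range := by
        rw [← hA]; exact a'.2
      obtain ⟨g, hg⟩ := ha2
      have h1 : (MulAut.conjNormal g : MulAut N) v = u := by
        rw [hg]; exact ha'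
      have h2 := congrArg Subtype.val h1
      rw [MulAut.conjNormal_apply] at h2
      exact isConj_iff.mpr ⟨g, h2⟩
    apply Nat.card_congr
    refine Equiv.ofBijective (fun u : MulAction.orbit A v =>
      (⟨((u : ↥N) : X), hconj u.1 u.2⟩ : {w : X // IsConj (v : X) w})) ⟨?_, ?_⟩
    · intro u₁ u₂ h12
      have : ((u₁ : ↥N) : X) = ((u₂ : ↥N) : X) :=
        congrArg (fun t : {w : X // IsConj (v : X) w} => (t : X)) h12
      exact Subtype.ext (Subtype.ext this)
    · rintro ⟨w, hw⟩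
      obtain ⟨g, hg⟩ := isConj_iff.mp hw
      have hmem : (MulAut.conjNormal g : MulAut N) v ∈ MulAction.orbit A v := by
        rw [MulAction.mem_orbit_iff]
        exact ⟨⟨MulAut.conjNormal g, by rw [hA]; exact ⟨g, rfl⟩⟩, rfl⟩
      refine ⟨⟨_, hmem⟩, ?_⟩
      apply Subtype.ext
      show (((MulAut.conjNormal g : MulAut N) v : ↥N) : X) = w
      rw [MulAut.conjNormal_apply, hg]
  have th : Cfsg.Agent.H72.BaerT.TH p q ↥N A := ⟨hp, hq, hNq, hcardA, horb⟩
  haveI hAsol : Group.IsSolvable A := hT A th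
  haveI hNsol : Group.IsSolvable ↥N := Group.isSolvable_of_comm (fun a b => mul_comm a b)
  obtain ⟨g, hg⟩ : ∃ g : X →* A, g.ker = (MulAut.conjNormal (H := N)).ker := by
    subst hA
    exact ⟨(MulAut.conjNormal (H := N)).rangeRestrict, MonoidHom.ker_rangeRestrict _⟩
  exact Group.isSolvable_of_ker_le_range N.subtype g (by
    rw [hg, hker, Subgroup.range_subtype]; exact hcen)

/-- **S4125-G4**: if every `q`-element has `p`-power class size, `p ≠ q`, then `G / O_{q'}(G)`
is solvable (given Lemma T). -/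
theorem case_ne_solvable {G : Type u} [Group G] [Finite G] (q : ℕ) [Fact q.Prime] (p : ℕ)
    (hp : p.Prime) (hpq : p ≠ q)
    (h : ∀ x : G, (∃ k : ℕ, orderOf x = q ^ k) →
      ∃ a : ℕ, (Subgroup.centralizer ({x} : Set G)).index = p ^ a)
    (hT : ∀ {V : Type u} [CommGroup V] [Finite V] (A : Subgroup (MulAut V)),
      Cfsg.Agent.H72.BaerT.TH p q V A → Group.IsSolvable A)
    (hN : (Cfsg.pPrimeCore q G).Normal) : Group.IsSolvable (G ⧸ Cfsg.pPrimeCore q G) := by
  have hq : q.Prime := Fact.out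
  haveI : Fact p.Prime := ⟨hp⟩
  obtain ⟨Q⟩ : Nonempty (Sylow q G) := inferInstance
  obtain ⟨hQab, hRQ⟩ := case_ne q p hp hpq h Q
  obtain ⟨π, hπ⟩ : ∃ π : G →* G ⧸ Cfsg.pPrimeCore q G,
      π = QuotientGroup.mk' (Cfsg.pPrimeCore q G) := ⟨_, rfl⟩
  have hπs : Function.Surjective π := by rw [hπ]; exact QuotientGroup.mk'_surjective _
  have hker : ∀ g : G, g ∈ Cfsg.pPrimeCore q G → π g = 1 := by
    intro g hg; rw [hπ]; exact (QuotientGroup.eq_one_iff g).mpr hg
  -- `O_p(G) ≤ O_{q'}(G)`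
  have hRK : Cfsg.pCore p G ≤ Cfsg.pPrimeCore q G := by
    apply Cfsg.Agent.H14.le_pPrimeCore (pCore_normal p G)
    obtain ⟨k, hk⟩ := IsPGroup.iff_card.mp (pCore_isPGroup p G)
    rw [hk]
    exact Nat.Coprime.pow_left _ ((Nat.coprime_primes hp hq).mpr hpq)
  -- the image of `Q`
  have hmap : (Q : Subgroup G).map π = (Cfsg.pCore p G ⊔ (Q : Subgroup G)).map π := by
    rw [Subgroup.map_sup]
    have : (Cfsg.pCore p G).map π = ⊥ := by
      rw [eq_bot_iff]
      rintro x ⟨g, hg, rfl⟩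
      rw [Subgroup.mem_bot]
      exact hker g (hRK hg)
    rw [this, bot_sup_eq]
  haveI hQn : ((Q : Subgroup G).map π).Normal := by
    rw [hmap]; exact hRQ.map π hπs
  have hab : ∀ a ∈ (Q : Subgroup G).map π, ∀ b ∈ (Q : Subgroup G).map π, a * b = b * a := by
    rintro _ ⟨a, ha, rfl⟩ _ ⟨b, hb, rfl⟩
    have h1 : (⟨a, ha⟩ : (Q : Subgroup G)) * ⟨b, hb⟩ = ⟨b, hb⟩ * ⟨a, ha⟩ :=
      hQab.is_comm.comm _ _
    have h2 : a * b = b * a := congrArg Subtype.val h1
    rw [← map_mul, ← map_mul, h2]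
  have hQq : IsPGroup q ((Q : Subgroup G).map π) := Q.isPGroup'.map π
  have hidx : ¬ q ∣ ((Q : Subgroup G).map π).index := by
    intro hd
    exact Q.not_dvd_index (hd.trans (Subgroup.index_map_dvd (Q : Subgroup G) hπs))
  have hcore : Cfsg.pPrimeCore q (G ⧸ Cfsg.pPrimeCore q G) = ⊥ :=
    Cfsg.Agent.H14.pPrimeCore_quotient_eq_bot q G
  have hcen := centralizer_le_of_sylow q ((Q : Subgroup G).map π) hab hQq hidx hcore
  have hcls : ∀ v ∈ (Q : Subgroup G).map π, ∃ a : ℕ,
      (centralizer ({v} : Set (G ⧸ Cfsg.pPrimeCore q G))).index = p ^ a := by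
    rintro _ ⟨g, hg, rfl⟩
    have hgq : ∃ k : ℕ, orderOf g = q ^ k := by
      obtain ⟨k, hk⟩ := Q.isPGroup' ⟨g, hg⟩
      have h1 : g ^ q ^ k = 1 := congrArg Subtype.val hk
      obtain ⟨j, _, hj⟩ := (Nat.dvd_prime_pow hq).mp (orderOf_dvd_of_pow_eq_one h1)
      exact ⟨j, hj⟩
    obtain ⟨a, ha⟩ := h g hgq
    have hd := index_cen_map_dvd π hπs g
    rw [ha] at hd
    obtain ⟨b, _, hb⟩ := (Nat.dvd_prime_pow hp).mp hd
    exact ⟨b, hb⟩
  exact solvable_of_abelian_normal p q hp hq ((Q : Subgroup G).map π) hab hQq hidx hcen hcls hT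

end Cfsg.Agent.H13.Baer
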