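import Mathlib
import Cfsg.Agent.H33.C3.Defs

/-!
# C3-CENTZ (helper13, for helper33's S2071)

The centraliser of the monomial element `z` of order 11 (acting as the doubling map `beta`) in
the stabiliser of `a48` and of `leechU` is `⟨z⟩`, given the corresponding statement `StM24Cent`
about the Mathieu group.
-/

set_option autoImplicit false

namespace Cfsg.Agent.H13.C3

open Cfsg Cfsg.Agent.H9 Cfsg.Agent.H33 Cfsg.Agent.H93 Cfsg.Agent.H33.C3
open scoped Pointwise

/-- the sum over the 24 points, written out -/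
theorem centZ_sum_pts (f : GolayPt → ℤ) :
    ∑ i, f i = f none + (f (some 0) + f (some 1) + f (some 2) + f (some 3) + f (some 4) +
      f (some 5) + f (some 6) + f (some 7) + f (some 8) + f (some 9) + f (some 10) +
      f (some 11) + f (some 12) + f (some 13) + f (some 14) + f (some 15) + f (some 16) +
      f (some 17) + f (some 18) + f (some 19) + f (some 20) + f (some 21) + f (some 22)) := by
  rw [Fintype.sum_option]
  congr 1
  have h := Fin.sum_univ_eq_sum_range (fun n : ℕ => f (some (n : ZMod 23))) 23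
  have h2 : ∑ y : ZMod 23, f (some y) = ∑ i : Fin 23, f (some ((i : ℕ) : ZMod 23)) := by
    refine Finset.sum_congr rfl (fun y _ => ?_)
    congr 2
    exact (ZMod.natCast_zmod_val y).symm
  rw [h2, h]
  simp only [Finset.sum_range_succ, Finset.sum_range_zero, zero_add, Nat.cast_ofNat,
    Nat.cast_zero, Nat.cast_one]

theorem centZ_pow (f : GolayPt → ℤ) (hf : ∀ y : ZMod 23, f (some (2 * y)) = f (some y))
    (k : ℕ) (y y' : ZMod 23) (h : y' = 2 ^ k * y) : f (some y') = f (some y) := by
  subst h
  induction k generalizing y with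
  | zero => rw [pow_zero, one_mul]
  | succ k ih => rw [pow_succ, mul_assoc, ih, hf]

/-- a function invariant under doubling takes at most two values on the nonzero points -/
theorem centZ_orbit (f : GolayPt → ℤ) (hf : ∀ y : ZMod 23, f (some (2 * y)) = f (some y))
    (y : ZMod 23) (hy : y ≠ 0) : f (some y) = f (some 1) ∨ f (some y) = f (some (-1)) := by
  have hdec : ∀ y : ZMod 23, y ≠ 0 →
      ∃ k : Fin 11, y = 2 ^ (k : ℕ) * 1 ∨ y = 2 ^ (k : ℕ) * (-1) := by decide
  obtain ⟨k, h | h⟩ := hdec y hy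
  · exact Or.inl (centZ_pow f hf k 1 y h)
  · exact Or.inr (centZ_pow f hf k (-1) y h)

/-- the sum of a function invariant under doubling -/
theorem centZ_sum_inv (f : GolayPt → ℤ) (hf : ∀ y : ZMod 23, f (some (2 * y)) = f (some y)) :
    ∑ i, f i = f none + f (some 0) + 11 * f (some 1) + 11 * f (some (-1)) := by
  have e := centZ_pow f hf
  have e2 := e 1 1 2 (by decide)
  have e4 := e 2 1 4 (by decide)
  have e8 := e 3 1 8 (by decide)
  have e16 := e 4 1 16 (by decide)
  have e9 := e 5 1 9 (by decide)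
  have e18 := e 6 1 18 (by decide)
  have e13 := e 7 1 13 (by decide)
  have e3 := e 8 1 3 (by decide)
  have e6 := e 9 1 6 (by decide)
  have e12 := e 10 1 12 (by decide)
  have e22 := e 0 (-1) 22 (by decide)
  have e21 := e 1 (-1) 21 (by decide)
  have e19 := e 2 (-1) 19 (by decide)
  have e15 := e 3 (-1) 15 (by decide)
  have e7 := e 4 (-1) 7 (by decide)
  have e14 := e 5 (-1) 14 (by decide)
  have e5 := e 6 (-1) 5 (by decide)
  have e10 := e 7 (-1) 10 (by decide)
  have e20 := e 8 (-1) 20 (by decide)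
  have e17 := e 9 (-1) 17 (by decide)
  have e11 := e 10 (-1) 11 (by decide)
  rw [centZ_sum_pts, e2, e4, e8, e16, e9, e18, e13, e3, e6, e12, e22, e21, e19, e15, e7, e14,
    e5, e10, e20, e17, e11]
  ring

theorem centZ_arith (a b c d : ℤ) (h64 : b ^ 2 + a ^ 2 + 11 * c ^ 2 + 11 * d ^ 2 = 64)
    (h40 : b + 5 * a + 11 * c + 11 * d = 40) (h32 : b + a = 8) :
    a = 8 ∧ b = 0 ∧ c = 0 ∧ d = 0 := by
  have hb' : b = 8 - a := by linarith
  subst hb'
  have h1 : 11 * (c ^ 2 + d ^ 2) = 2 * a * (8 - a) := by nlinarith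
  have ha0 : 0 ≤ a := by nlinarith [sq_nonneg a, sq_nonneg c, sq_nonneg d]
  have ha8 : a ≤ 8 := by nlinarith [sq_nonneg a, sq_nonneg c, sq_nonneg d]
  obtain ⟨t, ht⟩ : ∃ t : ℤ, t = c ^ 2 + d ^ 2 := ⟨_, rfl⟩
  rw [← ht] at h1
  have ht0 : t = 0 := by
    interval_cases a <;> omega
  rw [ht0] at ht
  have hc0 : c = 0 := by nlinarith [sq_nonneg c, sq_nonneg d]
  have hd0 : d = 0 := by nlinarith [sq_nonneg c, sq_nonneg d]
  subst hc0
  subst hd0
  exact ⟨by omega, by omega, rfl, rfl⟩

/-- the permutation of a monomial element is unique -/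
theorem centZ_perm_unique {g : ↥Co0} {σ σ' : Equiv.Perm GolayPt} {c c' : Finset GolayPt}
    (h : ActsAs g σ c) (h' : ActsAs g σ' c') : σ = σ' := by
  apply Equiv.ext
  intro i
  by_contra hne
  have h1 := (h ⟨bvec i, bvec_mem i⟩).symm.trans (h' ⟨bvec i, bvec_mem i⟩)
  simp only at h1
  unfold bvec at h1
  rw [signedPerm_single, signedPerm_single] at h1
  have h3 := congrFun h1 (σ i)
  rw [Pi.single_eq_same, Pi.single_eq_of_ne hne] at h3
  split_ifs at h3 <;> norm_num at h3

theorem centZ_dot_comm (x y : GolayPt → ℤ) : dotInt x y = dotInt y x := by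
  unfold dotInt
  exact Finset.sum_congr rfl (fun i _ => mul_comm _ _)

/-- **C3-CENTZ**. -/
theorem centZ (hM : StM24Cent) : StCentZ := by
  intro z hz s hs hsU hcomm
  have h2y : ∀ y : ZMod 23, y ≠ 0 → (2 : ZMod 23) * y ≠ 0 := by decide
  have hsa : (s : Equiv.Perm leechLattice) a48 = a48 := MulAction.mem_stabilizer_iff.mp hs
  have hsu : (s : Equiv.Perm leechLattice) Cfsg.Spor.leechU = Cfsg.Spor.leechU := hsU
  have hA : ∀ p : GolayPt, vec LF552A p = if p = some 0 then 5 else 1 := by decide +kernel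
  have hU : ∀ p : GolayPt, Cfsg.Spor.vecU p = if p = none ∨ p = some 0 then 4 else 0 :=
    fun _ => rfl
  obtain ⟨B, hB⟩ : ∃ B : leechLattice, (B : GolayPt → ℤ) = bvec (some 0) :=
    ⟨⟨bvec (some 0), bvec_mem _⟩, rfl⟩
  have hzB : (z : Equiv.Perm leechLattice) B = B := by
    apply Subtype.ext
    rw [hz B, hB]
    unfold bvec
    rw [signedPerm_single]
    have h0 : beta (some 0) = some 0 := by decide
    rw [h0, if_neg (Finset.notMem_empty _)]
  obtain ⟨w, hw⟩ : ∃ w : leechLattice, w = (s : Equiv.Perm leechLattice) B := ⟨_, rfl⟩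
  have hzw : (z : Equiv.Perm leechLattice) w = w := by
    have h1 := congrArg (fun g : ↥Co0 => (g : Equiv.Perm leechLattice) B) hcomm
    have h2 : (z : Equiv.Perm leechLattice) ((s : Equiv.Perm leechLattice) B)
        = (s : Equiv.Perm leechLattice) ((z : Equiv.Perm leechLattice) B) := h1.symm
    rw [hw, h2, hzB]
  have hinv : ∀ y : ZMod 23,
      (w : GolayPt → ℤ) (some (2 * y)) = (w : GolayPt → ℤ) (some y) := by
    intro y
    have h1 := congrFun (hz w) (some (2 * y))
    rw [hzw] at h1
    unfold signedPerm at h1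
    rw [if_neg (Finset.notMem_empty _)] at h1
    have h2 : beta.symm (some (2 * y)) = some y := by
      rw [Equiv.symm_apply_eq]
      rfl
    rw [h2] at h1
    exact h1
  -- the three equations
  have h64 : sqNorm (w : GolayPt → ℤ) = 64 := by
    rw [hw, s.2.2 B, hB]
    exact sqNorm_bvec _
  have h40 : dotInt (vec LF552A) (w : GolayPt → ℤ) = 40 := by
    have h1 := dot_preserved s.2 a48 B
    rw [hsa, ← hw, hB] at h1
    have h2 : (a48 : GolayPt → ℤ) = vec LF552A := rfl
    rw [h2] at h1
    rw [h1]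
    unfold bvec
    rw [dotInt_bvec, hA, if_pos rfl]
    norm_num
  have h32 : dotInt Cfsg.Spor.vecU (w : GolayPt → ℤ) = 32 := by
    have h1 := dot_preserved s.2 Cfsg.Spor.leechU B
    rw [hsu, ← hw, hB] at h1
    have h2 : (Cfsg.Spor.leechU : GolayPt → ℤ) = Cfsg.Spor.vecU := rfl
    rw [h2] at h1
    rw [h1]
    unfold bvec
    rw [dotInt_bvec, hU, if_pos (Or.inr rfl)]
    norm_num
  have e64 := centZ_sum_inv (fun i => (w : GolayPt → ℤ) i ^ 2)
    (fun y => by show (w : GolayPt → ℤ) (some (2 * y)) ^ 2 = _; rw [hinv])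
  have e40 := centZ_sum_inv (fun i => vec LF552A i * (w : GolayPt → ℤ) i)
    (fun y => by
      show vec LF552A (some (2 * y)) * (w : GolayPt → ℤ) (some (2 * y)) = _
      rw [hinv, hA, hA]
      by_cases hy : y = 0
      · subst hy
        rfl
      · have h2 : (2 : ZMod 23) * y ≠ 0 := h2y y hy
        rw [if_neg (fun h => h2 (Option.some.inj h)), if_neg (fun h => hy (Option.some.inj h))])
  have e32 := centZ_sum_inv (fun i => Cfsg.Spor.vecU i * (w : GolayPt → ℤ) i)
    (fun y => by
      show Cfsg.Spor.vecU (some (2 * y)) * (w : GolayPt → ℤ) (some (2 * y)) = _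
      rw [hinv, hU, hU]
      by_cases hy : y = 0
      · subst hy
        rfl
      · have h2 : (2 : ZMod 23) * y ≠ 0 := h2y y hy
        rw [if_neg (fun h => h.elim (fun h => Option.some_ne_none _ h)
          (fun h => h2 (Option.some.inj h))),
          if_neg (fun h => h.elim (fun h => Option.some_ne_none _ h)
          (fun h => hy (Option.some.inj h)))])
  unfold sqNorm at h64
  unfold dotInt at h40 h32
  have v1 : vec LF552A none = 1 := by decide +kernel
  have v2 : vec LF552A (some 0) = 5 := by decide +kernel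
  have v3 : vec LF552A (some 1) = 1 := by decide +kernel
  have v4 : vec LF552A (some (-1)) = 1 := by decide +kernel
  have u1 : Cfsg.Spor.vecU none = 4 := by decide
  have u2 : Cfsg.Spor.vecU (some 0) = 4 := by decide
  have u3 : Cfsg.Spor.vecU (some 1) = 0 := by decide
  have u4 : Cfsg.Spor.vecU (some (-1)) = 0 := by decide
  rw [e64] at h64
  rw [e40, v1, v2, v3, v4] at h40
  rw [e32, u1, u2, u3, u4] at h32
  have hne5 : (none : GolayPt) ≠ some 0 := by decide
  obtain ⟨ha, hb, hc, hd⟩ := centZ_arith ((w : GolayPt → ℤ) (some 0)) ((w : GolayPt → ℤ) none)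
    ((w : GolayPt → ℤ) (some 1)) ((w : GolayPt → ℤ) (some (-1))) h64 (by linarith) (by linarith)
  have hwfun : (w : GolayPt → ℤ) = bvec (some 0) := by
    funext i
    unfold bvec
    cases i with
    | none => rw [hb, Pi.single_eq_of_ne hne5]
    | some y =>
      by_cases hy : y = 0
      · subst hy
        rw [ha, Pi.single_eq_same]
      · rw [Pi.single_eq_of_ne (fun h => hy (Option.some.inj h))]
        rcases centZ_orbit (fun i => (w : GolayPt → ℤ) i) hinv y hy with h | h
        · exact h.trans hc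
        · exact h.trans hd
  have hsB : (s : Equiv.Perm leechLattice) B = B := by
    rw [← hw]
    exact Subtype.ext (hwfun.trans hB.symm)
  have hclB : cl (E0 : GolayPt → ℤ) = cl (B : GolayPt → ℤ) :=
    ((mem_stdCross_iff B.2).mp (by rw [hB]; exact ⟨some 0, 8, Or.inl rfl, rfl⟩)).2.symm
  have hcross : s ∈ crossStab := by
    rw [mem_crossStab, cl_map_of s.2 hclB, hsB]
    exact hclB.symm
  obtain ⟨σ, hσ, c, hc, hsσ⟩ := crossStab_actsAs s hcross
  have hsa' : signedPerm σ c (vec LF552A) = vec LF552A := by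
    have h1 := hsσ a48
    rw [hsa] at h1
    exact h1.symm
  have hc0 : c = ∅ := by
    apply Finset.eq_empty_of_forall_notMem
    intro i hi
    have h1 := congrFun hsa' i
    unfold signedPerm at h1
    rw [if_pos hi, hA, hA] at h1
    split_ifs at h1 <;> omega
  subst hc0
  have hσ0 : σ (some 0) = some 0 := by
    have h1 := congrFun hsa' (some 0)
    unfold signedPerm at h1
    rw [if_neg (Finset.notMem_empty _), hA, hA, if_pos rfl] at h1
    have h2 : σ.symm (some 0) = some 0 := by
      by_contra hne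
      rw [if_neg hne] at h1
      omega
    rw [Equiv.symm_apply_eq] at h2
    exact h2.symm
  have hsu' : signedPerm σ ∅ Cfsg.Spor.vecU = Cfsg.Spor.vecU := by
    have h1 := hsσ Cfsg.Spor.leechU
    rw [hsu] at h1
    exact h1.symm
  have hσn : σ none = none := by
    have h1 := congrFun hsu' none
    unfold signedPerm at h1
    rw [if_neg (Finset.notMem_empty _), hU, hU, if_pos (Or.inl rfl)] at h1
    have h2 : σ.symm none = none ∨ σ.symm none = some 0 := by
      by_contra hne
      rw [if_neg hne] at h1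
      omega
    rcases h2 with h2 | h2
    · rw [Equiv.symm_apply_eq] at h2
      exact h2.symm
    · rw [Equiv.symm_apply_eq, hσ0] at h2
      exact absurd h2 (by decide)
  have hcommσ : σ * beta = beta * σ := by
    have h1 := actsAs_mul hsσ hz
    have h2 := actsAs_mul hz hsσ
    rw [hcomm] at h1
    exact centZ_perm_unique h1 h2
  have hmem := hM σ hσ hσn hσ0 hcommσ
  obtain ⟨n, hn⟩ := (Submonoid.mem_powers_iff _ _).mp (mem_powers_iff_mem_zpowers.mpr hmem)
  have hzn : ∀ n : ℕ, ActsAs (z ^ n) (beta ^ n) ∅ := by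
    intro n
    induction n with
    | zero =>
      rw [pow_zero, pow_zero]
      exact actsAs_one
    | succ n ih =>
      have h1 := actsAs_mul ih hz
      have h2 : symmDiff (∅ : Finset GolayPt) ((beta ^ n) • (∅ : Finset GolayPt)) = ∅ := by
        simp
      rw [h2] at h1
      rw [pow_succ, pow_succ]
      exact h1
  have h3 := hzn n
  rw [hn] at h3
  have hsz : s = z ^ n := actsAs_ext hsσ h3
  rw [hsz]
  exact Subgroup.pow_mem _ (Subgroup.mem_zpowers z) n

example (hM : Cfsg.Agent.H33.C3.StM24Cent) : Cfsg.Agent.H33.C3.StCentZ := centZ hM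

end Cfsg.Agent.H13.C3

#print axioms Cfsg.Agent.H13.C3.centZ
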