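import Mathlib
import Cfsg.Agent.H33.C2.Defs
import Cfsg.Agent.H13.C3CentZ

/-!
# C2-FIXA and C2-FIXB (helper13, parallel take for helper33's S2070)

`z` acts as the doubling map `beta`.  An element `s` of the stabiliser of `b32` and of `leechU'`
with `z (s • leechU) = s • leechU` fixes `leechU`, hence `8 e_none`, hence is an unsigned
coordinate permutation fixing the points `none` and `some 0`.  So `s` centralising `z` is a power
of `z` (given `StM24Cent`), and `s` cannot invert `z` (given `StM24Inv`).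
-/

set_option autoImplicit false

namespace Cfsg.Agent.H13.C2

open Cfsg Cfsg.Agent.H9 Cfsg.Agent.H33 Cfsg.Agent.H93 Cfsg.Agent.H33.C3 Cfsg.Agent.H33.C2
  Cfsg.Agent.H13.C3
open scoped Pointwise

theorem fix_arith (a b c d : ℤ) (h32 : a ^ 2 + b ^ 2 + 11 * c ^ 2 + 11 * d ^ 2 = 32)
    (h0 : a = b) (h8 : a + -3 * b + 11 * c + 11 * d = -8) :
    a = 4 ∧ b = 4 ∧ c = 0 ∧ d = 0 := by
  subst h0
  have h1 : 11 * (c ^ 2 + d ^ 2) = 32 - 2 * a ^ 2 := by nlinarith
  have ha0 : -4 ≤ a := by nlinarith [sq_nonneg a, sq_nonneg c, sq_nonneg d]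
  have ha8 : a ≤ 4 := by nlinarith [sq_nonneg a, sq_nonneg c, sq_nonneg d]
  obtain ⟨t, ht⟩ : ∃ t : ℤ, t = c ^ 2 + d ^ 2 := ⟨_, rfl⟩
  rw [← ht] at h1
  have ht0 : t = 0 := by
    interval_cases a <;> omega
  rw [ht0] at ht
  have hc0 : c = 0 := by nlinarith [sq_nonneg c, sq_nonneg d]
  have hd0 : d = 0 := by nlinarith [sq_nonneg c, sq_nonneg d]
  subst hc0
  subst hd0
  have ha4 : a = 4 := by omega
  exact ⟨ha4, ha4, rfl, rfl⟩

/-- the common core of FIXA and FIXB -/
theorem fix_core (z : ↥Co0) (hz : ActsAs z beta ∅) (s : ↥Co0) (hs : s ∈ G2)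
    (hsU' : s • Cfsg.Spor.leechU' = Cfsg.Spor.leechU')
    (hzv : (z : Equiv.Perm leechLattice) ((s : Equiv.Perm leechLattice) Cfsg.Spor.leechU) =
      (s : Equiv.Perm leechLattice) Cfsg.Spor.leechU) :
    ∃ σ : Equiv.Perm GolayPt, σ ∈ M24 ∧ ActsAs s σ ∅ ∧ σ none = none ∧ σ (some 0) = some 0 := by
  have hsb : (s : Equiv.Perm leechLattice) b32 = b32 := MulAction.mem_stabilizer_iff.mp hs
  have hsu' : (s : Equiv.Perm leechLattice) Cfsg.Spor.leechU' = Cfsg.Spor.leechU' := hsU'
  have hA : ∀ p : GolayPt, vec LF4600A p = if p = some 0 then -3 else 1 := by decide +kernel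
  have hU : ∀ p : GolayPt, Cfsg.Spor.vecU p = if p = none ∨ p = some 0 then 4 else 0 :=
    fun _ => rfl
  have hU' : ∀ p : GolayPt,
      Cfsg.Spor.vecU' p = if p = none then 4 else if p = some 0 then -4 else 0 := fun _ => rfl
  have h2y : ∀ y : ZMod 23, y ≠ 0 → (2 : ZMod 23) * y ≠ 0 := by decide
  obtain ⟨w, hw⟩ : ∃ w : leechLattice, w = (s : Equiv.Perm leechLattice) Cfsg.Spor.leechU :=
    ⟨_, rfl⟩
  rw [← hw] at hzv
  have hinv : ∀ y : ZMod 23,
      (w : GolayPt → ℤ) (some (2 * y)) = (w : GolayPt → ℤ) (some y) := by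
    intro y
    have h1 := congrFun (hz w) (some (2 * y))
    rw [hzv] at h1
    unfold signedPerm at h1
    rw [if_neg (Finset.notMem_empty _)] at h1
    have h2 : beta.symm (some (2 * y)) = some y := by
      rw [Equiv.symm_apply_eq]
      rfl
    rw [h2] at h1
    exact h1
  have hUc : (Cfsg.Spor.leechU : GolayPt → ℤ) = Cfsg.Spor.vecU := rfl
  have hUc' : (Cfsg.Spor.leechU' : GolayPt → ℤ) = Cfsg.Spor.vecU' := rfl
  have hbc : (b32 : GolayPt → ℤ) = vec LF4600A := rfl
  -- the three equations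
  have h32 : sqNorm (w : GolayPt → ℤ) = 32 := by
    rw [hw, s.2.2 Cfsg.Spor.leechU, hUc]
    unfold sqNorm
    rw [centZ_sum_pts]
    simp only [hU]
    decide
  have h0 : dotInt Cfsg.Spor.vecU' (w : GolayPt → ℤ) = 0 := by
    have h1 := dot_preserved s.2 Cfsg.Spor.leechU' Cfsg.Spor.leechU
    rw [hsu', ← hw, hUc, hUc'] at h1
    rw [h1]
    unfold dotInt
    rw [centZ_sum_pts]
    simp only [hU, hU']
    decide
  have h8 : dotInt (vec LF4600A) (w : GolayPt → ℤ) = -8 := by
    have h1 := dot_preserved s.2 b32 Cfsg.Spor.leechU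
    rw [hsb, ← hw, hUc, hbc] at h1
    rw [h1]
    unfold dotInt
    rw [centZ_sum_pts]
    simp only [hU, hA]
    decide
  have e32 := centZ_sum_inv (fun i => (w : GolayPt → ℤ) i ^ 2)
    (fun y => by show (w : GolayPt → ℤ) (some (2 * y)) ^ 2 = _; rw [hinv])
  have e8 := centZ_sum_inv (fun i => vec LF4600A i * (w : GolayPt → ℤ) i)
    (fun y => by
      show vec LF4600A (some (2 * y)) * (w : GolayPt → ℤ) (some (2 * y)) = _
      rw [hinv, hA, hA]
      by_cases hy : y = 0
      · subst hy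
        rfl
      · have h2 : (2 : ZMod 23) * y ≠ 0 := h2y y hy
        rw [if_neg (fun h => h2 (Option.some.inj h)), if_neg (fun h => hy (Option.some.inj h))])
  have e0 := centZ_sum_inv (fun i => Cfsg.Spor.vecU' i * (w : GolayPt → ℤ) i)
    (fun y => by
      show Cfsg.Spor.vecU' (some (2 * y)) * (w : GolayPt → ℤ) (some (2 * y)) = _
      rw [hinv, hU', hU']
      by_cases hy : y = 0
      · subst hy
        rfl
      · have h2 : (2 : ZMod 23) * y ≠ 0 := h2y y hy
        rw [if_neg (Option.some_ne_none _), if_neg (Option.some_ne_none _),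
          if_neg (fun h => h2 (Option.some.inj h)), if_neg (fun h => hy (Option.some.inj h))])
  unfold sqNorm at h32
  unfold dotInt at h0 h8
  have v1 : vec LF4600A none = 1 := by decide +kernel
  have v2 : vec LF4600A (some 0) = -3 := by decide +kernel
  have v3 : vec LF4600A (some 1) = 1 := by decide +kernel
  have v4 : vec LF4600A (some (-1)) = 1 := by decide +kernel
  have u1 : Cfsg.Spor.vecU' none = 4 := by decide
  have u2 : Cfsg.Spor.vecU' (some 0) = -4 := by decide
  have u3 : Cfsg.Spor.vecU' (some 1) = 0 := by decide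
  have u4 : Cfsg.Spor.vecU' (some (-1)) = 0 := by decide
  rw [e32] at h32
  rw [e8, v1, v2, v3, v4] at h8
  rw [e0, u1, u2, u3, u4] at h0
  have hne5 : (none : GolayPt) ≠ some 0 := by decide
  obtain ⟨ha, hb, hc, hd⟩ := fix_arith ((w : GolayPt → ℤ) none) ((w : GolayPt → ℤ) (some 0))
    ((w : GolayPt → ℤ) (some 1)) ((w : GolayPt → ℤ) (some (-1))) h32 (by linarith) (by linarith)
  have hwfun : (w : GolayPt → ℤ) = Cfsg.Spor.vecU := by
    funext i
    rw [hU]
    cases i with
    | none => rw [ha, if_pos (Or.inl rfl)]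
    | some y =>
      by_cases hy : y = 0
      · subst hy
        rw [hb, if_pos (Or.inr rfl)]
      · rw [if_neg (fun h => h.elim (fun h => Option.some_ne_none _ h)
          (fun h => hy (Option.some.inj h)))]
        rcases centZ_orbit (fun i => (w : GolayPt → ℤ) i) hinv y hy with h | h
        · exact h.trans hc
        · exact h.trans hd
  have hsU : (s : Equiv.Perm leechLattice) Cfsg.Spor.leechU = Cfsg.Spor.leechU := by
    rw [← hw]
    exact Subtype.ext hwfun
  -- `s` fixes `8 e_none = leechU + leechU'`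
  have hE : (E0 : leechLattice) = Cfsg.Spor.leechU + Cfsg.Spor.leechU' := by
    apply Subtype.ext
    show bvec none = Cfsg.Spor.vecU + Cfsg.Spor.vecU'
    funext i
    unfold bvec
    rw [Pi.add_apply, hU, hU']
    cases i with
    | none => simp
    | some y =>
      by_cases hy : y = 0
      · subst hy
        simp
      · have h1 : (some y : GolayPt) ≠ some 0 := fun h => hy (Option.some.inj h)
        simp [h1]
  have hsE : (s : Equiv.Perm leechLattice) E0 = E0 := by
    rw [hE, s.2.1, hsU, hsu']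
  have hcross : s ∈ crossStab := by
    rw [mem_crossStab, hsE]
  obtain ⟨σ, hσ, c, hc, hsσ⟩ := crossStab_actsAs s hcross
  have hsb' : signedPerm σ c (vec LF4600A) = vec LF4600A := by
    have h1 := hsσ b32
    rw [hsb] at h1
    exact h1.symm
  have hσ0s : σ.symm (some 0) = some 0 := by
    have h1 := congrFun hsb' (some 0)
    unfold signedPerm at h1
    rw [hA, hA, if_pos rfl] at h1
    by_contra hne
    rw [if_neg hne] at h1
    split_ifs at h1 <;> omega
  have hc0 : c = ∅ := by
    apply Finset.eq_empty_of_forall_notMem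
    intro i hi
    have h1 := congrFun hsb' i
    unfold signedPerm at h1
    rw [if_pos hi, hA, hA] at h1
    by_cases hi0 : i = some 0
    · subst hi0
      rw [hσ0s, if_pos rfl] at h1
      omega
    · have h2 : σ.symm i ≠ some 0 := by
        intro h
        apply hi0
        have h3 : σ.symm i = σ.symm (some 0) := by rw [h, hσ0s]
        exact σ.symm.injective h3
      rw [if_neg h2, if_neg hi0] at h1
      omega
  subst hc0
  have hσ0 : σ (some 0) = some 0 := by
    rw [Equiv.symm_apply_eq] at hσ0s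
    exact hσ0s.symm
  have hσn : σ none = none := by
    have h1 := hsσ E0
    rw [hsE] at h1
    have h2 : (E0 : GolayPt → ℤ) = Pi.single none 8 := rfl
    rw [h2, signedPerm_single, if_neg (Finset.notMem_empty _)] at h1
    by_contra hne
    have h3 := congrFun h1 (σ none)
    rw [Pi.single_eq_same, Pi.single_eq_of_ne hne] at h3
    omega
  exact ⟨σ, hσ, hsσ, hσn, hσ0⟩

theorem fix_zU (z : ↥Co0) (hz : ActsAs z beta ∅) :
    (z : Equiv.Perm leechLattice) Cfsg.Spor.leechU = Cfsg.Spor.leechU := by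
  apply Subtype.ext
  rw [hz Cfsg.Spor.leechU]
  have hUc : (Cfsg.Spor.leechU : GolayPt → ℤ) = Cfsg.Spor.vecU := rfl
  rw [hUc]
  funext i
  unfold signedPerm
  rw [if_neg (Finset.notMem_empty _)]
  revert i
  decide

/-- **C2-FIXA**. -/
theorem fixA (hM : Cfsg.Agent.H33.C3.StM24Cent) : StFixA := by
  intro z hz s hs hsU' hcomm
  have hzv : (z : Equiv.Perm leechLattice) ((s : Equiv.Perm leechLattice) Cfsg.Spor.leechU) =
      (s : Equiv.Perm leechLattice) Cfsg.Spor.leechU := by
    have h1 := congrArg (fun g : ↥Co0 => (g : Equiv.Perm leechLattice) Cfsg.Spor.leechU) hcomm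
    have h2 : (z : Equiv.Perm leechLattice) ((s : Equiv.Perm leechLattice) Cfsg.Spor.leechU)
        = (s : Equiv.Perm leechLattice) ((z : Equiv.Perm leechLattice) Cfsg.Spor.leechU) :=
      h1.symm
    rw [h2, fix_zU z hz]
  obtain ⟨σ, hσ, hsσ, hσn, hσ0⟩ := fix_core z hz s hs hsU' hzv
  have hcommσ : σ * beta = beta * σ := by
    have h1 := actsAs_mul hsσ hz
    have h2 := actsAs_mul hz hsσ
    rw [hcomm] at h1
    exact centZ_perm_unique h1 h2
  have hmem := hM σ hσ hσn hσ0 hcommσ
  obtain ⟨n, hn⟩ := (Submonoid.mem_powers_iff _ _).mp (mem_powers_iff_mem_zpowers.mpr hmem)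
  have hzn : ∀ n : ℕ, ActsAs (z ^ n) (beta ^ n) ∅ := by
    intro n
    induction n with
    | zero =>
      rw [pow_zero, pow_zero]
      exact actsAs_one
    | succ n ih =>
      have h1 := actsAs_mul ih hz
      have h2 : symmDiff (∅ : Finset GolayPt) ((beta ^ n) • (∅ : Finset GolayPt)) = ∅ := by
        simp
      rw [h2] at h1
      rw [pow_succ, pow_succ]
      exact h1
  have h3 := hzn n
  rw [hn] at h3
  have hsz : s = z ^ n := actsAs_ext hsσ h3
  rw [hsz]
  exact Subgroup.pow_mem _ (Subgroup.mem_zpowers z) n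

/-- **C2-FIXB**. -/
theorem fixB (hM : StM24Inv) : StFixB := by
  intro z hz s hs hsU' hinv
  have hzsz : z * s * z = s := by
    have h1 : z * (s * z * s⁻¹) = 1 := by rw [hinv, mul_inv_cancel]
    have h2 : z * s * z * s⁻¹ = 1 := by rw [← h1]; group
    exact mul_inv_eq_one.mp h2
  have hzv : (z : Equiv.Perm leechLattice) ((s : Equiv.Perm leechLattice) Cfsg.Spor.leechU) =
      (s : Equiv.Perm leechLattice) Cfsg.Spor.leechU := by
    have h1 := congrArg (fun g : ↥Co0 => (g : Equiv.Perm leechLattice) Cfsg.Spor.leechU) hzsz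
    have h2 : (z : Equiv.Perm leechLattice) ((s : Equiv.Perm leechLattice)
        ((z : Equiv.Perm leechLattice) Cfsg.Spor.leechU))
        = (s : Equiv.Perm leechLattice) Cfsg.Spor.leechU := h1
    rw [fix_zU z hz] at h2
    exact h2
  obtain ⟨σ, hσ, hsσ, hσn, hσ0⟩ := fix_core z hz s hs hsU' hzv
  have h1 := actsAs_mul (actsAs_mul hz hsσ) hz
  rw [hzsz] at h1
  have h2 : beta * σ * beta = σ := centZ_perm_unique h1 hsσ
  apply hM σ hσ hσn hσ0
  have h3 : σ * beta * σ⁻¹ * beta = 1 := by
    have h4 : σ * beta * σ⁻¹ * beta = σ * beta * (beta * σ * beta)⁻¹ * beta := by rw [h2]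
    rw [h4]
    group
  exact eq_inv_of_mul_eq_one_left h3

example (hM : Cfsg.Agent.H33.C3.StM24Cent) : Cfsg.Agent.H33.C2.StFixA := fixA hM
example (hM : Cfsg.Agent.H33.C2.StM24Inv) : Cfsg.Agent.H33.C2.StFixB := fixB hM

end Cfsg.Agent.H13.C2

#print axioms Cfsg.Agent.H13.C2.fixA
#print axioms Cfsg.Agent.H13.C2.fixB
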