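import Mathlib

set_option autoImplicit false

namespace Cfsg.Agent.H13

theorem pow_conj_aux {G : Type*} [Group G] (d v w : G) (hdw : d * w = w * d)
    (h : d * v * d⁻¹ = w * v) (k : ℕ) :
    d ^ k * v * (d ^ k)⁻¹ = w ^ k * v := by
  induction k with
  | zero => simp
  | succ k ih =>
    have hdwk : d * w ^ k = w ^ k * d := (Commute.pow_right (show Commute d w from hdw) k).eq
    calc d ^ (k + 1) * v * (d ^ (k + 1))⁻¹ = d * (d ^ k * v * (d ^ k)⁻¹) * d⁻¹ := by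
          rw [pow_succ']; group
      _ = d * (w ^ k * v) * d⁻¹ := by rw [ih]
      _ = (d * w ^ k) * d⁻¹ * (d * v * d⁻¹) := by group
      _ = (w ^ k * d) * d⁻¹ * (w * v) := by rw [hdwk, h]
      _ = w ^ k * w * v := by group
      _ = w ^ (k + 1) * v := by rw [pow_succ]

/-- In a nilpotent group, elements of coprime orders commute. -/
theorem coprime_commute (K : Type*) [Group K] [Group.IsNilpotent K] :
    ∀ x z : K, (orderOf x).Coprime (orderOf z) → x * z = z * x := by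
  refine Group.nilpotent_center_quotient_ind
    (P := fun K _ _ => ∀ x z : K, (orderOf x).Coprime (orderOf z) → x * z = z * x) K ?_ ?_
  · intro K _ _ x z _
    exact Subsingleton.elim _ _
  · intro K _ _ ih x z hcop
    have h1 := ih (QuotientGroup.mk' _ x) (QuotientGroup.mk' _ z)
      (Nat.Coprime.coprime_dvd_left (orderOf_map_dvd (QuotientGroup.mk' _) x)
        (Nat.Coprime.coprime_dvd_right (orderOf_map_dvd (QuotientGroup.mk' _) z) hcop))
    have hc : x * z * x⁻¹ * z⁻¹ ∈ Subgroup.center K := by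
      rw [← QuotientGroup.eq_one_iff]
      have : ((x * z * x⁻¹ * z⁻¹ : K) : K ⧸ Subgroup.center K) =
          (QuotientGroup.mk' _ x) * (QuotientGroup.mk' _ z) * (QuotientGroup.mk' _ x)⁻¹ *
            (QuotientGroup.mk' _ z)⁻¹ := rfl
      rw [this, h1]; group
    have hcz : ∀ g : K, g * (x * z * x⁻¹ * z⁻¹) = (x * z * x⁻¹ * z⁻¹) * g :=
      fun g => Subgroup.mem_center_iff.mp hc g
    have hcz' : ∀ g : K, g * (x * z * x⁻¹ * z⁻¹)⁻¹ = (x * z * x⁻¹ * z⁻¹)⁻¹ * g := by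
      intro g
      have := hcz g
      calc g * (x * z * x⁻¹ * z⁻¹)⁻¹
          = (x * z * x⁻¹ * z⁻¹)⁻¹ * ((x * z * x⁻¹ * z⁻¹) * g) * (x * z * x⁻¹ * z⁻¹)⁻¹ := by group
        _ = (x * z * x⁻¹ * z⁻¹)⁻¹ * (g * (x * z * x⁻¹ * z⁻¹)) * (x * z * x⁻¹ * z⁻¹)⁻¹ := by
            rw [this]
        _ = (x * z * x⁻¹ * z⁻¹)⁻¹ * g := by group
    have e1 := pow_conj_aux x z (x * z * x⁻¹ * z⁻¹) (hcz x) (by group) (orderOf x)
    have e2 := pow_conj_aux z x (x * z * x⁻¹ * z⁻¹)⁻¹ (hcz' z) (by group) (orderOf z)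
    rw [pow_orderOf_eq_one] at e1 e2
    have hc1 : (x * z * x⁻¹ * z⁻¹) ^ orderOf x = 1 := by
      have : (x * z * x⁻¹ * z⁻¹) ^ orderOf x * z = 1 * z := by rw [← e1]; group
      exact mul_right_cancel this
    have hc2 : (x * z * x⁻¹ * z⁻¹) ^ orderOf z = 1 := by
      have : ((x * z * x⁻¹ * z⁻¹)⁻¹) ^ orderOf z * x = 1 * x := by rw [← e2]; group
      have h2 := mul_right_cancel this
      rw [inv_pow, inv_eq_one] at h2
      exact h2
    have hdvd : orderOf (x * z * x⁻¹ * z⁻¹) ∣ Nat.gcd (orderOf x) (orderOf z) :=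
      Nat.dvd_gcd (orderOf_dvd_of_pow_eq_one hc1) (orderOf_dvd_of_pow_eq_one hc2)
    rw [Nat.Coprime.gcd_eq_one hcop] at hdvd
    have hc0 : x * z * x⁻¹ * z⁻¹ = 1 := orderOf_eq_one_iff.mp (Nat.dvd_one.mp hdvd)
    calc x * z = (x * z * x⁻¹ * z⁻¹) * z * x := by group
      _ = z * x := by rw [hc0, one_mul]

/-- version for elements of a nilpotent subgroup -/
theorem coprime_commute_of_mem {G : Type*} [Group G] (K : Subgroup G) (hK : Group.IsNilpotent K)
    {x z : G} (hx : x ∈ K) (hz : z ∈ K) (h : (orderOf x).Coprime (orderOf z)) : x * z = z * x := by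
  have := coprime_commute K (⟨x, hx⟩ : K) ⟨z, hz⟩ (by
    rw [← Subgroup.orderOf_coe, ← Subgroup.orderOf_coe]; exact h)
  exact congrArg Subtype.val this

open scoped commutatorElement in
theorem commutator_mul_central {G : Type*} [Group G] (a b u v : G)
    (hub : u * b = b * u) (hva : v * a = a * v) (huv : u * v = v * u) :
    ⁅a * u, b * v⁆ = ⁅a, b⁆ := by
  simp only [commutatorElement_def]
  calc a * u * (b * v) * (a * u)⁻¹ * (b * v)⁻¹
      = a * (u * b) * v * u⁻¹ * a⁻¹ * v⁻¹ * b⁻¹ := by group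
    _ = a * (b * u) * v * u⁻¹ * a⁻¹ * v⁻¹ * b⁻¹ := by rw [hub]
    _ = a * b * (u * v) * u⁻¹ * a⁻¹ * v⁻¹ * b⁻¹ := by group
    _ = a * b * (v * u) * u⁻¹ * a⁻¹ * v⁻¹ * b⁻¹ := by rw [huv]
    _ = a * b * (v * a⁻¹) * v⁻¹ * b⁻¹ := by group
    _ = a * b * (a⁻¹ * v) * v⁻¹ * b⁻¹ := by
        have : v * a⁻¹ = a⁻¹ * v := by
          calc v * a⁻¹ = a⁻¹ * (a * v) * a⁻¹ := by group
            _ = a⁻¹ * (v * a) * a⁻¹ := by rw [hva]
            _ = a⁻¹ * v := by group
        rw [this]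
    _ = a * b * a⁻¹ * b⁻¹ := by group

end Cfsg.Agent.H13
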