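import Mathlib

/-!
# A dihedral group `⟨ρ⟩ ⋊ ⟨a⟩` acting on a normal subgroup `Q` with `C_Q(ρ) = 1`

Counting lemma: `|C_Q(a)|² = |Q|` and every involution in the coset `aQ` is `Q`-conjugate
to `a`.
-/

set_option autoImplicit false
set_option linter.style.haveILetI false

namespace Cfsg.Agent.H13

open Finset

theorem dih_core {G : Type*} [Group G] [Finite G] (Q : Subgroup G) [hQ : Q.Normal] (ρ σ a : G)
    (hρQ : ∀ u ∈ Q, u * ρ = ρ * u → u = 1) (ha : a * a = 1)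
    (hσ : σ * σ = ρ) (hσ' : a * σ * a⁻¹ = σ⁻¹) :
    Nat.card ↥(Q ⊓ Subgroup.centralizer ({a} : Set G)) ^ 2 = Nat.card Q ∧
    ∀ u ∈ Q, a * u * a⁻¹ = u⁻¹ → ∃ w ∈ Q, w * a * w⁻¹ = a * u := by
  classical
  haveI : Fintype G := Fintype.ofFinite G
  have hainv : a⁻¹ = a := inv_eq_of_mul_eq_one_left ha
  have hρ' : a * ρ * a⁻¹ = ρ⁻¹ := by
    rw [← hσ]
    calc a * (σ * σ) * a⁻¹ = (a * σ * a⁻¹) * (a * σ * a⁻¹) := by group
      _ = (σ * σ)⁻¹ := by rw [hσ']; group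
  set a' := a * ρ with ha'def
  have ha'conj : a' = σ⁻¹ * a * σ := by
    have h1 : a * σ⁻¹ * a⁻¹ = σ := by
      have h2 : (a * σ * a⁻¹)⁻¹ = σ⁻¹⁻¹ := congrArg (·⁻¹) hσ'
      rw [inv_inv] at h2
      calc a * σ⁻¹ * a⁻¹ = (a * σ * a⁻¹)⁻¹ := by group
        _ = σ := h2
    have h3 : a * σ⁻¹ * a = σ := by
      have h4 := h1
      rw [hainv] at h4
      exact h4
    calc a' = a * (σ * σ) := by rw [ha'def, hσ]
      _ = a * ((a * σ⁻¹ * a) * σ) := by rw [h3]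
      _ = (a * a) * σ⁻¹ * a * σ := by group
      _ = σ⁻¹ * a * σ := by rw [ha, one_mul]
  have ha'2 : a' * a' = 1 := by
    rw [ha'conj]
    calc σ⁻¹ * a * σ * (σ⁻¹ * a * σ) = σ⁻¹ * (a * a) * σ := by group
      _ = 1 := by rw [ha]; group
  have ha'inv : a'⁻¹ = a' := inv_eq_of_mul_eq_one_left ha'2
  have ha'ρ : a' * ρ * a'⁻¹ = ρ⁻¹ := by
    rw [ha'def]
    calc a * ρ * ρ * (a * ρ)⁻¹ = a * ρ * a⁻¹ := by group
      _ = ρ⁻¹ := hρ'
  have hρa : ρ = a * a' := by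
    rw [ha'def, ← mul_assoc, ha, one_mul]
  -- commuting with `ρ⁻¹` gives triviality too
  have hρQ' : ∀ u ∈ Q, u * ρ⁻¹ = ρ⁻¹ * u → u = 1 := by
    intro u hu h
    apply hρQ u hu
    calc u * ρ = ρ * (ρ⁻¹ * u) * ρ := by group
      _ = ρ * (u * ρ⁻¹) * ρ := by rw [h]
      _ = ρ * u := by group
  set Qf : Finset G := univ.filter (fun u => u ∈ Q) with hQf
  set Cf : Finset G := univ.filter (fun u => u ∈ Q ∧ u * a = a * u) with hCf
  set Cf' : Finset G := univ.filter (fun u => u ∈ Q ∧ u * a' = a' * u) with hCf'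
  set If : Finset G := univ.filter (fun u => u ∈ Q ∧ a * u * a⁻¹ = u⁻¹) with hIf
  set g : G → G := fun u => a⁻¹ * u * a * u⁻¹ with hg
  set f : G → G := fun v => ρ * v * ρ⁻¹ * v⁻¹ with hf
  have memQf : ∀ u, u ∈ Qf ↔ u ∈ Q := by intro u; simp [hQf]
  have memCf : ∀ u, u ∈ Cf ↔ (u ∈ Q ∧ u * a = a * u) := by intro u; simp [hCf]
  have memCf' : ∀ u, u ∈ Cf' ↔ (u ∈ Q ∧ u * a' = a' * u) := by intro u; simp [hCf']
  have memIf : ∀ u, u ∈ If ↔ (u ∈ Q ∧ a * u * a⁻¹ = u⁻¹) := by intro u; simp [hIf]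
  -- c1
  have c1 : Cf.card = Cf'.card := by
    apply Finset.card_bij (fun u _ => σ⁻¹ * u * σ)
    · intro u hu
      rw [memCf] at hu
      rw [memCf']
      refine ⟨?_, ?_⟩
      · have := hQ.conj_mem u hu.1 σ⁻¹
        simpa using this
      · rw [ha'conj]
        calc σ⁻¹ * u * σ * (σ⁻¹ * a * σ) = σ⁻¹ * (u * a) * σ := by group
          _ = σ⁻¹ * (a * u) * σ := by rw [hu.2]
          _ = σ⁻¹ * a * σ * (σ⁻¹ * u * σ) := by group
    · intro u _ v _ h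
      have h2 : σ * (σ⁻¹ * u * σ) * σ⁻¹ = σ * (σ⁻¹ * v * σ) * σ⁻¹ := by rw [h]
      simpa [mul_assoc] using h2
    · intro v hv
      rw [memCf'] at hv
      refine ⟨σ * v * σ⁻¹, ?_, by group⟩
      rw [memCf]
      refine ⟨hQ.conj_mem v hv.1 σ, ?_⟩
      have h1 : a = σ * a' * σ⁻¹ := by rw [ha'conj]; group
      calc σ * v * σ⁻¹ * a = σ * v * σ⁻¹ * (σ * a' * σ⁻¹) := by rw [← h1]
        _ = σ * (v * a') * σ⁻¹ := by group
        _ = σ * (a' * v) * σ⁻¹ := by rw [hv.2]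
        _ = (σ * a' * σ⁻¹) * (σ * v * σ⁻¹) := by group
        _ = a * (σ * v * σ⁻¹) := by rw [← h1]
  -- c2
  have c2 : Cf.card * Cf'.card ≤ Qf.card := by
    rw [← Finset.card_product]
    apply Finset.card_le_card_of_injOn (fun p => p.1 * p.2)
    · intro p hp
      have hp' := Finset.mem_product.mp (Finset.mem_coe.mp hp)
      have h1 := (memCf _).mp hp'.1
      have h2 := (memCf' _).mp hp'.2
      exact Finset.mem_coe.mpr ((memQf _).mpr (Q.mul_mem h1.1 h2.1))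
    · intro p hp q hq hpq
      have hp' := Finset.mem_product.mp (Finset.mem_coe.mp hp)
      have hq' := Finset.mem_product.mp (Finset.mem_coe.mp hq)
      have hp1 := (memCf _).mp hp'.1
      have hp2 := (memCf' _).mp hp'.2
      have hq1 := (memCf _).mp hq'.1
      have hq2 := (memCf' _).mp hq'.2
      have hpq' : p.1 * p.2 = q.1 * q.2 := hpq
      -- e = q.1⁻¹ * p.1 = q.2 * p.2⁻¹
      have he : q.1⁻¹ * p.1 = q.2 * p.2⁻¹ := by
        calc q.1⁻¹ * p.1 = q.1⁻¹ * (p.1 * p.2) * p.2⁻¹ := by group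
          _ = q.1⁻¹ * (q.1 * q.2) * p.2⁻¹ := by rw [hpq']
          _ = q.2 * p.2⁻¹ := by group
      have heQ : q.1⁻¹ * p.1 ∈ Q := Q.mul_mem (Q.inv_mem hq1.1) hp1.1
      have hea : (q.1⁻¹ * p.1) * a = a * (q.1⁻¹ * p.1) := by
        have hq1' : q.1⁻¹ * a = a * q.1⁻¹ := by
          calc q.1⁻¹ * a = q.1⁻¹ * (a * q.1) * q.1⁻¹ := by group
            _ = q.1⁻¹ * (q.1 * a) * q.1⁻¹ := by rw [hq1.2]
            _ = a * q.1⁻¹ := by group
        calc q.1⁻¹ * p.1 * a = q.1⁻¹ * (p.1 * a) := by group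
          _ = q.1⁻¹ * (a * p.1) := by rw [hp1.2]
          _ = (q.1⁻¹ * a) * p.1 := by group
          _ = (a * q.1⁻¹) * p.1 := by rw [hq1']
          _ = a * (q.1⁻¹ * p.1) := by group
      have hea' : (q.1⁻¹ * p.1) * a' = a' * (q.1⁻¹ * p.1) := by
        rw [he]
        have hp2' : p.2⁻¹ * a' = a' * p.2⁻¹ := by
          calc p.2⁻¹ * a' = p.2⁻¹ * (a' * p.2) * p.2⁻¹ := by group
            _ = p.2⁻¹ * (p.2 * a') * p.2⁻¹ := by rw [hp2.2]
            _ = a' * p.2⁻¹ := by group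
        calc q.2 * p.2⁻¹ * a' = q.2 * (p.2⁻¹ * a') := by group
          _ = q.2 * (a' * p.2⁻¹) := by rw [hp2']
          _ = (q.2 * a') * p.2⁻¹ := by group
          _ = (a' * q.2) * p.2⁻¹ := by rw [hq2.2]
          _ = a' * (q.2 * p.2⁻¹) := by group
      have he1 : q.1⁻¹ * p.1 = 1 := by
        apply hρQ _ heQ
        rw [hρa]
        calc q.1⁻¹ * p.1 * (a * a') = (q.1⁻¹ * p.1 * a) * a' := by group
          _ = (a * (q.1⁻¹ * p.1)) * a' := by rw [hea]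
          _ = a * ((q.1⁻¹ * p.1) * a') := by group
          _ = a * (a' * (q.1⁻¹ * p.1)) := by rw [hea']
          _ = a * a' * (q.1⁻¹ * p.1) := by group
      have h1 : p.1 = q.1 := by
        calc p.1 = q.1 * (q.1⁻¹ * p.1) := by group
          _ = q.1 := by rw [he1, mul_one]
      have h2 : p.2 = q.2 := by
        have : q.2 * p.2⁻¹ = 1 := by rw [← he, he1]
        calc p.2 = (q.2 * p.2⁻¹)⁻¹ * q.2 := by group
          _ = q.2 := by rw [this, inv_one, one_mul]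
      exact Prod.ext h1 h2
  -- `f` maps `Q` bijectively onto `Q`
  have hfQ : ∀ v ∈ Q, f v ∈ Q := by
    intro v hv
    exact Q.mul_mem (hQ.conj_mem v hv ρ) (Q.inv_mem hv)
  have hfinj : Set.InjOn f (Qf : Set G) := by
    intro v hv v' hv' h
    have hvQ := (memQf v).mp (Finset.mem_coe.mp hv)
    have hv'Q := (memQf v').mp (Finset.mem_coe.mp hv')
    have h' : ρ * v * ρ⁻¹ * v⁻¹ = ρ * v' * ρ⁻¹ * v'⁻¹ := h
    have h1 : v'⁻¹ * v * ρ⁻¹ = ρ⁻¹ * (v'⁻¹ * v) := by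
      calc v'⁻¹ * v * ρ⁻¹ = v'⁻¹ * ρ⁻¹ * (ρ * v * ρ⁻¹ * v⁻¹) * v := by group
        _ = v'⁻¹ * ρ⁻¹ * (ρ * v' * ρ⁻¹ * v'⁻¹) * v := by rw [h']
        _ = ρ⁻¹ * (v'⁻¹ * v) := by group
    have h2 := hρQ' _ (Q.mul_mem (Q.inv_mem hv'Q) hvQ) h1
    calc v = v' * (v'⁻¹ * v) := by group
      _ = v' := by rw [h2, mul_one]
  have hfimg : Qf.image f = Qf := by
    apply Finset.eq_of_subset_of_card_le
    · intro u hu
      obtain ⟨v, hv, rfl⟩ := Finset.mem_image.mp hu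
      exact (memQf _).mpr (hfQ v ((memQf v).mp hv))
    · rw [Finset.card_image_of_injOn hfinj]
  -- key claim
  have keyF : ∀ v ∈ Q, f v ∈ If → v ∈ Cf' := by
    intro v hv hI
    rw [memIf] at hI
    rw [memCf']
    refine ⟨hv, ?_⟩
    set u := f v with hu
    have hu' : u⁻¹ = v * ρ * v⁻¹ * ρ⁻¹ := by rw [hu, hf]; group
    have hI2 : a * u * a = u⁻¹ := by
      have := hI.2
      rw [hainv] at this
      exact this
    -- b a' = v ρ v⁻¹
    have h1 : a * u * a' = v * ρ * v⁻¹ := by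
      calc a * u * a' = (a * u * a) * ρ := by rw [ha'def]; group
        _ = u⁻¹ * ρ := by rw [hI2]
        _ = v * ρ * v⁻¹ := by rw [hu']; group
    have hb : (a * u) * (a * u) = 1 := by
      calc a * u * (a * u) = (a * u * a) * u := by group
        _ = 1 := by rw [hI2]; group
    have hbinv : (a * u)⁻¹ = a * u := inv_eq_of_mul_eq_one_left hb
    have h2 : a' * (v * ρ * v⁻¹) * a'⁻¹ = v * ρ⁻¹ * v⁻¹ := by
      have h3 : v * ρ⁻¹ * v⁻¹ = (v * ρ * v⁻¹)⁻¹ := by group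
      rw [h3, ← h1]
      calc a' * (a * u * a') * a'⁻¹ = a' * (a * u) := by group
        _ = a'⁻¹ * (a * u)⁻¹ := by rw [ha'inv, hbinv]
        _ = (a * u * a')⁻¹ := by group
    have h4 : a'⁻¹ * ρ⁻¹ * a' = ρ := by
      calc a'⁻¹ * ρ⁻¹ * a' = a'⁻¹ * (a' * ρ * a'⁻¹) * a' := by rw [ha'ρ]
        _ = ρ := by group
    have h5 : (a' * v * a'⁻¹) * ρ⁻¹ * (a' * v * a'⁻¹)⁻¹ = v * ρ⁻¹ * v⁻¹ := by
      calc (a' * v * a'⁻¹) * ρ⁻¹ * (a' * v * a'⁻¹)⁻¹
          = a' * (v * (a'⁻¹ * ρ⁻¹ * a') * v⁻¹) * a'⁻¹ := by group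
        _ = a' * (v * ρ * v⁻¹) * a'⁻¹ := by rw [h4]
        _ = v * ρ⁻¹ * v⁻¹ := h2
    have heQ : v⁻¹ * (a' * v * a'⁻¹) ∈ Q := Q.mul_mem (Q.inv_mem hv) (hQ.conj_mem v hv a')
    have he : v⁻¹ * (a' * v * a'⁻¹) * ρ⁻¹ = ρ⁻¹ * (v⁻¹ * (a' * v * a'⁻¹)) := by
      calc v⁻¹ * (a' * v * a'⁻¹) * ρ⁻¹
          = v⁻¹ * ((a' * v * a'⁻¹) * ρ⁻¹ * (a' * v * a'⁻¹)⁻¹) * (a' * v * a'⁻¹) := by group
        _ = v⁻¹ * (v * ρ⁻¹ * v⁻¹) * (a' * v * a'⁻¹) := by rw [h5]
        _ = ρ⁻¹ * (v⁻¹ * (a' * v * a'⁻¹)) := by group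
    have he1 := hρQ' _ heQ he
    calc v * a' = v * (v⁻¹ * (a' * v * a'⁻¹)) * a' := by rw [he1, mul_one]
      _ = a' * v := by group
  -- c3
  have c3 : If.card ≤ Cf'.card := by
    have hsub : If ⊆ (Qf.filter (fun v => f v ∈ If)).image f := by
      intro u hu
      have huQ : u ∈ Qf := (memQf u).mpr ((memIf u).mp hu).1
      rw [← hfimg] at huQ
      obtain ⟨v, hv, rfl⟩ := Finset.mem_image.mp huQ
      exact Finset.mem_image.mpr ⟨v, Finset.mem_filter.mpr ⟨hv, hu⟩, rfl⟩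
    have hsub2 : Qf.filter (fun v => f v ∈ If) ⊆ Cf' := by
      intro v hv
      obtain ⟨hv1, hv2⟩ := Finset.mem_filter.mp hv
      exact keyF v ((memQf v).mp hv1) hv2
    calc If.card ≤ ((Qf.filter (fun v => f v ∈ If)).image f).card := Finset.card_le_card hsub
      _ ≤ (Qf.filter (fun v => f v ∈ If)).card := Finset.card_image_le
      _ ≤ Cf'.card := Finset.card_le_card hsub2
  -- c4
  have c4 : Qf.card ≤ Cf.card * (Qf.image g).card := by
    apply Finset.card_le_mul_card_image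
    intro b hb
    obtain ⟨u₀, hu₀, rfl⟩ := Finset.mem_image.mp hb
    have hu₀Q := (memQf u₀).mp hu₀
    have hsub : Qf.filter (fun x => g x = g u₀) ⊆ Cf.image (fun c => u₀ * c) := by
      intro u hu
      obtain ⟨hu1, hu2⟩ := Finset.mem_filter.mp hu
      have huQ := (memQf u).mp hu1
      refine Finset.mem_image.mpr ⟨u₀⁻¹ * u, ?_, by group⟩
      rw [memCf]
      refine ⟨Q.mul_mem (Q.inv_mem hu₀Q) huQ, ?_⟩
      have h1 : a⁻¹ * u * a * u⁻¹ = a⁻¹ * u₀ * a * u₀⁻¹ := hu2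
      have h2 : u * a * u⁻¹ = u₀ * a * u₀⁻¹ := by
        calc u * a * u⁻¹ = a * (a⁻¹ * u * a * u⁻¹) := by group
          _ = a * (a⁻¹ * u₀ * a * u₀⁻¹) := by rw [h1]
          _ = u₀ * a * u₀⁻¹ := by group
      calc u₀⁻¹ * u * a = u₀⁻¹ * (u * a * u⁻¹) * u := by group
        _ = u₀⁻¹ * (u₀ * a * u₀⁻¹) * u := by rw [h2]
        _ = a * (u₀⁻¹ * u) := by group
    calc (Qf.filter (fun x => g x = g u₀)).card ≤ (Cf.image (fun c => u₀ * c)).card :=
          Finset.card_le_card hsub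
      _ ≤ Cf.card := Finset.card_image_le
  -- c5
  have c5 : Qf.image g ⊆ If := by
    intro b hb
    obtain ⟨u, hu, rfl⟩ := Finset.mem_image.mp hb
    have huQ := (memQf u).mp hu
    rw [memIf]
    refine ⟨?_, ?_⟩
    · have h1 : a⁻¹ * u * a ∈ Q := by
        have := hQ.conj_mem u huQ a⁻¹
        simpa using this
      exact Q.mul_mem h1 (Q.inv_mem huQ)
    · show a * (a⁻¹ * u * a * u⁻¹) * a⁻¹ = (a⁻¹ * u * a * u⁻¹)⁻¹
      rw [hainv]
      calc a * (a * u * a * u⁻¹) * a = (a * a) * u * a * u⁻¹ * a := by group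
        _ = u * a * u⁻¹ * a := by rw [ha, one_mul]
        _ = u * a⁻¹ * u⁻¹ * a⁻¹ := by rw [hainv]
        _ = (a * u * a * u⁻¹)⁻¹ := by group
  -- arithmetic
  have hCpos : 0 < Cf.card := Finset.card_pos.mpr ⟨1, (memCf 1).mpr ⟨Q.one_mem, by simp⟩⟩
  have hji : (Qf.image g).card ≤ If.card := Finset.card_le_card c5
  have hchain : Qf.card ≤ Cf.card * Cf.card := by
    calc Qf.card ≤ Cf.card * (Qf.image g).card := c4
      _ ≤ Cf.card * If.card := Nat.mul_le_mul_left _ hji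
      _ ≤ Cf.card * Cf'.card := Nat.mul_le_mul_left _ c3
      _ = Cf.card * Cf.card := by rw [c1]
  have hsq : Cf.card * Cf.card = Qf.card := by
    apply le_antisymm _ hchain
    calc Cf.card * Cf.card = Cf.card * Cf'.card := by rw [c1]
      _ ≤ Qf.card := c2
  have hij : If.card ≤ (Qf.image g).card := by
    have h1 : Cf.card * If.card ≤ Cf.card * (Qf.image g).card := by
      calc Cf.card * If.card ≤ Cf.card * Cf'.card := Nat.mul_le_mul_left _ c3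
        _ = Cf.card * Cf.card := by rw [c1]
        _ = Qf.card := hsq
        _ ≤ Cf.card * (Qf.image g).card := c4
    exact Nat.le_of_mul_le_mul_left h1 hCpos
  have himg : Qf.image g = If := Finset.eq_of_subset_of_card_le c5 hij
  have hcardC : Nat.card ↥(Q ⊓ Subgroup.centralizer ({a} : Set G)) = Cf.card := by
    haveI : Fintype ↥(Q ⊓ Subgroup.centralizer ({a} : Set G)) := Fintype.ofFinite _
    rw [Nat.card_eq_fintype_card]
    apply Fintype.card_of_subtype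
    intro x
    rw [memCf, Subgroup.mem_inf, Subgroup.mem_centralizer_singleton_iff]
  have hcardQ : Nat.card Q = Qf.card := by
    haveI : Fintype ↥Q := Fintype.ofFinite _
    rw [Nat.card_eq_fintype_card]
    apply Fintype.card_of_subtype
    intro x
    rw [memQf]
  refine ⟨?_, ?_⟩
  · rw [hcardC, hcardQ, pow_two, hsq]
  · intro u hu hinv
    have huI : u ∈ If := (memIf u).mpr ⟨hu, hinv⟩
    rw [← himg] at huI
    obtain ⟨w, hw, hgw⟩ := Finset.mem_image.mp huI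
    refine ⟨w, (memQf w).mp hw, ?_⟩
    have h1 : a⁻¹ * w * a * w⁻¹ = u := hgw
    calc w * a * w⁻¹ = a * (a⁻¹ * w * a * w⁻¹) := by group
      _ = a * u := by rw [h1]

end Cfsg.Agent.H13
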