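import Mathlib
import Cfsg.Agent.H10.FO.Defs3

/-!
helper13: piece F3-OUT1P of helper10's project S2080 (the generic-prime, trivial-`Out` version of helper20's
FO-OUT2).
-/

set_option autoImplicit false

namespace Cfsg.Agent.H13.FO

open Subgroup

universe u

theorem out1P : Cfsg.Agent.H10.FO.StOut1P.{u} := by
  intro G _ _ p x m s hp hG hm hps hsodd hxp hx1 hν hinn hninv
  classical
  have hpF : Fact p.Prime := ⟨hp⟩
  have hord : orderOf x = p := orderOf_eq_prime hxp hx1
  have hs1 : 1 ≤ s := by omega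
  -- powers of `x` only depend on the exponent mod `p`
  have hx_pow : ∀ a b : ℕ, ((a : ℕ) : ZMod p) = ((b : ℕ) : ZMod p) → x ^ a = x ^ b := by
    intro a b hab
    have h1 : a % p = b % p := (ZMod.natCast_eq_natCast_iff' a b p).mp hab
    rw [← pow_mod_orderOf x a, ← pow_mod_orderOf x b, hord, h1]
  have hν' : ∀ k : ℕ, ((k : ℕ) : ZMod p) ^ s = 1 → ∃ ν : G, ν * x * ν⁻¹ = x ^ k := by
    intro k hk
    apply hν
    have h1 : (((k ^ s : ℕ)) : ZMod p) = ((1 : ℕ) : ZMod p) := by push_cast; exact hk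
    have h2 := (ZMod.natCast_eq_natCast_iff' (k ^ s) 1 p).mp h1
    rw [h2]
    exact Nat.mod_eq_of_lt hp.one_lt
  have hA : ∀ α : MulAut G, ∃ (g : G) (k : ℕ), ¬ p ∣ k ∧ g * α x * g⁻¹ = x ^ k := by
    intro α
    have hordα : orderOf (α x) = p := by rw [MulEquiv.orderOf_eq, hord]
    have hcard : ∀ y : G, orderOf y = p → Nat.card (zpowers y) = p := fun y hy => by
      rw [Nat.card_zpowers, hy]
    have hm0 : m ≠ 0 := by rintro rfl; exact hm (dvd_zero p)
    have hQcard : ∀ Q : Sylow p G, Nat.card (Q : Subgroup G) = p := by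
      intro Q
      rw [Sylow.card_eq_multiplicity, hG, Nat.factorization_mul hp.ne_zero hm0]
      simp [Nat.factorization_eq_zero_of_not_dvd hm, hp.factorization_self]
    have hsyl : ∀ y : G, orderOf y = p → ∃ Q : Sylow p G, zpowers y = (Q : Subgroup G) := by
      intro y hy
      have hPp : IsPGroup p (zpowers y) :=
        IsPGroup.of_card (n := 1) (by rw [hcard y hy, pow_one])
      obtain ⟨Q, hPQ⟩ := hPp.exists_le_sylow
      exact ⟨Q, Subgroup.eq_of_le_of_card_ge hPQ (by rw [hQcard, hcard y hy])⟩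
    obtain ⟨Q, hQ⟩ := hsyl x hord
    obtain ⟨Q', hQ'⟩ := hsyl (α x) hordα
    obtain ⟨g, hg⟩ := MulAction.exists_smul_eq G Q' Q
    have hmem : g * α x * g⁻¹ ∈ (Q : Subgroup G) := by
      rw [← hg, Sylow.coe_subgroup_smul]
      have h1 : α x ∈ (Q' : Subgroup G) := hQ' ▸ mem_zpowers _
      have h2 := Subgroup.smul_mem_pointwise_smul (α x) (MulAut.conj g) (Q' : Subgroup G) h1
      simpa [MulAut.smul_def] using h2
    rw [← hQ, ← mem_powers_iff_mem_zpowers] at hmem
    obtain ⟨k, hk⟩ := hmem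
    have hk' : x ^ k = g * α x * g⁻¹ := hk
    refine ⟨g, k, ?_, hk'.symm⟩
    intro hpk
    have h1 : x ^ k = 1 := by rw [← hord] at hpk; exact orderOf_dvd_iff_pow_eq_one.1 hpk
    rw [h1] at hk'
    have h2 : α x = 1 := by
      calc α x = g⁻¹ * (g * α x * g⁻¹) * g := by group
        _ = 1 := by rw [← hk']; group
    exact hx1 ((MulEquiv.map_eq_one_iff α).1 h2)
  have hall : ∀ α : MulAut G, ∃ h : G, α = MulAut.conj h := by
    intro α
    obtain ⟨g, k, hpk, hgk⟩ := hA α
    have hk0 : ((k : ℕ) : ZMod p) ≠ 0 := by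
      rw [Ne, ZMod.natCast_eq_zero_iff]; exact hpk
    have hfer : ((k : ℕ) : ZMod p) ^ (p - 1) = 1 := ZMod.pow_card_sub_one_eq_one hk0
    have hsq : ((k : ℕ) : ZMod p) ^ s * ((k : ℕ) : ZMod p) ^ s = 1 := by
      rw [← pow_add, ← hfer]
      congr 1
      omega
    have hp2 : p - 2 + 1 = p - 1 := by omega
    rcases mul_self_eq_one_iff.mp hsq with hc | hc
    · -- `k ^ s = 1`
      have hk' : (((k ^ (p - 2) : ℕ)) : ZMod p) ^ s = 1 := by
        push_cast
        rw [← pow_mul, mul_comm, pow_mul, hc, one_pow]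
      obtain ⟨ν, hνk⟩ := hν' _ hk'
      have hfix : (MulAut.conj ν * MulAut.conj g * α) x = x := by
        simp only [MulAut.mul_apply, MulAut.conj_apply]
        rw [hgk, ← conj_pow, hνk, ← pow_mul]
        have h1 : (((k ^ (p - 2) * k : ℕ)) : ZMod p) = ((1 : ℕ) : ZMod p) := by
          push_cast
          rw [← pow_succ, hp2, hfer]
        rw [hx_pow _ _ h1, pow_one]
      obtain ⟨h, hh⟩ := hinn _ hfix
      refine ⟨(ν * g)⁻¹ * h, ?_⟩
      rw [map_mul, map_inv, ← hh, map_mul]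
      group
    · -- `k ^ s = -1`: impossible
      exfalso
      have hpm1 : (((p - 1 : ℕ)) : ZMod p) = -1 := by
        rw [Nat.cast_sub hp.one_le, ZMod.natCast_self, Nat.cast_one, zero_sub]
      have hk' : ((((p - 1) * k ^ (p - 2) : ℕ)) : ZMod p) ^ s = 1 := by
        push_cast
        rw [hpm1, mul_pow, ← pow_mul, mul_comm (p - 2) s, pow_mul, hc, ← pow_add]
        apply Even.neg_one_pow
        rw [Nat.even_iff]
        omega
      obtain ⟨ν, hνk⟩ := hν' _ hk'
      have hinv : (MulAut.conj ν * MulAut.conj g * α) x = x⁻¹ := by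
        simp only [MulAut.mul_apply, MulAut.conj_apply]
        rw [hgk, ← conj_pow, hνk, ← pow_mul]
        have h1 : ((((p - 1) * k ^ (p - 2) * k : ℕ)) : ZMod p) = (((p - 1 : ℕ)) : ZMod p) := by
          push_cast
          rw [mul_assoc, ← pow_succ, hp2, hfer, mul_one]
        rw [hx_pow _ _ h1]
        apply eq_inv_of_mul_eq_one_left
        rw [← pow_succ, Nat.sub_add_cancel hp.one_le, hxp]
      exact hninv _ hinv
  rw [Nat.card_eq_one_iff_unique]
  refine ⟨⟨fun a b => ?_⟩, ⟨1⟩⟩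
  have key : ∀ q : Cfsg.Out G, q = 1 := by
    intro q
    induction q using QuotientGroup.induction_on with
    | H α =>
      obtain ⟨h, hh⟩ := hall α
      exact (QuotientGroup.eq_one_iff _).2 ⟨h, hh.symm⟩
  rw [key a, key b]

example : Cfsg.Agent.H10.FO.StOut1P.{u} := out1P

end Cfsg.Agent.H13.FO

#print axioms Cfsg.Agent.H13.FO.out1P
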