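import Mathlib
import Cfsg.Agent.H10.FO.Defs3

/-!
helper13: piece F3-PARTIP of helper10's project S2080 (the generic-prime version of helper62's FO-PARTI).
An element `z` of prime order `p` generating a Sylow subgroup, all of whose commuting involutions are
conjugate to `a`, forces every automorphism to map `a` to a conjugate of `a`.
-/

set_option autoImplicit false

namespace Cfsg.Agent.H13.FO

open scoped Pointwise

universe u

theorem partIP : Cfsg.Agent.H10.FO.StPartIP.{u} := by
  intro G _ _ p a z m hp hcard hm hzp hz1 haa ha1 haz hconj α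
  have : Fact p.Prime := ⟨hp⟩
  have hoz : orderOf z = p := orderOf_eq_prime hzp hz1
  have hoz' : orderOf (α z) = p := by rw [MulEquiv.orderOf_eq]; exact hoz
  have hm0 : m ≠ 0 := by
    rintro rfl
    exact hm (dvd_zero p)
  have hfac : (Nat.card G).factorization p = 1 := by
    rw [hcard, Nat.factorization_mul hp.ne_zero hm0]
    simp [Nat.factorization_eq_zero_of_not_dvd hm, hp.factorization_self]
  have hc1 : Nat.card (Subgroup.zpowers z) = p ^ (Nat.card G).factorization p := by
    rw [hfac, Nat.card_zpowers, hoz, pow_one]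
  have hc2 : Nat.card (Subgroup.zpowers (α z)) = p ^ (Nat.card G).factorization p := by
    rw [hfac, Nat.card_zpowers, hoz', pow_one]
  obtain ⟨g, hg⟩ := MulAction.exists_smul_eq G (Sylow.ofCard _ hc2) (Sylow.ofCard _ hc1)
  have hg' : MulAut.conj g • Subgroup.zpowers (α z) = Subgroup.zpowers z := by
    have h3 := congrArg (fun P : Sylow p G => (P : Subgroup G)) hg
    have h4 : ((g • Sylow.ofCard _ hc2 : Sylow p G) : Subgroup G)
        = MulAut.conj g • (Subgroup.zpowers (α z)) := Sylow.pointwise_smul_def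
    rw [← h4]
    exact h3
  have hmem : g * (α z) * g⁻¹ ∈ Subgroup.zpowers z := by
    rw [← hg']
    exact ⟨α z, Subgroup.mem_zpowers _, rfl⟩
  obtain ⟨w, hw⟩ : ∃ w, w = g * (α z) * g⁻¹ := ⟨_, rfl⟩
  rw [← hw] at hmem
  have how : orderOf w = p := by
    rw [hw]
    have : g * α z * g⁻¹ = MulAut.conj g (α z) := rfl
    rw [this, MulEquiv.orderOf_eq]; exact hoz'
  have hle : Subgroup.zpowers w ≤ Subgroup.zpowers z := by
    rw [Subgroup.zpowers_le]; exact hmem
  have heq : Subgroup.zpowers w = Subgroup.zpowers z := by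
    apply Subgroup.eq_of_le_of_card_ge hle
    rw [Nat.card_zpowers, Nat.card_zpowers, how, hoz]
  have hzw : z ∈ Subgroup.zpowers w := by rw [heq]; exact Subgroup.mem_zpowers z
  obtain ⟨j, hj⟩ := Subgroup.mem_zpowers_iff.mp hzw
  obtain ⟨e, he⟩ : ∃ e, e = g * (α a) * g⁻¹ := ⟨_, rfl⟩
  have hee : e * e = 1 := by
    rw [he]
    have : g * α a * g⁻¹ * (g * α a * g⁻¹) = g * α (a * a) * g⁻¹ := by
      rw [map_mul]; group
    rw [this, haa, map_one]; group
  have he1 : e ≠ 1 := by
    rw [he]
    intro h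
    apply ha1
    have h2 : α a = 1 := by
      have : α a = g⁻¹ * (g * α a * g⁻¹) * g := by group
      rw [this, h]; group
    exact (map_eq_one_iff α α.injective).mp h2
  have hew : e * w = w * e := by
    rw [he, hw]
    have h1 : g * α a * g⁻¹ * (g * α z * g⁻¹) = g * α (a * z) * g⁻¹ := by
      rw [map_mul]; group
    have h2 : g * α z * g⁻¹ * (g * α a * g⁻¹) = g * α (z * a) * g⁻¹ := by
      rw [map_mul]; group
    rw [h1, h2, haz]
  have hez : e * z = z * e := by
    rw [← hj]
    exact ((Commute.zpow_right (show Commute e w from hew) j)).eq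
  obtain ⟨h, hh⟩ := hconj e hee he1 hez
  refine ⟨g⁻¹ * h, ?_⟩
  calc α a = g⁻¹ * (g * α a * g⁻¹) * g := by group
    _ = g⁻¹ * (h * a * h⁻¹) * g := by rw [← he, hh]
    _ = g⁻¹ * h * a * (g⁻¹ * h)⁻¹ := by group

example : Cfsg.Agent.H10.FO.StPartIP.{u} := partIP

end Cfsg.Agent.H13.FO

#print axioms Cfsg.Agent.H13.FO.partIP
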