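import Mathlib
import Cfsg.Agent.H95.HupDefs

/-!
# S3360-STEP (helper13, for helper95's Huppert project): the assembly `StepStmt`
-/

set_option autoImplicit false

universe u w

namespace Cfsg.Agent.H13.Hup

open Cfsg.Agent.H95.Hup

/-- powers of an element normalizing `P` keep the commutator with `u` central in `P` -/
theorem cent_comm_pow {G : Type w} [Group G] (P : Subgroup G) (y u : G)
    (hy' : ∀ v ∈ P, y⁻¹ * v * y ∈ P)
    (h : Cent P (y * u * y⁻¹ * u⁻¹)) (m : ℕ) :
    Cent P (y ^ m * u * (y ^ m)⁻¹ * u⁻¹) := by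
  induction m with
  | zero => intro c _; simp
  | succ m ih =>
    have e : y ^ (m + 1) * u * (y ^ (m + 1))⁻¹ * u⁻¹ =
        (y * (y ^ m * u * (y ^ m)⁻¹ * u⁻¹) * y⁻¹) * (y * u * y⁻¹ * u⁻¹) := by
      rw [pow_succ']; group
    rw [e]
    intro c hc
    obtain ⟨w, hw⟩ : ∃ w, w = y ^ m * u * (y ^ m)⁻¹ * u⁻¹ := ⟨_, rfl⟩
    obtain ⟨z, hz⟩ : ∃ z, z = y * u * y⁻¹ * u⁻¹ := ⟨_, rfl⟩
    rw [← hw, ← hz]
    rw [← hw] at ih
    rw [← hz] at h
    have h1 : (y * w * y⁻¹) * c = c * (y * w * y⁻¹) := by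
      have := ih (y⁻¹ * c * y) (hy' c hc)
      calc y * w * y⁻¹ * c = y * (w * (y⁻¹ * c * y)) * y⁻¹ := by group
        _ = y * ((y⁻¹ * c * y) * w) * y⁻¹ := by rw [this]
        _ = c * (y * w * y⁻¹) := by group
    have h2 : z * c = c * z := h c hc
    calc y * w * y⁻¹ * z * c = y * w * y⁻¹ * (z * c) := by group
      _ = y * w * y⁻¹ * (c * z) := by rw [h2]
      _ = (y * w * y⁻¹ * c) * z := by group
      _ = (c * (y * w * y⁻¹)) * z := by rw [h1]
      _ = c * (y * w * y⁻¹ * z) := by group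

/-- in a finite cyclic group, an element killed by the prime `r` lies in any subgroup of order `r` -/
theorem mem_zpowers_of_cyclic {A : Type w} [Group A] [Finite A] [IsCyclic A] (r : ℕ)
    (hr : r.Prime) (x w : A) (hx : orderOf x = r) (hw : w ^ r = 1) :
    w ∈ Subgroup.zpowers x := by
  let K : Subgroup A :=
    { carrier := {a | a ^ r = 1}
      mul_mem' := by
        intro a b ha hb
        let _i := IsCyclic.commGroup (α := A)
        have ha' : a ^ r = 1 := ha
        have hb' : b ^ r = 1 := hb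
        show (a * b) ^ r = 1
        rw [mul_pow, ha', hb', one_mul]
      one_mem' := one_pow r
      inv_mem' := by
        intro a ha
        have ha' : a ^ r = 1 := ha
        show a⁻¹ ^ r = 1
        rw [inv_pow, ha', inv_one] }
  have hxK : x ∈ K := by
    show x ^ r = 1
    rw [← hx]; exact pow_orderOf_eq_one x
  have hwK : w ∈ K := hw
  have hKle : Nat.card K ≤ r := by
    obtain ⟨t, ht⟩ := IsCyclic.exists_generator (α := K)
    have htr : t ^ r = 1 := by
      have h1 : (t : A) ^ r = 1 := t.2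
      exact Subtype.ext (by simpa using h1)
    have hcard : Nat.card K = orderOf t := by
      rw [← Nat.card_zpowers]
      have htop : Subgroup.zpowers t = ⊤ := by
        rw [Subgroup.eq_top_iff']; exact ht
      rw [htop, Subgroup.card_top]
    rw [hcard]
    exact Nat.le_of_dvd hr.pos (orderOf_dvd_of_pow_eq_one htr)
  have hle : Subgroup.zpowers x ≤ K := Subgroup.zpowers_le.mpr hxK
  have hEq : Subgroup.zpowers x = K :=
    Subgroup.eq_of_le_of_card_ge hle (by rw [Nat.card_zpowers, hx]; exact hKle)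
  rw [hEq]; exact hwK

/-- in a finite cyclic `r`-group, every nontrivial element has the elements of order `r` among
its powers -/
theorem mem_zpowers_of_cyclic_pgroup {A : Type w} [Group A] [Finite A] [IsCyclic A] (r : ℕ)
    (hr : r.Prime) (hA : IsPGroup r A) (x y : A) (hx : orderOf x = r) (hy : y ≠ 1) :
    x ∈ Subgroup.zpowers y := by
  have : Fact r.Prime := ⟨hr⟩
  obtain ⟨f, hf⟩ := (IsPGroup.iff_orderOf.mp hA) y
  have hf0 : f ≠ 0 := by
    rintro rfl
    rw [pow_zero, orderOf_eq_one_iff] at hf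
    exact hy hf
  obtain ⟨e, rfl⟩ : ∃ e, f = e + 1 := ⟨f - 1, by omega⟩
  obtain ⟨w, hw⟩ : ∃ w, w = y ^ (r ^ e) := ⟨_, rfl⟩
  have hwr : w ^ r = 1 := by
    rw [hw, ← pow_mul, ← pow_succ, ← hf, pow_orderOf_eq_one]
  have hw1 : w ≠ 1 := by
    intro h
    rw [hw] at h
    have h1 : orderOf y ∣ r ^ e := orderOf_dvd_of_pow_eq_one h
    rw [hf] at h1
    have h2 := Nat.le_of_dvd (pow_pos hr.pos e) h1
    have h3 : r ^ e < r ^ (e + 1) := Nat.pow_lt_pow_right hr.one_lt (Nat.lt_succ_self e)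
    omega
  have hwx : w ∈ Subgroup.zpowers x := mem_zpowers_of_cyclic r hr x w hx hwr
  have how : orderOf w = r := orderOf_eq_prime hwr hw1
  have hEq : Subgroup.zpowers w = Subgroup.zpowers x :=
    Subgroup.eq_of_le_of_card_ge (Subgroup.zpowers_le.mpr hwx)
      (by rw [Nat.card_zpowers, Nat.card_zpowers, how, hx])
  have hxw : x ∈ Subgroup.zpowers w := by rw [hEq]; exact Subgroup.mem_zpowers x
  have hwy : w ∈ Subgroup.zpowers y := by
    rw [hw]; exact Subgroup.pow_mem _ (Subgroup.mem_zpowers y) _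
  exact (Subgroup.zpowers_le.mpr hwy) hxw

/-- **S3360-STEP** -/
theorem step (hPPD : PPDStmt.{u, w}) (hCyc : CycStmt.{u, w}) (hAb : AbStmt.{u, w})
    (hCrit : CritStmt.{w}) (hLI : LIStmt.{u, w}) (hSq : SqStmt.{w}) (hSemi : SemiStmt.{w}) :
    StepStmt.{u, w} := by
  intro q _ V _ _ _ _ G _ _ ρ hinj n r s hn hV hr hrd hprim hs hsr hsq R S x hR hxR hox hxc hS hRS
    hnc
  have : Fact r.Prime := ⟨hr⟩
  have : Fact s.Prime := ⟨hs⟩
  have hqp : q.Prime := Fact.out
  obtain ⟨hfpf, hirr⟩ := hPPD q ρ hinj n r hV hr hrd hprim x hox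
  -- R is cyclic
  have hRcyc : IsCyclic R := hCyc q ρ hinj x hirr R (fun c hc => hxc c hc)
  have hRab : ∀ a ∈ R, ∀ b ∈ R, a * b = b * a := by
    intro a ha b hb
    let _i := IsCyclic.commGroup (α := R)
    have hc : (⟨a, ha⟩ : R) * ⟨b, hb⟩ = ⟨b, hb⟩ * ⟨a, ha⟩ := mul_comm _ _
    exact congrArg Subtype.val hc
  -- a critical subgroup
  obtain ⟨P, hPS, hRP, hcrit⟩ := hCrit s r hs hr hsr S R x hS hRab hRS hxR hox hnc (by
    intro A hAS hRA hAab u hu
    exact hAb q ρ hinj r s x hr hs hsr hsq hox hfpf A (hS.to_le hAS) hAab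
      (fun u hu => hRA x hxR u hu) u hu)
  obtain ⟨c1, c2, c3, c4, c5, a, haP, b, hbP, hab⟩ := hcrit
  -- central elements of P are fixed point free
  have hzfpf : ∀ z ∈ P, Cent P z → z ≠ 1 → FPF q ρ z := by
    intro z hz hzc hz1
    let W : Submodule (ZMod q) V := LinearMap.ker ((ρ z : V →ₗ[ZMod q] V) - LinearMap.id)
    have hW : ∀ v, v ∈ W ↔ ρ z v = v := by
      intro v
      simp [W, LinearMap.mem_ker, sub_eq_zero]
    have hxz : x * z = z * x := c3 z hz hzc
    have hinv : ∀ v ∈ W, ρ x v ∈ W := by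
      intro v hv
      rw [hW] at hv ⊢
      have h1 : ρ (z * x) v = ρ (x * z) v := by rw [hxz]
      have h2 : ρ z (ρ x v) = ρ x (ρ z v) := by
        simpa [map_mul, LinearEquiv.mul_apply] using h1
      rw [h2, hv]
    rcases hirr W hinv with h | h
    · intro v hv
      have hvW : v ∈ W := (hW v).2 hv
      rw [h] at hvW
      simpa using hvW
    · exfalso
      apply hz1
      apply hinj
      ext v
      have hvW : v ∈ W := by rw [h]; trivial
      simpa using (hW v).1 hvW
  have hPcop : (Nat.card P).Coprime q := by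
    obtain ⟨k, hk⟩ := IsPGroup.iff_card.mp (hS.to_le hPS)
    rw [hk]
    exact Nat.Coprime.pow_left k ((Nat.coprime_primes hs hqp).2 hsq)
  obtain ⟨hle, -⟩ := hLI q ρ hinj n hV P hPcop c2 hzfpf
  -- the centre of P is cyclic
  have hZcyc : IsCyclic (Subgroup.center P) := by
    have hC : IsCyclic ((Subgroup.center P).map P.subtype) := by
      apply hCyc q ρ hinj x hirr
      rintro c ⟨z, hz, rfl⟩
      have hzc : Cent P (z : G) := by
        intro d hd
        have h1 := Subgroup.mem_center_iff.mp hz ⟨d, hd⟩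
        have h2 := congrArg Subtype.val h1
        simpa using h2.symm
      exact (c3 z z.2 hzc).symm
    have e : Subgroup.center P ≃* ((Subgroup.center P).map P.subtype) :=
      (Subgroup.center P).equivMapOfInjective P.subtype P.subtype_injective
    exact isCyclic_of_surjective e.symm e.symm.surjective
  obtain ⟨M, hM⟩ := hSq (P := P) s hs (by
      intro a b c
      have h1 := c2 a a.2 b b.2 c c.2
      exact Subtype.ext (by simpa using h1)) hZcyc (by
      intro u
      rw [Subgroup.mem_center_iff]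
      intro g
      have h1 := c5 u u.2 g g.2
      exact Subtype.ext (by simpa using h1.symm))
  have hc0 : 0 < Nat.card (Subgroup.center P) := Nat.card_pos
  have hMn : M ≤ n := by
    rw [hM] at hle
    have h1 := Nat.le_of_mul_le_mul_right hle hc0
    by_contra hlt
    have h2 : n < M := by omega
    have h3 : n ^ 2 < M ^ 2 := Nat.pow_lt_pow_left h2 (by norm_num)
    omega
  have hM2 : 2 ≤ M := by
    by_contra hlt
    have hM1 : M ≤ 1 := by omega
    have h1 : Nat.card P ≤ Nat.card (Subgroup.center P) := by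
      rw [hM]
      calc M ^ 2 * Nat.card (Subgroup.center P) ≤ 1 ^ 2 * Nat.card (Subgroup.center P) := by
            gcongr
        _ = Nat.card (Subgroup.center P) := by simp
    have htop := Subgroup.eq_top_of_le_card _ h1
    apply hab
    have h2 : (⟨a, haP⟩ : P) ∈ Subgroup.center P := by rw [htop]; trivial
    have h3 := Subgroup.mem_center_iff.mp h2 ⟨b, hbP⟩
    exact (congrArg Subtype.val h3).symm
  -- the key semiregularity
  have hstar : ∀ y ∈ R, y ≠ 1 → ∀ u ∈ P, Cent P (y * u * y⁻¹ * u⁻¹) → Cent P u := by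
    intro y hy hy1 u hu hc
    have hxy : (⟨x, hxR⟩ : R) ∈ Subgroup.zpowers (⟨y, hy⟩ : R) :=
      mem_zpowers_of_cyclic_pgroup r hr hR ⟨x, hxR⟩ ⟨y, hy⟩
        (by rw [Subgroup.orderOf_mk]; exact hox)
        (by intro h; exact hy1 (congrArg Subtype.val h))
    rw [← mem_powers_iff_mem_zpowers] at hxy
    obtain ⟨m, hm⟩ := (Submonoid.mem_powers_iff _ _).mp hxy
    have hm' : y ^ m = x := by
      have h1 := congrArg Subtype.val hm
      simpa using h1
    have h2 := cent_comm_pow P y u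
      (fun v hv => by simpa using hRP y⁻¹ (R.inv_mem hy) v hv) hc m
    rw [hm'] at h2
    exact c4 u hu h2
  obtain ⟨k, hk⟩ := hSemi P (Subgroup.zpowers x)
    (fun y hy u hu => hRP y (Subgroup.zpowers_le.mpr hxR hy) u hu)
    (fun y hy hy1 u hu hc => hstar y (Subgroup.zpowers_le.mpr hxR hy) hy1 u hu hc)
  rw [Nat.card_zpowers, hox, hM] at hk
  have hk1 : M ^ 2 = k * r + 1 := Nat.eq_of_mul_eq_mul_right hc0 hk
  have hrM : r ≤ M + 1 := by
    have h1 : r ∣ (M - 1) * (M + 1) := by
      have h2 : (M - 1) * (M + 1) = k * r := by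
        obtain ⟨M', rfl⟩ : ∃ M', M = M' + 1 := ⟨M - 1, by omega⟩
        simp only [Nat.add_sub_cancel]
        nlinarith
      rw [h2]; exact dvd_mul_left r k
    rcases (Nat.Prime.dvd_mul hr).mp h1 with h | h
    · have h3 := Nat.le_of_dvd (by omega) h
      omega
    · exact Nat.le_of_dvd (by omega) h
  have hrn : n + 1 ≤ r := by
    by_contra hlt
    have hlt' : r - 1 < n := by omega
    have hpos : 0 < r - 1 := by have := hr.two_le; omega
    apply hprim (r - 1) hpos hlt'
    have hrq : ¬ r ∣ q := by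
      intro h
      have h1 : r ∣ q ^ n := dvd_pow h (by omega)
      have h2 : r ∣ q ^ n - (q ^ n - 1) := Nat.dvd_sub h1 hrd
      have h3 : q ^ n - (q ^ n - 1) = 1 := by
        have h4 : 1 ≤ q ^ n := Nat.one_le_pow _ _ hqp.pos
        omega
      rw [h3] at h2
      exact hr.one_lt.ne' (Nat.dvd_one.mp h2)
    have hq0 : (q : ZMod r) ≠ 0 := by
      intro h
      exact hrq ((ZMod.natCast_eq_zero_iff q r).mp h)
    have h5 := ZMod.pow_card_sub_one_eq_one hq0
    rw [← ZMod.natCast_eq_zero_iff, Nat.cast_sub (Nat.one_le_pow _ _ hqp.pos)]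
    push_cast
    rw [h5]; simp
  have hMeq : M = n := by omega
  have hreq : r = n + 1 := by omega
  obtain ⟨e, he⟩ := IsPGroup.iff_card.mp (hS.to_le hPS)
  have hMdvd : M ∣ s ^ e := by
    rw [← he, hM]; exact Dvd.dvd.mul_right (dvd_pow_self M (by norm_num)) _
  obtain ⟨j, -, hj⟩ := (Nat.dvd_prime_pow hs).mp hMdvd
  have hs2 : s = 2 := by
    by_contra hne
    have hodd : Odd s := hs.odd_of_ne_two hne
    have hodd' : Odd (s ^ j) := hodd.pow
    have hev : Even r := by
      rw [hreq, ← hMeq, hj]; exact hodd'.add_one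
    have hr2 : r = 2 := (Nat.Prime.even_iff hr).mp hev
    omega
  refine ⟨hreq, hs2, ⟨j, by rw [← hMeq, hj, hs2]⟩, ?_⟩
  obtain ⟨k', hk'⟩ := hSemi P R hRP hstar
  rw [hM] at hk'
  have hkR : M ^ 2 = k' * Nat.card R + 1 := Nat.eq_of_mul_eq_mul_right hc0 hk'
  obtain ⟨e', he'⟩ := IsPGroup.iff_card.mp hR
  have hrdvd : r ∣ Nat.card R := by
    have h1 := orderOf_dvd_natCard (⟨x, hxR⟩ : R)
    rwa [Subgroup.orderOf_mk, hox] at h1
  have he0 : e' ≠ 0 := by
    rintro rfl
    rw [he', pow_zero] at hrdvd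
    exact hr.one_lt.ne' (Nat.dvd_one.mp hrdvd)
  have he2 : e' < 2 := by
    by_contra hge
    have hge' : 2 ≤ e' := by omega
    have h1 : r ^ 2 ≤ r ^ e' := Nat.pow_le_pow_right hr.pos hge'
    have hk0 : k' ≠ 0 := by
      rintro rfl
      have h2 : M ^ 2 = 1 := by simpa using hkR
      nlinarith
    have h3 : r ^ 2 ≤ k' * Nat.card R := by
      rw [he']
      calc r ^ 2 ≤ r ^ e' := h1
        _ ≤ k' * r ^ e' := Nat.le_mul_of_pos_left _ (Nat.pos_of_ne_zero hk0)
    rw [hMeq] at hkR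
    rw [hreq] at h3
    nlinarith
  have he1 : e' = 1 := by omega
  rw [he', he1, pow_one]

end Cfsg.Agent.H13.Hup

/-- the exact posted statement -/
example (hPPD : Cfsg.Agent.H95.Hup.PPDStmt.{u, w}) (hCyc : Cfsg.Agent.H95.Hup.CycStmt.{u, w})
    (hAb : Cfsg.Agent.H95.Hup.AbStmt.{u, w}) (hCrit : Cfsg.Agent.H95.Hup.CritStmt.{w})
    (hLI : Cfsg.Agent.H95.Hup.LIStmt.{u, w}) (hSq : Cfsg.Agent.H95.Hup.SqStmt.{w})
    (hSemi : Cfsg.Agent.H95.Hup.SemiStmt.{w}) : Cfsg.Agent.H95.Hup.StepStmt.{u, w} :=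
  Cfsg.Agent.H13.Hup.step hPPD hCyc hAb hCrit hLI hSq hSemi
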