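import Cfsg.Agent.H59.JzKillDefs
import Cfsg.Agent.H51.Local

/-!
# K-NV (JZ-KILL sub-project of S2951 / S2952; helper59's post 10630)

`N_G(V) = L` for `V = Ω₁Z(O₂(L))`, `L` a maximal 2-local subgroup.
-/

set_option autoImplicit false
open Cfsg

namespace Cfsg.Agent.H13.Jk

open Cfsg.Agent.H64.Jz Cfsg.Agent.H59.JzK

universe u

variable {G : Type u} [Group G]

theorem omegaCenterOf_le_inf (X : Subgroup G) :
    omegaCenterOf X ≤ X ⊓ Subgroup.centralizer (X : Set G) := by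
  unfold omegaCenterOf omegaOne
  rw [Subgroup.closure_le]
  intro x hx
  exact hx.1

theorem mem_omegaCenterOf {X : Subgroup G} {x : G} (hx : x ∈ X)
    (hc : x ∈ Subgroup.centralizer (X : Set G)) (h2 : x * x = 1) : x ∈ omegaCenterOf X := by
  unfold omegaCenterOf omegaOne
  exact Subgroup.subset_closure ⟨⟨hx, hc⟩, by rw [pow_two]; exact h2⟩

theorem omegaCenterOf_sq (X : Subgroup G) : ∀ w ∈ omegaCenterOf X, w * w = 1 := by
  intro w hw
  have key : w ∈ X ⊓ Subgroup.centralizer (X : Set G) ∧ w * w = 1 := by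
    unfold omegaCenterOf omegaOne at hw
    induction hw using Subgroup.closure_induction with
    | mem x hx => exact ⟨hx.1, by rw [← pow_two]; exact hx.2⟩
    | one => exact ⟨Subgroup.one_mem _, by simp⟩
    | mul x y _ _ hx hy =>
      refine ⟨Subgroup.mul_mem _ hx.1 hy.1, ?_⟩
      have hc : y * x = x * y := (Subgroup.mem_centralizer_iff.mp hx.1.2) y hy.1.1
      calc x * y * (x * y) = x * (y * x) * y := by group
        _ = x * (x * y) * y := by rw [hc]
        _ = (x * x) * (y * y) := by group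
        _ = 1 := by rw [hx.2, hy.2, one_mul]
    | inv x _ hx =>
      refine ⟨Subgroup.inv_mem _ hx.1, ?_⟩
      rw [← mul_inv_rev, hx.2, inv_one]
  exact key.2

theorem omegaCenterOf_conj_mem (X : Subgroup G) (g : G)
    (hg : g ∈ Subgroup.normalizer (X : Set G)) :
    ∀ v ∈ omegaCenterOf X, g * v * g⁻¹ ∈ omegaCenterOf X := by
  intro v hv
  unfold omegaCenterOf omegaOne at hv ⊢
  induction hv using Subgroup.closure_induction with
  | mem x hx =>
    apply Subgroup.subset_closure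
    obtain ⟨⟨hxX, hxC⟩, hx2⟩ := hx
    refine ⟨⟨(Subgroup.mem_normalizer_iff.mp hg x).mp hxX, ?_⟩, ?_⟩
    · have hxC' : x ∈ Subgroup.centralizer (X : Set G) := hxC
      show g * x * g⁻¹ ∈ Subgroup.centralizer (X : Set G)
      rw [Subgroup.mem_centralizer_iff] at hxC' ⊢
      intro y hy
      have hy' : g⁻¹ * y * g ∈ X := by
        apply (Subgroup.mem_normalizer_iff.mp hg (g⁻¹ * y * g)).mpr
        have e : g * (g⁻¹ * y * g) * g⁻¹ = y := by group
        rw [e]; exact hy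
      have h := hxC' (g⁻¹ * y * g) hy'
      calc y * (g * x * g⁻¹) = g * ((g⁻¹ * y * g) * x) * g⁻¹ := by group
        _ = g * (x * (g⁻¹ * y * g)) * g⁻¹ := by rw [h]
        _ = g * x * g⁻¹ * y := by group
    · show (g * x * g⁻¹) ^ 2 = 1
      rw [conj_pow, hx2, mul_one, mul_inv_cancel]
  | one =>
    have e : g * 1 * g⁻¹ = 1 := by group
    rw [e]; exact Subgroup.one_mem _
  | mul x y _ _ hx hy =>
    have e : g * (x * y) * g⁻¹ = (g * x * g⁻¹) * (g * y * g⁻¹) := by group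
    rw [e]; exact Subgroup.mul_mem _ hx hy
  | inv x _ hx =>
    have e : g * x⁻¹ * g⁻¹ = (g * x * g⁻¹)⁻¹ := by group
    rw [e]; exact Subgroup.inv_mem _ hx

theorem normalizer_le_normalizer_omegaCenterOf (X : Subgroup G) :
    Subgroup.normalizer (X : Set G) ≤ Subgroup.normalizer (omegaCenterOf X : Set G) := by
  intro g hg
  rw [Subgroup.mem_normalizer_iff]
  intro v
  constructor
  · exact omegaCenterOf_conj_mem X g hg v
  · intro h
    have h' := omegaCenterOf_conj_mem X g⁻¹ (Subgroup.inv_mem _ hg) _ h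
    have e : g⁻¹ * (g * v * g⁻¹) * g⁻¹⁻¹ = v := by group
    rwa [e] at h'

theorem omegaCenterOf_ne_bot [Finite G] {X : Subgroup G} (hX : IsPGroup 2 ↥X) (hX1 : X ≠ ⊥) :
    omegaCenterOf X ≠ ⊥ := by
  have : Fact (Nat.Prime 2) := ⟨Nat.prime_two⟩
  have : Nontrivial ↥X := (Subgroup.nontrivial_iff_ne_bot X).mpr hX1
  have hc : Nontrivial ↥(Subgroup.center ↥X) := hX.center_nontrivial
  have h2 : 2 ∣ Nat.card ↥(Subgroup.center ↥X) := by
    have hZ : IsPGroup 2 ↥(Subgroup.center ↥X) := hX.to_subgroup _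
    obtain ⟨n, hn⟩ := IsPGroup.iff_card.mp hZ
    rw [hn]
    have hn0 : n ≠ 0 := by
      rintro rfl
      rw [pow_zero] at hn
      have h1 := Finite.one_lt_card (α := ↥(Subgroup.center ↥X))
      omega
    exact dvd_pow_self 2 hn0
  obtain ⟨z, hz⟩ := exists_prime_orderOf_dvd_card' 2 h2
  intro hbot
  have hzmem : ((z : ↥X) : G) ∈ omegaCenterOf X := by
    apply mem_omegaCenterOf (z : ↥X).2
    · rw [Subgroup.mem_centralizer_iff]
      intro y hy
      have h := Subgroup.mem_center_iff.mp z.2 ⟨y, hy⟩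
      exact congrArg Subtype.val h
    · have h : z ^ 2 = 1 := by rw [← hz]; exact pow_orderOf_eq_one z
      have h' : ((z : ↥X) : G) ^ 2 = 1 := by
        have h'' := congrArg (fun w : ↥(Subgroup.center ↥X) => ((w : ↥X) : G)) h
        simpa using h''
      rw [← pow_two]; exact h'
  rw [hbot, Subgroup.mem_bot] at hzmem
  have hz1 : z = 1 := by
    apply Subtype.ext; apply Subtype.ext; simpa using hzmem
  rw [hz1, orderOf_one] at hz
  omega

theorem pCoreOf_ne_bot {L : Subgroup G} (hL : IsTwoLocal L) : pCoreOf 2 L ≠ ⊥ := by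
  obtain ⟨Q, hQ2, hQne, hLQ⟩ := hL
  intro h0
  apply hQne
  have hQL : Q ≤ L := by rw [hLQ]; exact Subgroup.le_normalizer
  have hQP : Q ≤ pCoreOf 2 L := Cfsg.Agent.H51.le_pCoreOf 2 hQL (by rw [hLQ]) hQ2
  rw [h0] at hQP
  exact le_bot_iff.mp hQP

/-- `N_G(Ω₁Z(O₂(L))) = L` for a maximal 2-local subgroup `L`. -/
theorem normalizer_Vof [Finite G] {L : Subgroup G} (hLmax : IsMaximalTwoLocal L) :
    Subgroup.normalizer (Vof L : Set G) = L := by
  have hQ2 : IsPGroup 2 ↥(pCoreOf 2 L) := Cfsg.Agent.H51.pCoreOf_isPGroup 2 L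
  have hV2 : IsPGroup 2 ↥(Vof L) := hQ2.to_le ((omegaCenterOf_le_inf _).trans inf_le_left)
  have hVne : Vof L ≠ ⊥ := omegaCenterOf_ne_bot hQ2 (pCoreOf_ne_bot hLmax.1)
  exact hLmax.2 _ ⟨Vof L, hV2, hVne, rfl⟩
    ((Cfsg.Agent.H51.le_normalizer_pCoreOf 2 L).trans (normalizer_le_normalizer_omegaCenterOf _))

/-- K-NV. -/
theorem kNV : StKNV.{u} := by
  intro G _ _ S M K L T' K' L' hR
  obtain ⟨hB, -, -, -⟩ := hR
  obtain ⟨-, -, -, -, -, -, -, hLmax, -⟩ := hB
  exact normalizer_Vof hLmax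

example : Cfsg.Agent.H59.JzK.StKNV.{u} := kNV.{u}

end Cfsg.Agent.H13.Jk

#print axioms Cfsg.Agent.H13.Jk.kNV
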