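import Mathlib
import Cfsg.Agent.H83.PCDefs
import Cfsg.Agent.H13.PCCoord

/-!
# PC-ISO (helper13, for helper83's S3366)

From the structural data `X = R ⋊ N` and Heisenberg coordinates on `R` adapted to the central
involution `t` of `N`, the isomorphism `X ≃* Heis ⋊ SL(2,3)`.
-/

set_option autoImplicit false

namespace Cfsg.Agent.H13.PC

open Cfsg.Agent.H83.PC

universe u

set_option maxRecDepth 100000 in
theorem iso_card_SL23 : Nat.card SL23 = 24 := by
  rw [Nat.card_eq_fintype_card]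
  decide

theorem iso_heis_gen : ∀ h : Heis, ∃ i j k : Fin 3,
    h = (⟨1, 0, 0⟩ : Heis) ^ (i : ℕ) * (⟨0, 1, 0⟩ : Heis) ^ (j : ℕ) *
      ((⟨0, 1, 0⟩ : Heis) * ⟨1, 0, 0⟩ * (⟨0, 1, 0⟩ : Heis)⁻¹ * (⟨1, 0, 0⟩ : Heis)⁻¹) ^ (k : ℕ) := by
  decide

theorem iso_heis_center : ∀ (e : ZMod 3) (k : Heis), (⟨0, 0, e⟩ : Heis) * k = k * ⟨0, 0, e⟩ := by
  decide

set_option maxRecDepth 100000 in
theorem iso_heis_comm_z : ∀ u v : Heis, (v * u * v⁻¹ * u⁻¹).z = u.a * v.b - v.a * u.b := by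
  decide

theorem iso_zmod3 : ∀ z : ZMod 3, z = -z → z = 0 := by decide

theorem iso_hom_ext (φ ψ : Heis →* Heis) (hx : φ ⟨1, 0, 0⟩ = ψ ⟨1, 0, 0⟩)
    (hy : φ ⟨0, 1, 0⟩ = ψ ⟨0, 1, 0⟩) : φ = ψ := by
  refine MonoidHom.ext fun h => ?_
  obtain ⟨i, j, k, rfl⟩ := iso_heis_gen h
  simp only [map_mul, map_pow, map_inv, hx, hy]

theorem iso_act_faithful (g g' : SL23) (h : ∀ k, actFun g k = actFun g' k) : g = g' := by
  have hx := h ⟨1, 0, 0⟩
  have hy := h ⟨0, 1, 0⟩
  have h00 := congrArg Heis.a hx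
  have h01 := congrArg Heis.a hy
  have h10 := congrArg Heis.b hx
  have h11 := congrArg Heis.b hy
  simp only [actFun_a, actFun_b, mul_one, mul_zero, add_zero, zero_add] at h00 h01 h10 h11
  apply Subtype.ext
  ext i j
  fin_cases i <;> fin_cases j
  · exact h00
  · exact h01
  · exact h10
  · exact h11

/-- **PC-ISO**. -/
theorem iso : StIso.{u} := by
  intro X _ _ R N t hD α hαinj hαR hαt
  obtain ⟨hRn, hR27, hexp, -, hN24, hRN, hX, htN, ht1, htt, hNt, hinv, hNz, hfaith⟩ := hD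
  have hαmem : ∀ h, α h ∈ R := by
    intro h
    rw [← hαR]
    exact ⟨h, rfl⟩
  -- the conjugation action on `Heis`
  have hex : ∀ (x : X) (h : Heis), ∃ h', α h' = x * α h * x⁻¹ := by
    intro x h
    have h1 : x * α h * x⁻¹ ∈ R := hRn.conj_mem _ (hαmem h) x
    rw [← hαR] at h1
    exact h1
  choose c hc using hex
  have hcmul : ∀ x h k, c x (h * k) = c x h * c x k := by
    intro x h k
    apply hαinj
    rw [hc, map_mul, map_mul, hc, hc]
    group
  obtain ⟨cH, hcH⟩ : ∃ cH : X → (Heis →* Heis), ∀ x h, cH x h = c x h :=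
    ⟨fun x => MonoidHom.mk' (c x) (hcmul x), fun _ _ => rfl⟩
  -- the matrix of an element of `N`
  have hmat : ∀ n ∈ N, ∃ g : SL23, ∀ h, α (actFun g h) = n * α h * n⁻¹ := by
    intro n hn
    obtain ⟨u, hu⟩ : ∃ u, u = c n ⟨1, 0, 0⟩ := ⟨_, rfl⟩
    obtain ⟨v, hv⟩ : ∃ v, v = c n ⟨0, 1, 0⟩ := ⟨_, rfl⟩
    have hθ : ∀ h : Heis, c n ⟨-h.a, -h.b, h.z⟩ = ⟨-(c n h).a, -(c n h).b, (c n h).z⟩ := by
      intro h
      apply hαinj
      rw [hc, ← hαt, ← hαt, hc]
      have e := hNt n hn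
      calc n * (t * α h * t⁻¹) * n⁻¹ = (n * t) * α h * (n * t)⁻¹ := by group
        _ = (t * n) * α h * (t * n)⁻¹ := by rw [e]
        _ = t * (n * α h * n⁻¹) * t⁻¹ := by group
    have hinvz : ∀ k : Heis, (⟨-k.a, -k.b, k.z⟩ : Heis) = k⁻¹ → c n k = c n k → (c n k).z = 0 := by
      intro k hk _
      apply iso_zmod3
      have h1 := hθ k
      rw [hk, ← hcH, map_inv, hcH] at h1
      have h3 := congrArg Heis.z h1
      simp only [Heis.inv_z] at h3
      exact h3.symm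
    have huz : u.z = 0 := by
      rw [hu]
      exact hinvz _ (by decide) rfl
    have hvz : v.z = 0 := by
      rw [hv]
      exact hinvz _ (by decide) rfl
    have hcz : ∀ e : ZMod 3, c n ⟨0, 0, e⟩ = ⟨0, 0, e⟩ := by
      intro e
      apply hαinj
      rw [hc]
      have hz : IsZ R (α ⟨0, 0, e⟩) := by
        refine ⟨hαmem _, ?_⟩
        intro s hs
        rw [← hαR] at hs
        obtain ⟨k, rfl⟩ := hs
        rw [← map_mul, ← map_mul, iso_heis_center]
      rw [hNz n hn _ hz, mul_inv_cancel_right]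
    have hdet : u.a * v.b - v.a * u.b = 1 := by
      have h1 := hcz 1
      have h2 : (⟨0, 0, 1⟩ : Heis) =
          (⟨0, 1, 0⟩ : Heis) * ⟨1, 0, 0⟩ * (⟨0, 1, 0⟩ : Heis)⁻¹ * (⟨1, 0, 0⟩ : Heis)⁻¹ := by decide
      have h3 : c n ⟨0, 0, 1⟩ = v * u * v⁻¹ * u⁻¹ := by
        rw [h2, ← hcH, map_mul, map_mul, map_mul, map_inv, map_inv, hcH, hcH, ← hu, ← hv]
      rw [h1] at h3
      have h4 := congrArg Heis.z h3
      rw [iso_heis_comm_z] at h4
      exact h4.symm
    obtain ⟨g, hg⟩ : ∃ g : SL23, g.1 0 0 = u.a ∧ g.1 0 1 = v.a ∧ g.1 1 0 = u.b ∧ g.1 1 1 = v.b :=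
      ⟨⟨!![u.a, v.a; u.b, v.b], by rw [Matrix.det_fin_two]; simpa using hdet⟩, by simp⟩
    refine ⟨g, fun h => ?_⟩
    rw [← hc]
    congr 1
    have key : (heisAct g).toMonoidHom = cH n := by
      apply iso_hom_ext
      · show actFun g ⟨1, 0, 0⟩ = cH n ⟨1, 0, 0⟩
        rw [hcH, ← hu]
        ext
        · simp [hg.1]
        · simp [hg.2.2.1]
        · simp [huz]
      · show actFun g ⟨0, 1, 0⟩ = cH n ⟨0, 1, 0⟩
        rw [hcH, ← hv]
        ext
        · simp [hg.2.1]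
        · simp [hg.2.2.2]
        · simp [hvz]
    have h5 := congrArg (fun φ : Heis →* Heis => φ h) key
    simp only [hcH] at h5
    exact h5
  choose! β hβ using hmat
  have hβmul : ∀ n n' : ↥N, β ((n * n' : ↥N) : X) = β (n : X) * β (n' : X) := by
    intro n n'
    apply iso_act_faithful
    intro k
    apply hαinj
    rw [hβ _ (n * n').2, actFun_comp, hβ _ n.2, hβ _ n'.2]
    show (n : X) * (n' : X) * α k * ((n : X) * (n' : X))⁻¹ = _
    group
  obtain ⟨βH, hβH⟩ : ∃ βH : ↥N →* SL23, ∀ n : ↥N, βH n = β (n : X) :=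
    ⟨MonoidHom.mk' (fun n : ↥N => β (n : X)) hβmul, fun _ => rfl⟩
  have hβinj : Function.Injective βH := by
    rw [injective_iff_map_eq_one]
    intro n hn1
    apply Subtype.ext
    apply hfaith n n.2
    intro r hr
    rw [← hαR] at hr
    obtain ⟨h, rfl⟩ := hr
    have h1 := hβ n n.2 h
    rw [← hβH, hn1, actFun_one] at h1
    calc (n : X) * α h = ((n : X) * α h * (n : X)⁻¹) * n := by group
      _ = α h * n := by rw [← h1]
  have hβbij : Function.Bijective βH := by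
    rw [Nat.bijective_iff_injective_and_card]
    exact ⟨hβinj, by rw [hN24, iso_card_SL23]⟩
  obtain ⟨e, he⟩ : ∃ e : ↥N ≃* SL23, ∀ n, e n = βH n :=
    ⟨MulEquiv.ofBijective βH hβbij, fun _ => rfl⟩
  have hcompat : ∀ g : SL23, α.comp (MulEquiv.toMonoidHom (heisAct g)) =
      (MulEquiv.toMonoidHom (MulAut.conj ((N.subtype.comp e.symm.toMonoidHom) g))).comp α := by
    intro g
    refine MonoidHom.ext fun h => ?_
    show α (actFun g h) = ((e.symm g : ↥N) : X) * α h * ((e.symm g : ↥N) : X)⁻¹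
    have h1 := hβ (e.symm g) (e.symm g).2 h
    rw [← hβH, ← he, MulEquiv.apply_symm_apply] at h1
    exact h1
  obtain ⟨Ψ, hΨ⟩ : ∃ Ψ : M0 →* X, ∀ a : M0, Ψ a = α a.left * ((e.symm a.right : ↥N) : X) :=
    ⟨SemidirectProduct.lift α (N.subtype.comp e.symm.toMonoidHom) hcompat, fun _ => rfl⟩
  have hΨinj : Function.Injective Ψ := by
    rw [injective_iff_map_eq_one]
    intro a ha
    rw [hΨ] at ha
    have h0 : α a.left = ((e.symm a.right : ↥N) : X)⁻¹ := eq_inv_of_mul_eq_one_left ha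
    have h1 : α a.left ∈ R ⊓ N := by
      refine Subgroup.mem_inf.mpr ⟨hαmem _, ?_⟩
      rw [h0]
      exact inv_mem (e.symm a.right).2
    rw [hRN, Subgroup.mem_bot] at h1
    have h2 : a.left = 1 := hαinj (by rw [h1, map_one])
    rw [h1, one_mul] at ha
    have h3 : e.symm a.right = 1 := Subtype.ext ha
    have h4 : a.right = 1 := (MulEquiv.map_eq_one_iff e.symm).mp h3
    exact SemidirectProduct.ext h2 h4
  have hΨbij : Function.Bijective Ψ := by
    rw [Nat.bijective_iff_injective_and_card]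
    refine ⟨hΨinj, ?_⟩
    rw [hX, SemidirectProduct.card, heis_card, iso_card_SL23]
  exact ⟨(MulEquiv.ofBijective Ψ hΨbij).symm⟩

example : Cfsg.Agent.H83.PC.StIso.{u} := iso

end Cfsg.Agent.H13.PC

#print axioms Cfsg.Agent.H13.PC.iso
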