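import Mathlib
import Cfsg.Agent.H9.PGDefs

/-!
# PG-HOM (helper13, parallel take for helper9's S3662)

The Steinberg cover of `G₂` over a field with four elements maps to `GL₆(K4)`, given the relations
(R1), (R2) for the explicit matrices.
-/

set_option autoImplicit false

namespace Cfsg.Agent.H13.PG

open Cfsg Cfsg.Lie Cfsg.Agent.H9.PG
open scoped Matrix

universe u

theorem hom_XG_ge (r : ℕ) (h : 12 ≤ r) (t : K4) : XG r t = 1 :=
  Units.ext (Xc_ge r h t)

/-- **PG-HOM**. -/
theorem hom (h1 : StR1) (h2 : StR2) : StHom.{u} := by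
  intro F _ e
  have hn : chevG2.nroots = 12 := rfl
  obtain ⟨f, hf⟩ : ∃ f : Fin chevG2.nroots × F → GL (Fin 6) K4, ∀ p, f p = XG p.1 (e p.2) :=
    ⟨fun p => XG p.1 (e p.2), fun _ => rfl⟩
  have hX : ∀ (r : ℕ) (t : F), FreeGroup.lift f (chevG2.stX r t) = XG r (e t) := by
    intro r t
    unfold ChevalleyDatum.stX
    by_cases h : r < chevG2.nroots
    · rw [dif_pos h, FreeGroup.lift_apply_of, hf]
    · rw [dif_neg h, map_one, hom_XG_ge r (by rw [hn] at h; omega)]
  have hW : ∀ w : List (ℕ × F), FreeGroup.lift f (chevG2.stWord w) =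
      (w.map fun p => XG p.1 (e p.2)).prod := by
    intro w
    unfold ChevalleyDatum.stWord
    rw [map_list_prod, List.map_map]
    congr 1
    apply List.map_congr_left
    intro p _
    exact hX p.1 p.2
  have hrel : ∀ g ∈ chevG2.steinbergRelsAB F, FreeGroup.lift f g = 1 := by
    rintro g (⟨r, t₁, t₂, hr, rfl⟩ | ⟨r, s, t, u, hr, hs, hsr, hsn, rfl⟩)
    · rw [map_mul, map_mul, map_inv, hX, hX, hX, map_add, h1, mul_inv_cancel]
    · rw [map_mul, map_mul, map_mul, map_mul, map_inv, map_inv, map_inv, hX, hX, hW]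
      rw [hn] at hr hs
      rw [h2 r s hr hs hsr hsn (e t) (e u)]
      unfold ChevalleyDatum.commWord
      rw [List.map_map, mul_inv_eq_one]
      congr 1
      apply List.map_congr_left
      intro c _
      simp only [Function.comp_apply, map_mul, map_pow, map_neg, map_intCast]
  refine ⟨PresentedGroup.toGroup hrel, fun r t => ?_⟩
  exact hX r t

example (h1 : Cfsg.Agent.H9.PG.StR1) (h2 : Cfsg.Agent.H9.PG.StR2) :
    Cfsg.Agent.H9.PG.StHom.{u} := hom h1 h2

end Cfsg.Agent.H13.PG

#print axioms Cfsg.Agent.H13.PG.hom
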