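import Mathlib
import Cfsg.Agent.H9.PGDefs

/-!
# PG-RHO (helper13, parallel take for helper9's S3662)

Descent of the 6-dimensional representation of the Steinberg cover along the central extension
onto the (simple) Chevalley group: a faithful representation `ρ`.
-/

set_option autoImplicit false

namespace Cfsg.Agent.H13.PG

open Cfsg Cfsg.Lie Cfsg.Agent.H9.PG
open scoped Matrix

universe u

/-- the matrices preserving the alternating form -/
def rhoJ : Subgroup (GL (Fin 6) K4) where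
  carrier := {A | (A : Matrix (Fin 6) (Fin 6) K4)ᵀ * Jm * (A : Matrix (Fin 6) (Fin 6) K4) = Jm}
  mul_mem' := by
    intro A B hA hB
    have hA' : (A : Matrix (Fin 6) (Fin 6) K4)ᵀ * Jm * (A : Matrix (Fin 6) (Fin 6) K4) = Jm := hA
    have hB' : (B : Matrix (Fin 6) (Fin 6) K4)ᵀ * Jm * (B : Matrix (Fin 6) (Fin 6) K4) = Jm := hB
    show ((A * B : GL (Fin 6) K4) : Matrix (Fin 6) (Fin 6) K4)ᵀ * Jm *
      ((A * B : GL (Fin 6) K4) : Matrix (Fin 6) (Fin 6) K4) = Jm
    rw [Units.val_mul, Matrix.transpose_mul]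
    calc (B : Matrix (Fin 6) (Fin 6) K4)ᵀ * (A : Matrix (Fin 6) (Fin 6) K4)ᵀ * Jm *
          ((A : Matrix (Fin 6) (Fin 6) K4) * (B : Matrix (Fin 6) (Fin 6) K4))
        = (B : Matrix (Fin 6) (Fin 6) K4)ᵀ * ((A : Matrix (Fin 6) (Fin 6) K4)ᵀ * Jm *
          (A : Matrix (Fin 6) (Fin 6) K4)) * (B : Matrix (Fin 6) (Fin 6) K4) := by
          simp only [mul_assoc]
      _ = Jm := by rw [hA', hB']
  one_mem' := by
    show ((1 : GL (Fin 6) K4) : Matrix (Fin 6) (Fin 6) K4)ᵀ * Jm *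
      ((1 : GL (Fin 6) K4) : Matrix (Fin 6) (Fin 6) K4) = Jm
    rw [Units.val_one, Matrix.transpose_one, one_mul, mul_one]
  inv_mem' := by
    intro A hA
    have hA' : (A : Matrix (Fin 6) (Fin 6) K4)ᵀ * Jm * (A : Matrix (Fin 6) (Fin 6) K4) = Jm := hA
    show ((A⁻¹ : GL (Fin 6) K4) : Matrix (Fin 6) (Fin 6) K4)ᵀ * Jm *
      ((A⁻¹ : GL (Fin 6) K4) : Matrix (Fin 6) (Fin 6) K4) = Jm
    have h1 : (A : Matrix (Fin 6) (Fin 6) K4) * ((A⁻¹ : GL (Fin 6) K4) : Matrix (Fin 6) (Fin 6) K4)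
        = 1 := by
      rw [← Units.val_mul, mul_inv_cancel, Units.val_one]
    calc ((A⁻¹ : GL (Fin 6) K4) : Matrix (Fin 6) (Fin 6) K4)ᵀ * Jm *
          ((A⁻¹ : GL (Fin 6) K4) : Matrix (Fin 6) (Fin 6) K4)
        = ((A⁻¹ : GL (Fin 6) K4) : Matrix (Fin 6) (Fin 6) K4)ᵀ *
          ((A : Matrix (Fin 6) (Fin 6) K4)ᵀ * Jm * (A : Matrix (Fin 6) (Fin 6) K4)) *
          ((A⁻¹ : GL (Fin 6) K4) : Matrix (Fin 6) (Fin 6) K4) := by rw [hA']
      _ = ((A : Matrix (Fin 6) (Fin 6) K4) *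
            ((A⁻¹ : GL (Fin 6) K4) : Matrix (Fin 6) (Fin 6) K4))ᵀ * Jm *
          ((A : Matrix (Fin 6) (Fin 6) K4) *
            ((A⁻¹ : GL (Fin 6) K4) : Matrix (Fin 6) (Fin 6) K4)) := by
          rw [Matrix.transpose_mul]
          simp only [mul_assoc]
      _ = Jm := by rw [h1, Matrix.transpose_one, one_mul, mul_one]

theorem rho_XG11_ne : XG 11 (1 : K4) ≠ 1 := by
  intro h
  have h1 : Xc 11 (1 : K4) = 1 := congrArg Units.val h
  have h2 := congrFun (congrFun h1 1) 2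
  exact absurd h2 (by decide)

/-- **PG-RHO**. -/
theorem rho (hS : StSymp) (hC : StCent) : StRho.{u} := by
  intro F _ e hθ hsimple hφ
  obtain ⟨θ, hθsurj, hθker, hθx⟩ := hθ
  obtain ⟨φ, hφ⟩ := hφ
  have hn : chevG2.nroots = 12 := rfl
  -- the image of `φ` preserves the form
  have hJ : ∀ w : chevG2.SteinbergCover F, φ w ∈ rhoJ := by
    have hcl := PresentedGroup.closure_range_of (chevG2.steinbergRelsAB F)
    have hle : Subgroup.closure (Set.range (PresentedGroup.of :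
        Fin chevG2.nroots × F → PresentedGroup (chevG2.steinbergRelsAB F))) ≤ rhoJ.comap φ := by
      rw [Subgroup.closure_le]
      rintro _ ⟨⟨i, t⟩, rfl⟩
      show φ (PresentedGroup.of (i, t)) ∈ rhoJ
      have h1 : (PresentedGroup.of (i, t) : PresentedGroup (chevG2.steinbergRelsAB F)) =
          chevG2.scGen F i.val t := by
        unfold ChevalleyDatum.scGen ChevalleyDatum.stX
        rw [dif_pos i.2]
        rfl
      rw [h1, hφ]
      exact hS i.val (e t)
    rw [hcl] at hle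
    intro w
    exact hle (Subgroup.mem_top w)
  have hker : θ.ker ≤ φ.ker := by
    intro z hz
    have hzc := Subgroup.mem_center_iff.mp (hθker hz)
    rw [MonoidHom.mem_ker]
    apply Units.ext
    apply hC _ ?_ (hJ z)
    intro r _ a
    have h1 := hzc (chevG2.scGen F r (e.symm a))
    have h2 := congrArg (fun w => ((φ w : GL (Fin 6) K4) : Matrix (Fin 6) (Fin 6) K4)) h1
    simp only [map_mul, Units.val_mul, hφ, RingEquiv.apply_symm_apply] at h2
    exact h2.symm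
  obtain ⟨ρ, hρ⟩ : ∃ ρ : ↥(chevG2.group F) →* GL (Fin 6) K4, ∀ w, ρ (θ w) = φ w :=
    ⟨θ.liftOfSurjective hθsurj ⟨φ, hker⟩, fun w =>
      MonoidHom.liftOfRightInverse_comp_apply _ _ (Function.rightInverse_surjInv hθsurj)
        ⟨φ, hker⟩ w⟩
  refine ⟨ρ, fun r t => θ (chevG2.scGen F r t), ?_, fun r t => ?_⟩
  · rw [← MonoidHom.ker_eq_bot_iff]
    have := hsimple
    rcases Subgroup.Normal.eq_bot_or_eq_top (inferInstance : ρ.ker.Normal) with h | h
    · exact h
    · exfalso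
      have h1 : θ (chevG2.scGen F 11 1) ∈ ρ.ker := by
        rw [h]
        exact Subgroup.mem_top _
      rw [MonoidHom.mem_ker, hρ, hφ, map_one] at h1
      exact rho_XG11_ne h1
  · show ρ (θ (chevG2.scGen F r t)) = XG r (e t)
    rw [hρ, hφ]

example (hS : Cfsg.Agent.H9.PG.StSymp) (hC : Cfsg.Agent.H9.PG.StCent) :
    Cfsg.Agent.H9.PG.StRho.{u} := rho hS hC

end Cfsg.Agent.H13.PG

#print axioms Cfsg.Agent.H13.PG.rho
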