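-- S1152/S1157 team project (helper45): piece G3b (CountStmt), by helper13.
import Mathlib
import Cfsg.Agent.H45.R2Abs

set_option autoImplicit false

namespace Cfsg.Agent.H13.R2

open Cfsg.Agent.H45.R2

universe u

theorem count : CountStmt.{u} := by
  intro G _ _ S a hS8 hexp haS ha1 h24 ⟨c, hcN, hca, hcfix, hc3⟩ ⟨n, hnN, hna⟩
  classical
  obtain ⟨N, hN⟩ : ∃ N : Subgroup G, N = Subgroup.normalizer ((S : Subgroup G) : Set G) :=
    ⟨_, rfl⟩
  rw [← hN] at h24 hcN hnN ⊢
  have hSN : (S : Subgroup G) ≤ N := hN ▸ Subgroup.le_normalizer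
  have hconjS : ∀ m ∈ N, ∀ t ∈ (S : Subgroup G), m * t * m⁻¹ ∈ (S : Subgroup G) := by
    intro m hm t ht
    rw [hN] at hm
    exact ((Subgroup.mem_normalizer_iff.mp hm) t).mp ht
  -- the orbit
  obtain ⟨O, hO⟩ : ∃ O : Set G, O = {t | ∃ m ∈ N, t = m * a * m⁻¹} := ⟨_, rfl⟩
  have hOS : O ⊆ ((S : Subgroup G) : Set G) \ {1} := by
    rw [hO]
    rintro t ⟨m, hm, rfl⟩
    refine ⟨hconjS m hm a haS, ?_⟩
    simp only [Set.mem_singleton_iff]
    intro h
    apply ha1
    have : a = m⁻¹ * (m * a * m⁻¹) * m := by group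
    rw [this, h]; group
  have haO : a ∈ O := by rw [hO]; exact ⟨1, N.one_mem, by simp⟩
  have hnO : n * a * n⁻¹ ∈ O := by rw [hO]; exact ⟨n, hnN, rfl⟩
  have hOfin : O.Finite := Set.toFinite O
  -- bounds
  have hle : O.ncard ≤ 7 := by
    have h1 : (((S : Subgroup G) : Set G) \ {1}).ncard = 7 := by
      rw [Set.ncard_sdiff_singleton_of_mem (S : Subgroup G).one_mem]
      have : ((S : Subgroup G) : Set G).ncard = 8 := by
        rw [← hS8]; exact (Nat.card_coe_set_eq _).symm
      omega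
    rw [← h1]
    exact Set.ncard_le_ncard hOS (Set.toFinite _)
  have hge : 2 ≤ O.ncard := by
    have hsub : ({a, n * a * n⁻¹} : Set G) ⊆ O := by
      intro t ht
      rcases ht with rfl | rfl
      · exact haO
      · exact hnO
    have h2 : ({a, n * a * n⁻¹} : Set G).ncard = 2 := Set.ncard_pair (Ne.symm hna)
    rw [← h2]; exact Set.ncard_le_ncard hsub hOfin
  -- orbit-stabilizer
  letI : MulAction N G := MulAction.compHom G ((MulAut.conj : G →* MulAut G).comp N.subtype)
  have hsmul : ∀ (m : N) (t : G), m • t = (m : G) * t * (m : G)⁻¹ := fun m t => rfl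
  have horb : MulAction.orbit N a = O := by
    rw [hO]; ext t; constructor
    · rintro ⟨m, rfl⟩; exact ⟨m, m.2, hsmul m a⟩
    · rintro ⟨m, hm, rfl⟩; exact ⟨⟨m, hm⟩, hsmul _ _⟩
  have hstab : MulAction.stabilizer N a = (Subgroup.centralizer ({a} : Set G)).subgroupOf N := by
    ext m
    rw [MulAction.mem_stabilizer_iff, hsmul, Subgroup.mem_subgroupOf, Subgroup.mem_centralizer_iff]
    simp only [Set.mem_singleton_iff, forall_eq]
    constructor
    · intro h
      calc a * (m : G) = ((m : G) * a * (m : G)⁻¹) * m := by rw [h]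
        _ = m * a := by group
    · intro h; rw [mul_inv_eq_iff_eq_mul]; exact h.symm
  have hcardstab : Nat.card (MulAction.stabilizer N a) = 24 := by
    rw [hstab, ← Subgroup.inf_subgroupOf_left, ← h24]
    exact Nat.card_congr (Subgroup.subgroupOfEquivOfLe inf_le_left).toEquiv
  have hidx := MulAction.index_stabilizer N a
  have hcardN : Nat.card N = O.ncard * 24 := by
    rw [← Subgroup.card_mul_index (MulAction.stabilizer N a), hidx, horb, hcardstab, mul_comm]
  obtain ⟨j, hj, hj2⟩ : ∃ j, Nat.card N = 8 * j ∧ ¬ 2 ∣ j := by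
    refine ⟨(S : Subgroup G).relIndex N, ?_, ?_⟩
    · rw [← hS8]
      have := Subgroup.card_mul_index ((S : Subgroup G).subgroupOf N)
      rw [← this]; congr 1
      exact Nat.card_congr (Subgroup.subgroupOfEquivOfLe hSN).toEquiv
    · intro h
      exact S.not_dvd_index (dvd_trans h (Subgroup.relIndex_dvd_index_of_le hSN))
  -- the permutation induced by `c` on `O \ {a}`
  have hmod : 3 ∣ O.ncard - 1 := by
    have hcO : ∀ t ∈ O \ {a}, c * t * c⁻¹ ∈ O \ {a} := by
      rintro t ⟨htO, hta⟩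
      rw [hO] at htO
      obtain ⟨m, hm, rfl⟩ := htO
      refine ⟨?_, ?_⟩
      · rw [hO]; exact ⟨c * m, N.mul_mem hcN hm, by group⟩
      · simp only [Set.mem_singleton_iff] at hta ⊢
        intro h
        apply hta
        have : m * a * m⁻¹ = c⁻¹ * (c * (m * a * m⁻¹) * c⁻¹) * c := by group
        rw [this, h]
        calc c⁻¹ * a * c = c⁻¹ * (a * c) := by group
          _ = c⁻¹ * (c * a) := by rw [hca]
          _ = a := by group
    let f : Function.End ↥(O \ {a}) := fun t => ⟨c * t.1 * c⁻¹, hcO t.1 t.2⟩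
    have hf3 : f ^ 3 ^ 1 = 1 := by
      funext t
      apply Subtype.ext
      have htS : t.1 ∈ (S : Subgroup G) := (hOS t.2.1).1
      have h3 := hc3 t.1 htS
      show c * (c * (c * t.1 * c⁻¹) * c⁻¹) * c⁻¹ = t.1
      calc c * (c * (c * t.1 * c⁻¹) * c⁻¹) * c⁻¹ = (c * c * c) * t.1 * (c * c * c)⁻¹ := by group
        _ = t.1 * (c * c * c) * (c * c * c)⁻¹ := by rw [h3]
        _ = t.1 := by group
    haveI : Fact (Nat.Prime 3) := ⟨Nat.prime_three⟩
    haveI : Fintype ↥(O \ {a}) := Fintype.ofFinite _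
    have hcm := Equiv.Perm.card_fixedPoints_modEq (p := 3) (n := 1) hf3
    have hemp : IsEmpty ↥(Function.fixedPoints f) := by
      refine ⟨fun ⟨t, ht⟩ => ?_⟩
      have h1 : c * t.1 * c⁻¹ = t.1 := congrArg Subtype.val ht
      have htS : t.1 ∈ (S : Subgroup G) := (hOS t.2.1).1
      rcases hcfix t.1 htS h1 with h | h
      · exact (hOS t.2.1).2 h
      · exact t.2.2 h
    simp only [← Nat.card_eq_fintype_card] at hcm
    have h0 : Nat.card ↥(Function.fixedPoints f) = 0 := Nat.card_of_isEmpty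
    have h1 : Nat.card ↥(O \ {a}) = O.ncard - 1 := by
      rw [Nat.card_coe_set_eq, Set.ncard_sdiff_singleton_of_mem haO]
    rw [h0, h1] at hcm
    exact (Nat.modEq_zero_iff_dvd).mp hcm
  have hk : O.ncard = 7 := by omega
  rw [hcardN, hk]

end Cfsg.Agent.H13.R2
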