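-- S1152/S1157 team project (helper45): piece G2c (ProdStmt), by helper13.
import Mathlib
import Cfsg.Agent.H45.R2Abs

set_option autoImplicit false

namespace Cfsg.Agent.H13.R2

open Cfsg.Agent.H45.R2

universe u

theorem z2_cases (j : Multiplicative (ZMod 2)) : j = 1 ∨ j = Multiplicative.ofAdd (1 : ZMod 2) := by
  revert j; decide

theorem prod (h1 : KleinActStmt.{u}) (h2 : ProdShapeStmt.{u}) : ProdStmt.{u} := by
  intro L _ _ hV h8 T hT8 hTexp
  obtain ⟨V, hV4, rfl⟩ := h2 L h8 T hT8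
  obtain ⟨hcV, hnV⟩ := hV V hV4
  obtain ⟨c₀, hc₀N, hc₀fix, hc₀3⟩ := h1 L V hV4 hcV hnV
  have hcent : Subgroup.centralizer
      (((⊤ : Subgroup (Multiplicative (ZMod 2))).prod V : Subgroup _) :
        Set (Multiplicative (ZMod 2) × L)) = (⊤ : Subgroup (Multiplicative (ZMod 2))).prod V := by
    ext ⟨i, x⟩
    rw [Subgroup.mem_centralizer_iff, Subgroup.mem_prod]
    constructor
    · intro h
      refine ⟨Subgroup.mem_top _, ?_⟩
      rw [← hcV, Subgroup.mem_centralizer_iff]
      intro v hv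
      have := h (1, v) (Subgroup.mem_prod.mpr ⟨Subgroup.mem_top _, hv⟩)
      exact (Prod.ext_iff.mp this).2
    · rintro ⟨-, hx⟩ ⟨j, v⟩ hjv
      have hv : v ∈ V := (Subgroup.mem_prod.mp hjv).2
      rw [← hcV, Subgroup.mem_centralizer_iff] at hx
      refine Prod.ext (mul_comm _ _) (hx v hv)
  have hnorm : Subgroup.normalizer
      (((⊤ : Subgroup (Multiplicative (ZMod 2))).prod V : Subgroup _) :
        Set (Multiplicative (ZMod 2) × L)) =
      (⊤ : Subgroup (Multiplicative (ZMod 2))).prod (Subgroup.normalizer (V : Set L)) := by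
    ext ⟨i, x⟩
    rw [Subgroup.mem_normalizer_iff, Subgroup.mem_prod]
    constructor
    · intro h
      refine ⟨Subgroup.mem_top _, ?_⟩
      rw [Subgroup.mem_normalizer_iff]
      intro v
      have := h (1, v)
      simp only [Subgroup.mem_prod, Subgroup.mem_top, true_and, Prod.mk_mul_mk, Prod.inv_mk]
        at this
      exact this
    · rintro ⟨-, hx⟩ ⟨j, v⟩
      rw [Subgroup.mem_normalizer_iff] at hx
      simp only [Subgroup.mem_prod, Subgroup.mem_top, true_and, Prod.mk_mul_mk, Prod.inv_mk]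
      exact hx v
  refine ⟨hcent, ?_, ⟨(1, c₀), ?_, ?_, ?_⟩⟩
  · rw [hnorm, Nat.card_congr (Subgroup.prodEquiv _ _).toEquiv, Nat.card_prod, hnV,
      Nat.card_congr (Subgroup.topEquiv : (⊤ : Subgroup (Multiplicative (ZMod 2))) ≃* _).toEquiv]
    have : Nat.card (Multiplicative (ZMod 2)) = 2 := by
      rw [Nat.card_eq_fintype_card]; rfl
    rw [this]
  · rw [hnorm]; exact Subgroup.mem_prod.mpr ⟨Subgroup.mem_top _, hc₀N⟩
  · rintro ⟨j, v⟩ hjv hfix
    have hv : v ∈ V := (Subgroup.mem_prod.mp hjv).2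
    have h2 : c₀ * v * c₀⁻¹ = v := by
      have := (Prod.ext_iff.mp hfix).2
      simpa using this
    have hv1 := hc₀fix v hv h2
    subst hv1
    rcases z2_cases j with rfl | rfl
    · left; rfl
    · right; rfl
  · rintro ⟨j, v⟩ hjv
    have hv : v ∈ V := (Subgroup.mem_prod.mp hjv).2
    have hc3 : c₀ * c₀ * c₀ ∈ Subgroup.centralizer (V : Set L) := by rw [hcV]; exact hc₀3
    have := (Subgroup.mem_centralizer_iff.mp hc3) v hv
    refine Prod.ext ?_ ?_
    · simp [mul_comm]
    · simpa using this.symm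

end Cfsg.Agent.H13.R2
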