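-- S1152/S1157 team project (helper45): piece G3a (TransportStmt), by helper13.
import Mathlib
import Cfsg.Agent.H45.R2Abs

set_option autoImplicit false

namespace Cfsg.Agent.H13.R2

open Cfsg.Agent.H45.R2

universe u v

theorem transport : TransportStmt.{u, v} := by
  intro G _ _ L _ _ S a Φ hS8 hexp haS ha1 hPC
  have hinv : ∀ x ∈ S, x⁻¹ = x := fun x hx => inv_eq_of_mul_eq_one_left (hexp x hx)
  have hcomm : ∀ x ∈ S, ∀ y ∈ S, x * y = y * x := by
    intro x hx y hy
    have h1 := hinv (x * y) (S.mul_mem hx hy)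
    rw [mul_inv_rev, hinv x hx, hinv y hy] at h1
    exact h1.symm
  have hmemC : ∀ x : G, x ∈ Subgroup.centralizer ({a} : Set G) ↔ a * x = x * a := by
    intro x; rw [Subgroup.mem_centralizer_iff]; simp
  have hSC : S ≤ Subgroup.centralizer ({a} : Set G) :=
    fun x hx => (hmemC x).mpr (hcomm a haS x hx)
  obtain ⟨T, hTdef⟩ : ∃ T : Subgroup (Multiplicative (ZMod 2) × L),
      T = (S.subgroupOf (Subgroup.centralizer ({a} : Set G))).map Φ.toMonoidHom := ⟨_, rfl⟩
  have hmemT : ∀ y : ↥(Subgroup.centralizer ({a} : Set G)), Φ y ∈ T ↔ (y : G) ∈ S := by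
    intro y
    rw [hTdef]
    constructor
    · rintro ⟨z, hz, hzy⟩
      have : z = y := Φ.injective hzy
      rw [← this]; exact hz
    · intro hy
      exact ⟨y, hy, rfl⟩
  have hT8 : Nat.card T = 8 := by
    rw [hTdef, Subgroup.card_map_of_injective Φ.injective, ← hS8]
    exact Nat.card_congr (Subgroup.subgroupOfEquivOfLe hSC).toEquiv
  have hTexp : ∀ x ∈ T, x * x = 1 := by
    intro x hx
    obtain ⟨y, rfl⟩ := Φ.surjective x
    have hy := (hmemT y).mp hx
    rw [← map_mul]
    have : y * y = 1 := Subtype.ext (hexp y hy)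
    rw [this, map_one]
  obtain ⟨hcT, hnT, c', hc'N, hc'fix, hc'3⟩ := hPC T hT8 hTexp
  have hnorm : ∀ y : ↥(Subgroup.centralizer ({a} : Set G)),
      Φ y ∈ Subgroup.normalizer (T : Set (Multiplicative (ZMod 2) × L)) ↔
        (y : G) ∈ Subgroup.normalizer (S : Set G) := by
    intro y
    rw [Subgroup.mem_normalizer_iff, Subgroup.mem_normalizer_iff]
    constructor
    · intro h g
      constructor
      · intro hg
        have hgC := hSC hg
        have := (h (Φ ⟨g, hgC⟩)).mp ((hmemT ⟨g, hgC⟩).mpr hg)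
        rw [← map_inv, ← map_mul, ← map_mul, hmemT] at this
        exact this
      · intro hg
        have hgC : g ∈ Subgroup.centralizer ({a} : Set G) := by
          have h1 := hSC hg
          have h2 : g = (y : G)⁻¹ * ((y : G) * g * (y : G)⁻¹) * (y : G) := by group
          rw [h2]
          exact Subgroup.mul_mem _ (Subgroup.mul_mem _ (Subgroup.inv_mem _ y.2) h1) y.2
        have h3 : Φ y * Φ ⟨g, hgC⟩ * (Φ y)⁻¹ ∈ T := by
          rw [← map_inv, ← map_mul, ← map_mul, hmemT]
          exact hg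
        exact (hmemT ⟨g, hgC⟩).mp ((h (Φ ⟨g, hgC⟩)).mpr h3)
    · intro h x
      obtain ⟨g, rfl⟩ := Φ.surjective x
      rw [← map_inv, ← map_mul, ← map_mul, hmemT, hmemT]
      exact h g
  refine ⟨?_, ?_, ?_⟩
  · apply le_antisymm
    · intro x hx
      have hxC : x ∈ Subgroup.centralizer ({a} : Set G) :=
        (hmemC x).mpr ((Subgroup.mem_centralizer_iff.mp hx) a haS)
      have h1 : Φ ⟨x, hxC⟩ ∈ Subgroup.centralizer (T : Set (Multiplicative (ZMod 2) × L)) := by
        rw [Subgroup.mem_centralizer_iff]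
        intro z hz
        obtain ⟨y, rfl⟩ := Φ.surjective z
        have hy := (hmemT y).mp hz
        rw [← map_mul, ← map_mul]
        congr 1
        exact Subtype.ext ((Subgroup.mem_centralizer_iff.mp hx) y hy)
      rw [hcT] at h1
      exact (hmemT ⟨x, hxC⟩).mp h1
    · intro x hx
      rw [Subgroup.mem_centralizer_iff]
      intro y hy
      exact hcomm y hy x hx
  · rw [← hnT]
    refine Nat.card_eq_of_bijective
      (fun x : ↥(Subgroup.normalizer (S : Set G) ⊓ Subgroup.centralizer ({a} : Set G)) =>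
        (⟨Φ ⟨x.1, x.2.2⟩, (hnorm ⟨x.1, x.2.2⟩).mpr x.2.1⟩ :
          ↥(Subgroup.normalizer (T : Set (Multiplicative (ZMod 2) × L))))) ⟨?_, ?_⟩
    · intro x y hxy
      have h1 := congrArg Subtype.val hxy
      have h2 := Φ.injective h1
      have h3 : (x : G) = (y : G) := Subtype.mk.inj h2
      exact Subtype.ext h3
    · intro z
      obtain ⟨y, hy⟩ := Φ.surjective z.1
      have hyN : (y : G) ∈ Subgroup.normalizer (S : Set G) := (hnorm y).mp (hy ▸ z.2)
      exact ⟨⟨(y : G), ⟨hyN, y.2⟩⟩, Subtype.ext hy⟩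
  · obtain ⟨c, hc⟩ := Φ.surjective c'
    have hcN : (c : G) ∈ Subgroup.normalizer (S : Set G) := (hnorm c).mp (hc ▸ hc'N)
    have hca : (c : G) * a = a * (c : G) := ((hmemC c).mp c.2).symm
    have hfixT : ∀ t : ↥(Subgroup.centralizer ({a} : Set G)), (t : G) ∈ S →
        (c : G) * t * (c : G)⁻¹ = t → Φ t = 1 ∨ Φ t = (Multiplicative.ofAdd (1 : ZMod 2), 1) := by
      intro t htS hfix
      apply hc'fix (Φ t) ((hmemT t).mpr htS)
      rw [← hc, ← map_inv, ← map_mul, ← map_mul]
      congr 1
      exact Subtype.ext hfix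
    have haz : Φ ⟨a, hSC haS⟩ = (Multiplicative.ofAdd (1 : ZMod 2), 1) := by
      rcases hfixT ⟨a, hSC haS⟩ haS (by rw [hca]; group) with h | h
      · exfalso
        apply ha1
        have : (⟨a, hSC haS⟩ : ↥(Subgroup.centralizer ({a} : Set G))) = 1 :=
          Φ.injective (by rw [h, map_one])
        exact congrArg Subtype.val this
      · exact h
    refine ⟨(c : G), hcN, hca, ?_, ?_⟩
    · intro t ht hfix
      rcases hfixT ⟨t, hSC ht⟩ ht hfix with h | h
      · left
        have : (⟨t, hSC ht⟩ : ↥(Subgroup.centralizer ({a} : Set G))) = 1 :=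
          Φ.injective (by rw [h, map_one])
        exact congrArg Subtype.val this
      · right
        have : (⟨t, hSC ht⟩ : ↥(Subgroup.centralizer ({a} : Set G))) = ⟨a, hSC haS⟩ :=
          Φ.injective (by rw [h, haz])
        exact congrArg Subtype.val this
    · intro t ht
      have h3 := hc'3 (Φ ⟨t, hSC ht⟩) ((hmemT ⟨t, hSC ht⟩).mpr ht)
      rw [← hc, ← map_mul, ← map_mul, ← map_mul, ← map_mul] at h3
      have h4 := Φ.injective h3
      exact congrArg Subtype.val h4

end Cfsg.Agent.H13.R2
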