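import Mathlib
import Cfsg.Agent.H9.S77Defs

/-!
# S0429-K33 (piece for helper9's S0429 project): the distribution of `t` on `W(u,v)`
-/

set_option autoImplicit false
open Finset Classical Cfsg.Agent.H9.S77

namespace Cfsg.Agent.H13.S77

universe u

/-- The abstract counting argument. -/
theorem k33_abs {V : Type u} (W : Finset V) (t : V → ℕ) (N : V → Finset V)
    (hW : W.card = 47) (h1 : ∑ w ∈ W, t w = 56) (h2 : ∑ w ∈ W, t w ^ 2 = 80)
    (ht : ∀ w ∈ W, t w ≤ 4)
    (hN : ∀ w ∈ W, N w ⊆ W ∧ (N w).card = 8 + t w ∧ ∑ x ∈ N w, t x = 4 * (4 - t w)) :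
    (∀ w ∈ W, t w ≤ 2) ∧ (W.filter (fun w => t w = 0)).card = 3 ∧
      (W.filter (fun w => t w = 1)).card = 32 ∧ (W.filter (fun w => t w = 2)).card = 12 := by
  have hp : ∀ i : ℕ, (W.filter (fun w => t w = i)).card = ∑ w ∈ W, if t w = i then 1 else 0 :=
    fun i => Finset.card_filter _ _
  -- the three pointwise identities
  have e0 : ∀ n : ℕ, n ≤ 4 → 1 = (if n = 0 then 1 else 0) + (if n = 1 then 1 else 0) +
      (if n = 2 then 1 else 0) + (if n = 3 then 1 else 0) + (if n = 4 then 1 else 0) := by
    intro n hn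
    interval_cases n <;> simp
  have e1 : ∀ n : ℕ, n ≤ 4 → n = (if n = 1 then 1 else 0) +
      2 * (if n = 2 then 1 else 0) + 3 * (if n = 3 then 1 else 0) +
      4 * (if n = 4 then 1 else 0) := by
    intro n hn
    interval_cases n <;> simp
  have e2 : ∀ n : ℕ, n ≤ 4 → n ^ 2 + 2 = 3 * n + 2 * (if n = 0 then 1 else 0) +
      2 * (if n = 3 then 1 else 0) + 6 * (if n = 4 then 1 else 0) := by
    intro n hn
    interval_cases n <;> simp
  have s0 : W.card = (W.filter (fun w => t w = 0)).card + (W.filter (fun w => t w = 1)).card +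
      (W.filter (fun w => t w = 2)).card + (W.filter (fun w => t w = 3)).card +
      (W.filter (fun w => t w = 4)).card := by
    rw [hp, hp, hp, hp, hp, ← Finset.sum_add_distrib, ← Finset.sum_add_distrib,
      ← Finset.sum_add_distrib, ← Finset.sum_add_distrib, Finset.card_eq_sum_ones]
    exact Finset.sum_congr rfl (fun w hw => e0 (t w) (ht w hw))
  have s1 : ∑ w ∈ W, t w = (W.filter (fun w => t w = 1)).card +
      2 * (W.filter (fun w => t w = 2)).card + 3 * (W.filter (fun w => t w = 3)).card +
      4 * (W.filter (fun w => t w = 4)).card := by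
    rw [hp, hp, hp, hp, Finset.mul_sum, Finset.mul_sum, Finset.mul_sum,
      ← Finset.sum_add_distrib, ← Finset.sum_add_distrib, ← Finset.sum_add_distrib]
    exact Finset.sum_congr rfl (fun w hw => e1 (t w) (ht w hw))
  have s2 : ∑ w ∈ W, t w ^ 2 + 2 * W.card = 3 * ∑ w ∈ W, t w +
      2 * (W.filter (fun w => t w = 0)).card + 2 * (W.filter (fun w => t w = 3)).card +
      6 * (W.filter (fun w => t w = 4)).card := by
    rw [hp, hp, hp, Finset.mul_sum, Finset.mul_sum, Finset.mul_sum, Finset.mul_sum,
      ← Finset.sum_add_distrib, ← Finset.sum_add_distrib, ← Finset.sum_add_distrib,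
      Finset.card_eq_sum_ones, Finset.mul_sum, ← Finset.sum_add_distrib]
    exact Finset.sum_congr rfl (fun w hw => by rw [mul_one]; exact e2 (t w) (ht w hw))
  rw [h1] at s1
  rw [hW, h1, h2] at s2
  rw [hW] at s0
  have hp0 : (W.filter (fun w => t w = 0)).card ≤ 3 := by omega
  -- no vertex with `t ≥ 3`
  have hle : ∀ w ∈ W, t w ≤ 2 := by
    intro w hw
    by_contra hcon
    obtain ⟨hsub, hcard, hsum⟩ := hN w hw
    have hsum4 : ∑ x ∈ N w, t x ≤ 4 := by
      rw [hsum]
      have := ht w hw
      omega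
    have hsplit := Finset.card_filter_add_card_filter_not (s := N w)
      (fun x => t x = 0)
    have hz : ((N w).filter (fun x => t x = 0)).card ≤ 3 := by
      refine le_trans (Finset.card_le_card ?_) hp0
      intro x hx
      rw [Finset.mem_filter] at hx ⊢
      exact ⟨hsub hx.1, hx.2⟩
    have hnz : ((N w).filter (fun x => ¬ t x = 0)).card ≤ 4 := by
      refine le_trans ?_ hsum4
      rw [Finset.card_filter]
      refine Finset.sum_le_sum ?_
      intro x _
      split_ifs with hx <;> omega
    omega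
  have hp3 : (W.filter (fun w => t w = 3)).card = 0 := by
    rw [Finset.card_eq_zero]
    refine Finset.filter_false_of_mem ?_
    intro w hw h3
    have := hle w hw
    omega
  have hp4 : (W.filter (fun w => t w = 4)).card = 0 := by
    rw [Finset.card_eq_zero]
    refine Finset.filter_false_of_mem ?_
    intro w hw h3
    have := hle w hw
    omega
  refine ⟨hle, ?_, ?_, ?_⟩ <;> omega

theorem k33 : PieceK33.{u} := by
  intro V _ G h hC hN u v huv
  obtain ⟨hW, h1, h2⟩ := hC u v huv
  have ht : ∀ w ∈ Wset G u v, tc G u v w ≤ 4 := by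
    intro w _
    have h4 := h.mu u v huv.1 huv.2
    rw [← h4]
    exact Finset.card_le_card Finset.inter_subset_left
  exact k33_abs (Wset G u v) (fun w => tc G u v w) (fun w => nb G w ∩ Wset G u v) hW h1 h2 ht
    (fun w hw => ⟨Finset.inter_subset_right, (hN u v huv w hw).1, (hN u v huv w hw).2⟩)

example : Cfsg.Agent.H9.S77.PieceK33.{u} := k33

end Cfsg.Agent.H13.S77

#print axioms Cfsg.Agent.H13.S77.k33
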