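import Mathlib
import Cfsg.Agent.H9.S77Defs

/-!
# S0429-PLANE (piece for helper9's S0429 project): the union of the lines joining a point to
the points of a line it is "perpendicular" to is a plane
-/

set_option autoImplicit false
open Finset Classical Cfsg.Agent.H9.S77

namespace Cfsg.Agent.H13.S77

universe u

theorem plane : PiecePlane.{u} := by
  intro V _ G h hLine hN0 hPerp u v huv o ho hadj
  obtain ⟨hL5, hLco, -, hLeq⟩ := hLine u v huv
  have hNAo : ∀ z ∈ Ln G u v, NA G o z := fun z hz => ⟨fun e => ho (e ▸ hz), hadj z hz⟩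
  have hmem_o : ∀ z, o ∈ Ln G o z := fun z => by simp [Ln]
  have hmem_z : ∀ z, z ∈ Ln G o z := fun z => by simp [Ln]
  have hu : u ∈ Ln G u v := by simp [Ln]
  refine ⟨?_, ?_⟩
  · -- coclique
    intro a ha b hb
    rw [Finset.mem_biUnion] at ha hb
    obtain ⟨z, hz, haz⟩ := ha
    obtain ⟨z', hz', hbz'⟩ := hb
    by_cases hzz : z = z'
    · subst hzz
      exact (hLine o z (hNAo z hz)).2.1 a haz b hbz'
    · have hNAzz : NA G z z' := ⟨hzz, hLco z hz z' hz'⟩
      have hoW : o ∈ Wset G z z' := by
        simp only [Wset, Finset.mem_filter, Finset.mem_univ, true_and]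
        exact ⟨(hNAo z hz).1, (hNAo z' hz').1, fun hh => hadj z hz hh.symm,
          fun hh => hadj z' hz' hh.symm⟩
      have hLzz := hLeq z hz z' hz' hzz
      have htc : tc G z z' o = 1 :=
        (hN0 z z' hNAzz o hoW).2 ⟨by rw [hLzz]; exact ho, by rw [hLzz]; exact hadj⟩
      have htc' : tc G o z z' = 1 := by
        rw [← htc]
        unfold tc
        congr 1
        ext t
        simp only [Finset.mem_inter]
        tauto
      exact hPerp o z z' (hNAo z hz) (hNAo z' hz') hNAzz htc' a haz b hbz'
  · -- cardinality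
    have hdisj : ∀ z ∈ Ln G u v, ∀ z' ∈ Ln G u v, z ≠ z' → ∀ x, x ∈ Ln G o z → x ∈ Ln G o z' →
        x = o := by
      intro z hz z' hz' hzz x hx hx'
      by_contra hxo
      have e1 := (hLine o z (hNAo z hz)).2.2.2 o (hmem_o z) x hx (Ne.symm hxo)
      have e2 := (hLine o z' (hNAo z' hz')).2.2.2 o (hmem_o z') x hx' (Ne.symm hxo)
      have hz'in : z' ∈ Ln G o z := by
        rw [← e1, e2]
        exact hmem_z z'
      have e3 := (hLine o z (hNAo z hz)).2.2.2 z (hmem_z z) z' hz'in hzz
      have e4 := hLeq z hz z' hz' hzz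
      apply ho
      rw [← e4, e3]
      exact hmem_o z
    have hB : (Ln G u v).biUnion (fun z => Ln G o z) =
        insert o ((Ln G u v).biUnion (fun z => (Ln G o z).erase o)) := by
      ext x
      simp only [Finset.mem_biUnion, Finset.mem_insert, Finset.mem_erase]
      constructor
      · rintro ⟨z, hz, hx⟩
        by_cases hxo : x = o
        · left
          exact hxo
        · right
          exact ⟨z, hz, hxo, hx⟩
      · rintro (rfl | ⟨z, hz, -, hx⟩)
        · exact ⟨u, hu, hmem_o u⟩
        · exact ⟨z, hz, hx⟩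
    have hno : o ∉ (Ln G u v).biUnion (fun z => (Ln G o z).erase o) := by
      simp only [Finset.mem_biUnion, Finset.mem_erase, not_exists, not_and]
      intro z _ hh
      exact absurd rfl hh
    have hpd : ((Ln G u v : Finset V) : Set V).PairwiseDisjoint
        (fun z => (Ln G o z).erase o) := by
      intro z hz z' hz' hzz
      show Disjoint ((Ln G o z).erase o) ((Ln G o z').erase o)
      rw [Finset.disjoint_left]
      intro x hx hx'
      rw [Finset.mem_erase] at hx hx'
      exact hx.1 (hdisj z hz z' hz' hzz x hx.2 hx'.2)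
    have h4 : ∀ z ∈ Ln G u v, ((Ln G o z).erase o).card = 4 := by
      intro z hz
      rw [Finset.card_erase_of_mem (hmem_o z), (hLine o z (hNAo z hz)).1]
    rw [hB, Finset.card_insert_of_notMem hno, Finset.card_biUnion hpd,
      Finset.sum_const_nat h4, hL5]

example : Cfsg.Agent.H9.S77.PiecePlane.{u} := plane

end Cfsg.Agent.H13.S77

#print axioms Cfsg.Agent.H13.S77.plane
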