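import Mathlib
import Cfsg.Agent.H9.S77Defs

/-!
# S0429-UNIQ (piece for helper9's S0429 project): a plane is determined by three non-collinear
vertices
-/

set_option autoImplicit false
open Finset Classical Cfsg.Agent.H9.S77

namespace Cfsg.Agent.H13.S77

universe u

theorem uniq : PieceUniq.{u} := by
  intro V _ G h hLine hPlane hSub C C' hC hC' o x y hoC hxC hyC hoC' hxC' hyC' hox hy
  have hNA : NA G o x := ⟨hox, hC.1 o hoC x hxC⟩
  have hLC : Ln G o x ⊆ C := (hSub C hC o hoC x hxC hox).1
  have hLC' : Ln G o x ⊆ C' := (hSub C' hC' o hoC' x hxC' hox).1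
  have hP := hPlane o x hNA y hy (fun s hs => hC.1 y hyC s (hLC hs))
  have key : ∀ D, IsPlane G D → y ∈ D → Ln G o x ⊆ D →
      (Ln G o x).biUnion (fun z => Ln G y z) = D := by
    intro D hD hyD hLD
    refine Finset.eq_of_subset_of_card_le ?_ (by rw [hP.2, hD.2])
    intro t ht
    rw [Finset.mem_biUnion] at ht
    obtain ⟨z, hz, htz⟩ := ht
    have hyz : y ≠ z := by
      rintro rfl
      exact hy hz
    exact (hSub D hD y hyD z (hLD hz) hyz).1 htz
  rw [← key C hC hyC hLC, ← key C' hC' hyC' hLC']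

example : Cfsg.Agent.H9.S77.PieceUniq.{u} := uniq

end Cfsg.Agent.H13.S77

#print axioms Cfsg.Agent.H13.S77.uniq
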