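import Mathlib
import Cfsg.Agent.H9.S77Defs

/-!
# S0429-ZNB (piece for helper9's S0429 project): the neighbours in `W` of a vertex of `Z`
-/

set_option autoImplicit false
open Finset Classical Cfsg.Agent.H9.S77

namespace Cfsg.Agent.H13.S77

universe u

theorem znb : PieceZnb.{u} := by
  intro V _ G h hN hK u v huv z hz w hw hzw
  obtain ⟨hle, -, -, -⟩ := hK u v huv
  have hzW : z ∈ Wset G u v := (Finset.mem_filter.mp hz).1
  have hz0 : tc G u v z = 0 := (Finset.mem_filter.mp hz).2
  obtain ⟨hcard, hsum⟩ := hN u v huv z hzW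
  rw [hz0] at hcard hsum
  have hwX : w ∈ nb G z ∩ Wset G u v := by
    rw [Finset.mem_inter, mem_nb]
    exact ⟨hzw, hw⟩
  have h1 := Finset.add_sum_erase (nb G z ∩ Wset G u v) (fun x => tc G u v x) hwX
  have h2 : ∑ x ∈ (nb G z ∩ Wset G u v).erase w, tc G u v x ≤
      ((nb G z ∩ Wset G u v).erase w).card * 2 := by
    rw [← smul_eq_mul]
    refine Finset.sum_le_card_nsmul _ _ _ ?_
    intro x hx
    exact hle x (Finset.mem_inter.mp (Finset.mem_of_mem_erase hx)).2
  rw [Finset.card_erase_of_mem hwX, hcard] at h2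
  have h3 := hle w hw
  omega

example : Cfsg.Agent.H9.S77.PieceZnb.{u} := znb

end Cfsg.Agent.H13.S77

#print axioms Cfsg.Agent.H13.S77.znb
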