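import Mathlib
import Cfsg.Agent.H13.SchDefs
import Cfsg.Agent.H1.Coprime
import Cfsg.Agent.H15.Metacyclic5
import Cfsg.Agent.H14.Cores
import Cfsg.Agent.H80.PSolvable

/-!
# S4394 (team project), piece P2b: the main commutator lemma from a local configuration
-/

set_option autoImplicit false
set_option linter.unusedVariables false
set_option linter.style.haveILetI false
set_option maxHeartbeats 1000000

open Cfsg
open scoped commutatorElement

namespace Cfsg.Agent.H13.Sch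

section Aux

variable {Γ : Type*} [Group Γ]

theorem comm_mul_right' (a b c : Γ) : ⁅a, b * c⁆ = ⁅a, b⁆ * (b * ⁅a, c⁆ * b⁻¹) := by
  simp only [commutatorElement_def]; group

theorem comm_mul_left' (a b c : Γ) : ⁅a * b, c⁆ = (a * ⁅b, c⁆ * a⁻¹) * ⁅a, c⁆ := by
  simp only [commutatorElement_def]; group

theorem comm_conj' (g a b : Γ) : g * ⁅a, b⁆ * g⁻¹ = ⁅g * a * g⁻¹, g * b * g⁻¹⁆ := by
  simp only [commutatorElement_def]; group

theorem comm_eq_one_iff' (a b : Γ) : ⁅a, b⁆ = 1 ↔ a * b = b * a := by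
  rw [commutatorElement_eq_one_iff_commute]; rfl

end Aux

theorem main_of_config {Γ : Type*} [Group Γ] [Finite Γ] (p : ℕ) [Fact p.Prime]
    (hab : ∀ a ∈ pCore p Γ, ∀ b ∈ pCore p Γ, a * b = b * a)
    (hC : Subgroup.centralizer ((pCore p Γ : Subgroup Γ) : Set Γ) ≤ pCore p Γ)
    (Q : Sylow p Γ) (Z : Subgroup Γ) (hZW : Z ≤ pCore p Γ)
    (hZc : ∀ z ∈ Z, ∀ g ∈ (Q : Subgroup Γ), g * z = z * g)
    (h1 : ∀ a ∈ (Q : Subgroup Γ), ∀ b ∈ (Q : Subgroup Γ), ⁅a, b⁆ ∈ Z)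
    (h2 : ∀ u ∈ (Q : Subgroup Γ), u ^ p ∈ pCore p Γ)
    (h3 : ∀ v ∈ pCore p Γ, v ∉ Z → ∀ a ∈ (Q : Subgroup Γ), ∀ b ∈ (Q : Subgroup Γ),
        ∃ g ∈ (Q : Subgroup Γ), ⁅v, g⁆ = ⁅a, b⁆)
    (x : Γ) (R : Subgroup Γ) (hcfg : Config p (Q : Subgroup Γ) x R) :
    Nat.card (Q : Subgroup Γ) = p ^ 2 * Nat.card Z ∧
      ∃ u ∈ pCore p Γ, u ∉ Z ∧ u ^ p = 1 := by
  classical
  have hp : p.Prime := Fact.out
  obtain ⟨hxQ, hxW, hR1, ⟨r, hr, hrp, hRr⟩, hxN, hgen, hdec⟩ := hcfg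
  obtain ⟨W, hWdef⟩ : ∃ W : Subgroup Γ, W = pCore p Γ := ⟨_, rfl⟩
  rw [← hWdef] at hab hC hZW h2 h3 hxW hxN hgen hdec
  have hWn : W.Normal := by rw [hWdef]; exact H14.pCore_normal p Γ
  have hWp : IsPGroup p W := by rw [hWdef]; exact H14.pCore_isPGroup p Γ
  have hWQ : W ≤ (Q : Subgroup Γ) := hWp.le_sylow_of_normal Q
  haveI : Fact r.Prime := ⟨hr⟩
  -- `R ⊓ W = ⊥`
  have hRWdisj : Disjoint R W := IsPGroup.disjoint_of_ne r p hrp R W hRr hWp
  -- coprimality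
  have hcopRW : (Nat.card R).Coprime (Nat.card W) := by
    obtain ⟨a, ha⟩ := (IsPGroup.iff_card (p := r) (G := R)).mp hRr
    obtain ⟨b, hb⟩ := (IsPGroup.iff_card (p := p) (G := W)).mp hWp
    rw [ha, hb]
    exact Nat.Coprime.pow _ _ ((Nat.coprime_primes hr hp).mpr hrp)
  have hRnW : R ≤ Subgroup.normalizer (W : Set Γ) := by
    rw [Subgroup.normalizer_eq_top]; exact le_top
  have hWsolv : Group.IsSolvable W := by
    haveI := hWp.isNilpotent
    infer_instance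
  -- `W₁ = [W, R]`
  obtain ⟨W₁, hW₁def⟩ : ∃ W₁ : Subgroup Γ, W₁ = ⁅W, R⁆ := ⟨_, rfl⟩
  have hW₁W : W₁ ≤ W := by rw [hW₁def]; exact Subgroup.commutator_le_left W R
  have hW₁R : ⁅W₁, R⁆ = W₁ := by
    rw [hW₁def]
    exact H1.coprime_commutator_commutator R W hRnW hcopRW (Or.inr hWsolv)
  have hRnW₁ : R ≤ Subgroup.normalizer (W₁ : Set Γ) := by
    rw [hW₁def]; exact Subgroup.normalizer_commutator_ge_right W R
  have hcopRW₁ : (Nat.card R).Coprime (Nat.card W₁) :=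
    Nat.Coprime.coprime_dvd_right (Subgroup.card_dvd_of_le hW₁W) hcopRW
  have hdisj : W₁ ⊓ Subgroup.centralizer (R : Set Γ) = ⊥ :=
    H15.inf_centralizer_eq_bot_of_commutator_eq W₁ R hRnW₁ hcopRW₁
      (fun a b => Subtype.ext (hab a (hW₁W a.2) b (hW₁W b.2))) hW₁R
  -- conjugation into `W`
  have hconjW : ∀ (g : Γ) (w : Γ), w ∈ W → g * w * g⁻¹ ∈ W := fun g w hw => hWn.conj_mem w hw g
  -- the key lemma
  have key : ∀ M : Subgroup Γ, M ≤ W → (∀ s ∈ R, ∀ m ∈ M, s * m * s⁻¹ ∈ M) →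
      (∀ m ∈ M, x * m = m * x) → ∀ s ∈ R, ∀ m ∈ M, m * s = s * m := by
    intro M hMW hMR hMx
    have hxi : ∀ (i : ℕ) (m : Γ), m ∈ M → x ^ i * m = m * x ^ i := by
      intro i m hm
      exact ((Commute.pow_left (show Commute x m from hMx m hm) i)).eq
    have hgenC : Subgroup.closure {c : Γ | ∃ s ∈ R, ∃ i : ℕ, c = ⁅s, x ^ i⁆} ≤
        Subgroup.centralizer (M : Set Γ) := by
      rw [Subgroup.closure_le]
      rintro c ⟨s, hs, i, rfl⟩
      rw [SetLike.mem_coe, Subgroup.mem_centralizer_iff]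
      intro m hm
      have hm' : s⁻¹ * m * s ∈ M := by
        have := hMR s⁻¹ (R.inv_mem hs) m hm
        rwa [inv_inv] at this
      have e1 : x ^ i * (s⁻¹ * m * s) = (s⁻¹ * m * s) * x ^ i := hxi i _ hm'
      have e2 : (x ^ i)⁻¹ * m = m * (x ^ i)⁻¹ := by
        have := hxi i m hm
        calc (x ^ i)⁻¹ * m = (x ^ i)⁻¹ * (m * x ^ i) * (x ^ i)⁻¹ := by group
          _ = (x ^ i)⁻¹ * (x ^ i * m) * (x ^ i)⁻¹ := by rw [this]
          _ = m * (x ^ i)⁻¹ := by group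
      calc m * ⁅s, x ^ i⁆ = s * ((s⁻¹ * m * s) * x ^ i) * s⁻¹ * (x ^ i)⁻¹ := by
            rw [commutatorElement_def]; group
        _ = s * (x ^ i * (s⁻¹ * m * s)) * s⁻¹ * (x ^ i)⁻¹ := by rw [e1]
        _ = s * x ^ i * s⁻¹ * (m * (x ^ i)⁻¹) := by group
        _ = s * x ^ i * s⁻¹ * ((x ^ i)⁻¹ * m) := by rw [e2]
        _ = ⁅s, x ^ i⁆ * m := by rw [commutatorElement_def]; group
    have hWC : W ≤ Subgroup.centralizer (M : Set Γ) := by
      intro w hw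
      rw [Subgroup.mem_centralizer_iff]
      intro m hm
      exact hab m (hMW hm) w hw
    intro s hs m hm
    have hsC : s ∈ Subgroup.centralizer (M : Set Γ) := (sup_le hgenC hWC) (hgen hs)
    exact (Subgroup.mem_centralizer_iff.mp hsC) m hm
  -- elements normalizing `R` modulo `W` normalize `W₁`
  have norm : ∀ g : Γ, (∀ s ∈ R, ∃ s' ∈ R, ∃ w' ∈ W, g * s * g⁻¹ = s' * w') →
      ∀ u ∈ W₁, g * u * g⁻¹ ∈ W₁ := by
    intro g hg
    have hle : W₁ ≤ W₁.comap (MulAut.conj g).toMonoidHom := by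
      conv_lhs => rw [hW₁def]
      rw [Subgroup.commutator_le]
      intro w hw s hs
      rw [Subgroup.mem_comap]
      show g * ⁅w, s⁆ * g⁻¹ ∈ W₁
      obtain ⟨s', hs', w', hw', e⟩ := hg s hs
      rw [comm_conj', e, comm_mul_right']
      have h0 : ⁅g * w * g⁻¹, w'⁆ = 1 := by
        rw [comm_eq_one_iff']; exact hab _ (hconjW g w hw) _ hw'
      rw [h0, mul_one, mul_inv_cancel, mul_one, hW₁def]
      exact Subgroup.commutator_mem_commutator (hconjW g w hw) hs'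
    intro u hu
    exact hle hu
  have normR : ∀ s ∈ R, ∀ u ∈ W₁, s * u * s⁻¹ ∈ W₁ := by
    intro s hs
    apply norm
    intro s₀ hs₀
    exact ⟨s * s₀ * s⁻¹, R.mul_mem (R.mul_mem hs hs₀) (R.inv_mem hs), 1, W.one_mem, by group⟩
  have normx : ∀ u ∈ W₁, x * u * x⁻¹ ∈ W₁ := by
    apply norm
    intro s hs
    have h := (Subgroup.mem_normalizer_iff.mp hxN s).mp (Subgroup.mem_sup_left hs)
    haveI := hWn
    obtain ⟨y, hy, z, hz, e⟩ := Subgroup.mem_sup_of_normal_right.mp h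
    exact ⟨y, hy, z, hz, e.symm⟩
  have normt : ∀ t : Γ, (∀ s ∈ R, ⁅t, s⁆ ∈ W) → ∀ u ∈ W₁, t * u * t⁻¹ ∈ W₁ := by
    intro t ht
    apply norm
    intro s hs
    refine ⟨s, hs, s⁻¹ * ⁅t, s⁆ * s, ?_, ?_⟩
    · have := hconjW s⁻¹ _ (ht s hs)
      rwa [inv_inv] at this
    · rw [commutatorElement_def]; group
  have comm_mem : ∀ (g : Γ), (∀ u ∈ W₁, g * u * g⁻¹ ∈ W₁) → ∀ u ∈ W₁, ⁅u, g⁆ ∈ W₁ := by
    intro g hg u hu
    have : ⁅u, g⁆ = u * (g * u⁻¹ * g⁻¹) := by rw [commutatorElement_def]; group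
    rw [this]
    exact W₁.mul_mem hu (hg _ (W₁.inv_mem hu))
  -- the subgroups `M_t`
  have hMt : ∀ t ∈ (Q : Subgroup Γ), (∀ s ∈ R, ⁅t, s⁆ ∈ W) → ∀ w' ∈ W,
      ⁅w', t⁆ ∈ Subgroup.centralizer (R : Set Γ) := by
    intro t htQ ht
    obtain ⟨M, hMdef⟩ : ∃ M : Subgroup Γ, M = Subgroup.closure {c : Γ | ∃ w ∈ W, c = ⁅w, t⁆} :=
      ⟨_, rfl⟩
    have hgenW : ∀ w ∈ W, ⁅w, t⁆ ∈ W := by
      intro w hw
      have : ⁅w, t⁆ = w * (t * w⁻¹ * t⁻¹) := by rw [commutatorElement_def]; group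
      rw [this]
      exact W.mul_mem hw (hconjW t _ (W.inv_mem hw))
    have hMW : M ≤ W := by
      rw [hMdef, Subgroup.closure_le]
      rintro c ⟨w, hw, rfl⟩
      exact hgenW w hw
    have hMx : ∀ m ∈ M, x * m = m * x := by
      have hle : M ≤ Subgroup.centralizer ({x} : Set Γ) := by
        rw [hMdef, Subgroup.closure_le]
        rintro c ⟨w, hw, rfl⟩
        rw [SetLike.mem_coe, Subgroup.mem_centralizer_iff]
        intro y hy
        rw [Set.mem_singleton_iff] at hy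
        subst hy
        exact hZc _ (h1 w (hWQ hw) t htQ) y hxQ
      intro m hm
      have := (Subgroup.mem_centralizer_iff.mp (hle hm)) x (Set.mem_singleton x)
      exact this
    have hMR : ∀ s ∈ R, ∀ m ∈ M, s * m * s⁻¹ ∈ M := by
      intro s hs
      have hle : M ≤ M.comap (MulAut.conj s).toMonoidHom := by
        conv_lhs => rw [hMdef]
        rw [Subgroup.closure_le]
        rintro c ⟨w, hw, rfl⟩
        rw [SetLike.mem_coe, Subgroup.mem_comap]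
        show s * ⁅w, t⁆ * s⁻¹ ∈ M
        have hw3 : t⁻¹ * (s * t * s⁻¹) ∈ W := by
          have e : t⁻¹ * (s * t * s⁻¹) = t⁻¹ * ⁅t, s⁆⁻¹ * t := by
            rw [commutatorElement_def]; group
          rw [e]
          have := hconjW t⁻¹ _ (W.inv_mem (ht s hs))
          rwa [inv_inv] at this
        have e2 : s * t * s⁻¹ = t * (t⁻¹ * (s * t * s⁻¹)) := by group
        rw [comm_conj', e2, comm_mul_right']
        have h0 : ⁅s * w * s⁻¹, t⁻¹ * (s * t * s⁻¹)⁆ = 1 := by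
          rw [comm_eq_one_iff']; exact hab _ (hconjW s w hw) _ hw3
        rw [h0, mul_one, mul_inv_cancel, mul_one, hMdef]
        exact Subgroup.subset_closure ⟨s * w * s⁻¹, hconjW s w hw, rfl⟩
      intro m hm
      exact hle hm
    have hk := key M hMW hMR hMx
    intro w' hw'
    rw [Subgroup.mem_centralizer_iff]
    intro s hs
    have hm : ⁅w', t⁆ ∈ M := by rw [hMdef]; exact Subgroup.subset_closure ⟨w', hw', rfl⟩
    exact (hk s hs _ hm).symm
  -- `t` centralizes `W₁`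
  have htW₁ : ∀ t ∈ (Q : Subgroup Γ), (∀ s ∈ R, ⁅t, s⁆ ∈ W) → ∀ u ∈ W₁, ⁅u, t⁆ = 1 := by
    intro t htQ ht u hu
    have h1' : ⁅u, t⁆ ∈ W₁ := comm_mem t (normt t ht) u hu
    have h2' : ⁅u, t⁆ ∈ Subgroup.centralizer (R : Set Γ) := hMt t htQ ht u (hW₁W hu)
    have : ⁅u, t⁆ ∈ W₁ ⊓ Subgroup.centralizer (R : Set Γ) := ⟨h1', h2'⟩
    rw [hdisj, Subgroup.mem_bot] at this
    exact this
  -- `W₁ ⊄ Z`
  have hexw : ∃ w ∈ W₁, w ∉ Z := by
    by_contra hcon
    push Not at hcon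
    have hk := key W₁ hW₁W normR (fun m hm => hZc m (hcon m hm) x hxQ)
    have hW₁bot : W₁ = ⊥ := by
      rw [eq_bot_iff, ← hdisj]
      intro u hu
      exact Subgroup.mem_inf.mpr ⟨hu, Subgroup.mem_centralizer_iff.mpr
        (fun s hs => (hk s hs u hu).symm)⟩
    have hRC : R ≤ Subgroup.centralizer (W : Set Γ) := by
      rw [hW₁def, Subgroup.commutator_eq_bot_iff_le_centralizer] at hW₁bot
      exact Subgroup.le_centralizer_iff.mp hW₁bot
    have hRW : R ≤ W := hRC.trans hC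
    exact hR1 (hRWdisj.eq_bot_of_le hRW)
  obtain ⟨w, hwW₁, hwZ⟩ := hexw
  have hwW : w ∈ W := hW₁W hwW₁
  obtain ⟨c₀, hc₀def⟩ : ∃ c₀ : Γ, c₀ = ⁅w, x⁆ := ⟨_, rfl⟩
  have hc₀Z : c₀ ∈ Z := by rw [hc₀def]; exact h1 w (hWQ hwW) x hxQ
  have hc₀W₁ : c₀ ∈ W₁ := by rw [hc₀def]; exact comm_mem x normx w hwW₁
  have hxiQ : ∀ i : ℕ, x ^ i ∈ (Q : Subgroup Γ) := fun i => Subgroup.pow_mem _ hxQ i
  have hpow : ∀ (v : Γ), v ∈ W → ∀ i : ℕ, ⁅v, x ^ i⁆ = ⁅v, x⁆ ^ i := by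
    intro v hv i
    induction i with
    | zero => simp
    | succ i ih =>
      rw [pow_succ, comm_mul_right', ih]
      have hz : ⁅v, x⁆ ∈ Z := h1 v (hWQ hv) x hxQ
      have := hZc _ hz (x ^ i) (hxiQ i)
      rw [this, mul_assoc, mul_inv_cancel, mul_one, ← pow_succ]
  -- every commutator of `Q` is a power of `c₀`
  have hcommpow : ∀ a ∈ (Q : Subgroup Γ), ∀ b ∈ (Q : Subgroup Γ), ∃ i : ℕ, ⁅a, b⁆ = c₀ ^ i := by
    intro a ha b hb
    obtain ⟨g, hgQ, hg⟩ := h3 w hwW hwZ a ha b hb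
    obtain ⟨i, t, htQ, rfl, ht⟩ := hdec g hgQ
    refine ⟨i, ?_⟩
    rw [← hg, comm_mul_right', htW₁ t htQ ht w hwW₁, mul_one, mul_inv_cancel, mul_one,
      hpow w hwW i, hc₀def]
  -- the `t`'s lie in `W`
  have htW : ∀ t ∈ (Q : Subgroup Γ), (∀ s ∈ R, ⁅t, s⁆ ∈ W) → t ∈ W := by
    intro t htQ ht
    apply hC
    rw [Subgroup.mem_centralizer_iff]
    intro w' hw'
    have h1' : ⁅w', t⁆ ∈ W₁ := by
      obtain ⟨i, hi⟩ := hcommpow w' (hWQ hw') t htQ
      rw [hi]; exact Subgroup.pow_mem _ hc₀W₁ i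
    have h2' : ⁅w', t⁆ ∈ Subgroup.centralizer (R : Set Γ) := hMt t htQ ht w' hw'
    have : ⁅w', t⁆ ∈ W₁ ⊓ Subgroup.centralizer (R : Set Γ) := ⟨h1', h2'⟩
    rw [hdisj, Subgroup.mem_bot, comm_eq_one_iff'] at this
    exact this
  have hdecW : ∀ g ∈ (Q : Subgroup Γ), ∃ i : ℕ, ∃ t ∈ W, g = x ^ i * t := by
    intro g hg
    obtain ⟨i, t, htQ, e, ht⟩ := hdec g hg
    exact ⟨i, t, htW t htQ ht, e⟩
  -- `C_W(x) = Z`
  have hCx : ∀ v ∈ W, v ∉ Z → ⁅v, x⁆ ≠ 1 := by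
    intro v hv hvZ hcon
    have hxC : x ∉ Subgroup.centralizer (W : Set Γ) := fun h => hxW (hC h)
    rw [Subgroup.mem_centralizer_iff] at hxC
    push Not at hxC
    obtain ⟨w₀, hw₀, hne⟩ := hxC
    obtain ⟨g, hgQ, hg⟩ := h3 v hv hvZ w₀ (hWQ hw₀) x hxQ
    obtain ⟨i, t, htW', rfl⟩ := hdecW g hgQ
    have h0 : ⁅v, t⁆ = 1 := by rw [comm_eq_one_iff']; exact hab v hv t htW'
    rw [comm_mul_right', h0, mul_one, mul_inv_cancel, mul_one, hpow v hv i, hcon, one_pow] at hg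
    have : w₀ * x = x * w₀ := (comm_eq_one_iff' w₀ x).mp hg.symm
    exact hne this
  have hc₀1 : c₀ ≠ 1 := by rw [hc₀def]; exact hCx w hwW hwZ
  have hc₀p : c₀ ^ p = 1 := by
    rw [hc₀def, ← hpow w hwW p, comm_eq_one_iff']
    exact hab w hwW _ (h2 x hxQ)
  have hc₀ord : orderOf c₀ = p := orderOf_eq_prime hc₀p hc₀1
  -- `|W| = p |Z|`
  have hcardW : Nat.card W = p * Nat.card Z := by
    let φ : W →* Γ :=
      { toFun := fun v => ⁅(v : Γ), x⁆
        map_one' := by simp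
        map_mul' := by
          intro a b
          show ⁅(a : Γ) * (b : Γ), x⁆ = ⁅(a : Γ), x⁆ * ⁅(b : Γ), x⁆
          rw [comm_mul_left']
          have hbx : ⁅(b : Γ), x⁆ ∈ W := by
            have : ⁅(b : Γ), x⁆ = (b : Γ) * (x * (b : Γ)⁻¹ * x⁻¹) := by
              rw [commutatorElement_def]; group
            rw [this]
            exact W.mul_mem b.2 (hconjW x _ (W.inv_mem b.2))
          have hax : ⁅(a : Γ), x⁆ ∈ W := by
            have : ⁅(a : Γ), x⁆ = (a : Γ) * (x * (a : Γ)⁻¹ * x⁻¹) := by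
              rw [commutatorElement_def]; group
            rw [this]
            exact W.mul_mem a.2 (hconjW x _ (W.inv_mem a.2))
          have e1 : (a : Γ) * ⁅(b : Γ), x⁆ * (a : Γ)⁻¹ = ⁅(b : Γ), x⁆ := by
            rw [hab _ a.2 _ hbx, mul_assoc, mul_inv_cancel, mul_one]
          rw [e1]
          exact hab _ hbx _ hax }
    have hφ : ∀ v : W, φ v = ⁅(v : Γ), x⁆ := fun v => rfl
    have hker : φ.ker = Z.subgroupOf W := by
      ext v
      rw [MonoidHom.mem_ker, hφ, Subgroup.mem_subgroupOf]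
      constructor
      · intro h
        by_contra hvZ
        exact hCx v v.2 hvZ h
      · intro h
        rw [comm_eq_one_iff']
        exact (hZc v h x hxQ).symm
    have hrange : φ.range ≤ Subgroup.zpowers c₀ := by
      rintro _ ⟨v, rfl⟩
      rw [hφ]
      obtain ⟨i, hi⟩ := hcommpow v (hWQ v.2) x hxQ
      rw [hi]
      exact Subgroup.pow_mem _ (Subgroup.mem_zpowers c₀) i
    have hrcard : Nat.card φ.range = p := by
      have hd : Nat.card φ.range ∣ p := by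
        have := Subgroup.card_dvd_of_le hrange
        rwa [Nat.card_zpowers, hc₀ord] at this
      rcases (Nat.dvd_prime hp).mp hd with h | h
      · exfalso
        have hbot : φ.range = ⊥ := Subgroup.card_eq_one.mp h
        have hmem : c₀ ∈ φ.range := ⟨⟨w, hwW⟩, by rw [hφ, hc₀def]⟩
        rw [hbot, Subgroup.mem_bot] at hmem
        exact hc₀1 hmem
      · exact h
    have hidx : φ.ker.index = Nat.card φ.range := Subgroup.index_ker φ
    have hmul := Subgroup.card_mul_index φ.ker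
    rw [hidx, hrcard, hker] at hmul
    have hcz : Nat.card (Z.subgroupOf W) = Nat.card Z :=
      Nat.card_congr (Subgroup.subgroupOfEquivOfLe hZW).toEquiv
    rw [hcz] at hmul
    rw [← hmul, mul_comm]
  -- `|Q| = p |W|`
  have hcardQ : Nat.card (Q : Subgroup Γ) = p * Nat.card W := by
    haveI := hWn
    obtain ⟨Qb, hQbdef⟩ : ∃ Qb : Subgroup (Γ ⧸ W), Qb = (Q : Subgroup Γ).map (QuotientGroup.mk' W) :=
      ⟨_, rfl⟩
    have hcomap : Qb.comap (QuotientGroup.mk' W) = (Q : Subgroup Γ) := by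
      rw [hQbdef, Subgroup.comap_map_eq, QuotientGroup.ker_mk', sup_eq_left.mpr hWQ]
    have hQb : Qb = Subgroup.zpowers (QuotientGroup.mk' W x) := by
      apply le_antisymm
      · rw [hQbdef]
        rintro _ ⟨g, hg, rfl⟩
        obtain ⟨i, t, ht, rfl⟩ := hdecW g hg
        have ht1 : (QuotientGroup.mk' W) t = 1 := (QuotientGroup.eq_one_iff t).mpr ht
        rw [map_mul, map_pow, ht1, mul_one]
        exact Subgroup.pow_mem _ (Subgroup.mem_zpowers _) i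
      · rw [Subgroup.zpowers_le, hQbdef]
        exact ⟨x, hxQ, rfl⟩
    have hord : orderOf (QuotientGroup.mk' W x) = p := by
      apply orderOf_eq_prime
      · rw [← map_pow]; exact (QuotientGroup.eq_one_iff _).mpr (h2 x hxQ)
      · intro h; exact hxW ((QuotientGroup.eq_one_iff x).mp h)
    have h := H80.card_comap_mk' W Qb
    rw [hcomap, hQb, Nat.card_zpowers, hord] at h
    rw [h, mul_comm]
  refine ⟨by rw [hcardQ, hcardW]; ring, ?_⟩
  -- an element of order `p` of `W₁` outside `Z`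
  by_contra hcon
  push Not at hcon
  rw [← hWdef] at hcon
  let Ω : Subgroup Γ :=
    { carrier := {u | u ∈ W₁ ∧ u ^ p = 1}
      one_mem' := ⟨W₁.one_mem, one_pow p⟩
      mul_mem' := by
        rintro a b ⟨ha, hap⟩ ⟨hb, hbp⟩
        refine ⟨W₁.mul_mem ha hb, ?_⟩
        have hc : Commute a b := hab a (hW₁W ha) b (hW₁W hb)
        rw [hc.mul_pow, hap, hbp, one_mul]
      inv_mem' := by
        rintro a ⟨ha, hap⟩
        exact ⟨W₁.inv_mem ha, by rw [inv_pow, hap, inv_one]⟩ }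
  have hΩmem : ∀ u : Γ, u ∈ Ω ↔ u ∈ W₁ ∧ u ^ p = 1 := fun u => Iff.rfl
  have hΩW : Ω ≤ W := fun u hu => hW₁W ((hΩmem u).mp hu).1
  have hΩZ : ∀ u ∈ Ω, u ∈ Z := by
    intro u hu
    by_contra huZ
    exact hcon u (hΩW hu) huZ ((hΩmem u).mp hu).2
  have hΩR : ∀ s ∈ R, ∀ m ∈ Ω, s * m * s⁻¹ ∈ Ω := by
    intro s hs m hm
    rw [hΩmem] at hm ⊢
    refine ⟨normR s hs m hm.1, ?_⟩
    rw [conj_pow, hm.2]; group
  have hk := key Ω hΩW hΩR (fun m hm => hZc m (hΩZ m hm) x hxQ)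
  have hΩbot : Ω ≤ ⊥ := by
    rw [← hdisj]
    intro u hu
    exact Subgroup.mem_inf.mpr ⟨((hΩmem u).mp hu).1, Subgroup.mem_centralizer_iff.mpr
      (fun s hs => (hk s hs u hu).symm)⟩
  -- but `W₁` has an element of order `p`
  have hw1 : w ≠ 1 := by
    rintro rfl
    exact hwZ Z.one_mem
  obtain ⟨k, hk0⟩ := hWp ⟨w, hwW⟩
  have hk' : ∃ k : ℕ, w ^ p ^ k = 1 := ⟨k, congrArg Subtype.val hk0⟩
  obtain ⟨hm1, hm2⟩ := Nat.find_spec hk' , @Nat.find_min _ _ hk'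
  have hpos : 0 < Nat.find hk' := by
    rw [Nat.pos_iff_ne_zero]
    intro h0
    rw [h0, pow_zero, pow_one] at hm1
    exact hw1 hm1
  have hu : w ^ p ^ (Nat.find hk' - 1) ∈ Ω := by
    rw [hΩmem]
    refine ⟨Subgroup.pow_mem _ hwW₁ _, ?_⟩
    rw [← pow_mul, ← pow_succ]
    have : Nat.find hk' - 1 + 1 = Nat.find hk' := by omega
    rw [this]; exact hm1
  have hu1 := hΩbot hu
  rw [Subgroup.mem_bot] at hu1
  exact hm2 (by omega) hu1

end Cfsg.Agent.H13.Sch
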