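import Mathlib
import Cfsg.Agent.H13.SchDefs
import Cfsg.Agent.H13.SchMain
import Cfsg.Agent.H1.SchP2a
import Cfsg.Agent.H2.SchP3
import Cfsg.Agent.H98.SchP4
import Cfsg.Agent.H80.PSolvable
import Cfsg.Agent.H14.Cores

/-!
# S4394 (team project): the core theorem

In a `p`-soluble group with `O_{p'} = 1` a Sylow `p`-subgroup with the `SLike` property is normal.
-/

set_option autoImplicit false
set_option linter.unusedVariables false
set_option linter.style.haveILetI false
set_option maxHeartbeats 1000000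

open Cfsg
open scoped commutatorElement

namespace Cfsg.Agent.H13.Sch

theorem mem_centerMap {G : Type*} [Group G] (H : Subgroup G) (z : G) :
    z ∈ (Subgroup.center ↥H).map H.subtype ↔ z ∈ H ∧ ∀ g ∈ H, g * z = z * g := by
  constructor
  · rintro ⟨y, hy, rfl⟩
    refine ⟨y.2, fun g hg => ?_⟩
    have := (Subgroup.mem_center_iff.mp hy) ⟨g, hg⟩
    exact congrArg Subtype.val this
  · rintro ⟨hz, h⟩
    exact ⟨⟨z, hz⟩, Subgroup.mem_center_iff.mpr (fun g => Subtype.ext (h g g.2)), rfl⟩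

theorem sylow_le_pCore_of_sLike {G : Type*} [Group G] [Finite G] (p : ℕ) [Fact p.Prime]
    (hsol : IsPSolvable p G) (hO : pPrimeCore p G = ⊥) (S : Sylow p G)
    (hS : SLike p ↥(S : Subgroup G)) : (S : Subgroup G) ≤ pCore p G := by
  classical
  have hp : p.Prime := Fact.out
  obtain ⟨V, hVdef⟩ : ∃ V : Subgroup G, V = pCore p G := ⟨_, rfl⟩
  have hCV : Subgroup.centralizer ((V : Subgroup G) : Set G) ≤ V := by
    rw [hVdef]; exact H80.centralizer_pCore_le p hsol hO
  haveI hVn : V.Normal := by rw [hVdef]; exact H14.pCore_normal p G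
  have hVp : IsPGroup p V := by rw [hVdef]; exact H14.pCore_isPGroup p G
  have hVS : V ≤ (S : Subgroup G) := hVp.le_sylow_of_normal S
  rw [← hVdef]
  rcases hS with hab | ⟨hcl, hpw, hse, h4, h5⟩
  · -- abelian Sylow subgroup
    intro s hs
    apply hCV
    rw [Subgroup.mem_centralizer_iff]
    intro v hv
    exact congrArg Subtype.val (hab ⟨v, hVS hv⟩ ⟨s, hs⟩)
  · by_contra hne
    obtain ⟨Zs, hZsdef⟩ : ∃ Zs : Subgroup G,
        Zs = (Subgroup.center ↥(S : Subgroup G)).map (S : Subgroup G).subtype := ⟨_, rfl⟩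
    have hZmem : ∀ z : G, z ∈ Zs ↔ z ∈ (S : Subgroup G) ∧ ∀ g ∈ (S : Subgroup G), g * z = z * g := by
      intro z; rw [hZsdef]; exact mem_centerMap _ z
    have hZsS : Zs ≤ (S : Subgroup G) := fun z hz => ((hZmem z).mp hz).1
    have hclG : ∀ a ∈ (S : Subgroup G), ∀ b ∈ (S : Subgroup G), ⁅a, b⁆ ∈ Zs := by
      intro a ha b hb
      rw [hZmem]
      refine ⟨(S : Subgroup G).mul_mem ((S : Subgroup G).mul_mem ((S : Subgroup G).mul_mem ha hb)
        ((S : Subgroup G).inv_mem ha)) ((S : Subgroup G).inv_mem hb), ?_⟩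
      intro g hg
      have := hcl ⟨a, ha⟩ ⟨b, hb⟩ ⟨g, hg⟩
      exact (congrArg Subtype.val this).symm
    have hpwG : ∀ u ∈ (S : Subgroup G), u ^ p ∈ Zs := by
      intro u hu
      rw [hZsdef]
      exact ⟨⟨u, hu⟩ ^ p, hpw ⟨u, hu⟩, rfl⟩
    have hnotc : ∀ v (hv : v ∈ (S : Subgroup G)), v ∉ Zs →
        (⟨v, hv⟩ : ↥(S : Subgroup G)) ∉ Subgroup.center ↥(S : Subgroup G) := by
      intro v hv hvZ hc
      apply hvZ
      rw [hZsdef]
      exact ⟨⟨v, hv⟩, hc, rfl⟩
    have hseG : ∀ v ∈ (S : Subgroup G), v ∉ Zs → ∀ a ∈ (S : Subgroup G), ∀ b ∈ (S : Subgroup G),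
        ∃ g ∈ (S : Subgroup G), ⁅v, g⁆ = ⁅a, b⁆ := by
      intro v hv hvZ a ha b hb
      obtain ⟨g, hg⟩ := hse ⟨v, hv⟩ (hnotc v hv hvZ) ⟨a, ha⟩ ⟨b, hb⟩
      exact ⟨g, g.2, congrArg Subtype.val hg⟩
    have hZsV : Zs ≤ V := by
      intro z hz
      apply hCV
      rw [Subgroup.mem_centralizer_iff]
      intro v hv
      exact ((hZmem z).mp hz).2 v (hVS hv)
    by_cases hp23 : p = 2 ∨ p = 3
    · -- the main lemma in `G ⧸ V'`
      obtain ⟨N, hNdef⟩ : ∃ N : Subgroup G, N = ⁅V, V⁆ := ⟨_, rfl⟩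
      haveI hNn : N.Normal := by rw [hNdef]; infer_instance
      have hN : N = (commutator ↥(pCore p G)).map (pCore p G).subtype := by
        rw [← hVdef, hNdef, commutator_def, Subgroup.map_commutator, ← MonoidHom.range_eq_map,
          Subgroup.range_subtype]
      have hNZ : N ≤ Zs := by
        rw [hNdef, Subgroup.commutator_le]
        intro a ha b hb
        exact hclG a (hVS ha) b (hVS hb)
      have hNV : N ≤ V := hNZ.trans hZsV
      obtain ⟨hpc, habΓ, hCΓ⟩ := H98.Sch.quot_facts p hsol hO N hN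
      rw [← hVdef] at hpc
      have hsolΓ : IsPSolvable p (G ⧸ N) := H80.isPSolvable_quotient p N hsol
      have hsurj : Function.Surjective (QuotientGroup.mk' N) := QuotientGroup.mk'_surjective N
      obtain ⟨QΓ, hQΓdef⟩ : ∃ QΓ : Sylow p (G ⧸ N), QΓ = S.mapSurjective hsurj := ⟨_, rfl⟩
      have hQΓ : (QΓ : Subgroup (G ⧸ N)) = (S : Subgroup G).map (QuotientGroup.mk' N) := by
        rw [hQΓdef, Sylow.coe_mapSurjective]
      obtain ⟨ZΓ, hZΓdef⟩ : ∃ ZΓ : Subgroup (G ⧸ N), ZΓ = Zs.map (QuotientGroup.mk' N) := ⟨_, rfl⟩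
      have hker : (QuotientGroup.mk' N).ker = N := QuotientGroup.ker_mk' N
      have hcommΓ : ∀ a ∈ (QΓ : Subgroup (G ⧸ N)), ∀ b ∈ (QΓ : Subgroup (G ⧸ N)), ⁅a, b⁆ ∈ ZΓ := by
        intro a ha b hb
        rw [hQΓ] at ha hb
        obtain ⟨a₀, ha₀, rfl⟩ := ha
        obtain ⟨b₀, hb₀, rfl⟩ := hb
        rw [← map_commutatorElement, hZΓdef]
        exact ⟨_, hclG a₀ ha₀ b₀ hb₀, rfl⟩
      have hZΓW : ZΓ ≤ pCore p (G ⧸ N) := by
        rw [hpc, hZΓdef]; exact Subgroup.map_mono hZsV
      have hpowΓ : ∀ u ∈ (QΓ : Subgroup (G ⧸ N)), u ^ p ∈ pCore p (G ⧸ N) := by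
        intro u hu
        rw [hQΓ] at hu
        obtain ⟨u₀, hu₀, rfl⟩ := hu
        rw [← map_pow, hpc]
        exact ⟨_, hZsV (hpwG u₀ hu₀), rfl⟩
      have hneΓ : ¬ (QΓ : Subgroup (G ⧸ N)) ≤ pCore p (G ⧸ N) := by
        rw [hQΓ, hpc, Subgroup.map_le_map_iff, hker, sup_eq_left.mpr hNV]
        exact hne
      obtain ⟨x, R, hcfg⟩ := Cfsg.Agent.H1.Sch.exists_config p hsolΓ QΓ
        (fun a ha b hb => hZΓW (hcommΓ a ha b hb)) hpowΓ hneΓ
      have hZcΓ : ∀ z ∈ ZΓ, ∀ g ∈ (QΓ : Subgroup (G ⧸ N)), g * z = z * g := by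
        intro z hz g hg
        rw [hZΓdef] at hz
        rw [hQΓ] at hg
        obtain ⟨z₀, hz₀, rfl⟩ := hz
        obtain ⟨g₀, hg₀, rfl⟩ := hg
        rw [← map_mul, ← map_mul, ((hZmem z₀).mp hz₀).2 g₀ hg₀]
      have h3Γ : ∀ v ∈ pCore p (G ⧸ N), v ∉ ZΓ → ∀ a ∈ (QΓ : Subgroup (G ⧸ N)),
          ∀ b ∈ (QΓ : Subgroup (G ⧸ N)), ∃ g ∈ (QΓ : Subgroup (G ⧸ N)), ⁅v, g⁆ = ⁅a, b⁆ := by
        intro v hv hvZ a ha b hb
        rw [hpc] at hv
        rw [hQΓ] at ha hb
        obtain ⟨v₀, hv₀, rfl⟩ := hv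
        obtain ⟨a₀, ha₀, rfl⟩ := ha
        obtain ⟨b₀, hb₀, rfl⟩ := hb
        have hv₀Z : v₀ ∉ Zs := by
          intro h; apply hvZ; rw [hZΓdef]; exact ⟨v₀, h, rfl⟩
        obtain ⟨g₀, hg₀, e⟩ := hseG v₀ (hVS hv₀) hv₀Z a₀ ha₀ b₀ hb₀
        refine ⟨QuotientGroup.mk' N g₀, ?_, ?_⟩
        · rw [hQΓ]; exact ⟨g₀, hg₀, rfl⟩
        · rw [← map_commutatorElement, ← map_commutatorElement, e]
      obtain ⟨hcard, u, hu, huZ, hup⟩ := main_of_config p habΓ hCΓ QΓ ZΓ hZΓW hZcΓ hcommΓ hpowΓ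
        h3Γ x R hcfg
      -- cardinalities
      have hcS : Nat.card (S : Subgroup G) = Nat.card N * Nat.card (QΓ : Subgroup (G ⧸ N)) := by
        have h := H80.card_comap_mk' N (QΓ : Subgroup (G ⧸ N))
        rw [hQΓ, Subgroup.comap_map_eq, hker, sup_eq_left.mpr (hNZ.trans hZsS)] at h
        rw [hQΓ]; exact h
      have hcZ : Nat.card Zs = Nat.card N * Nat.card ZΓ := by
        have h := H80.card_comap_mk' N ZΓ
        rw [hZΓdef, Subgroup.comap_map_eq, hker, sup_eq_left.mpr hNZ] at h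
        rw [hZΓdef]; exact h
      have hcZc : Nat.card Zs = Nat.card (Subgroup.center ↥(S : Subgroup G)) := by
        rw [hZsdef]
        exact Subgroup.card_map_of_injective (Subgroup.subtype_injective _)
      have hcard' : Nat.card (S : Subgroup G) =
          p ^ 2 * Nat.card (Subgroup.center ↥(S : Subgroup G)) := by
        rw [← hcZc, hcS, hcZ, hcard]; ring
      rcases hp23 with h2 | h3
      · -- `p = 2`
        subst h2
        have h4' := h4 rfl (by rw [hcard']; norm_num)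
        -- `V` is abelian
        have hrel : Zs.relIndex V * V.relIndex (S : Subgroup G) = 4 := by
          rw [Subgroup.relIndex_mul_relIndex Zs V (S : Subgroup G) hZsV hVS]
          have h := H80.card_eq_card_mul_relIndex hZsS
          rw [hcard', hcZc] at h
          have hpos : 0 < Nat.card (Subgroup.center ↥(S : Subgroup G)) := Nat.card_pos
          have h' : Nat.card (Subgroup.center ↥(S : Subgroup G)) * 4 =
              Nat.card (Subgroup.center ↥(S : Subgroup G)) * Zs.relIndex (S : Subgroup G) := by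
            rw [← h]; ring
          exact (Nat.eq_of_mul_eq_mul_left hpos h').symm
        have hVS1 : V.relIndex (S : Subgroup G) ≠ 1 := by
          rw [Ne, Subgroup.relIndex_eq_one]; exact hne
        have hle2 : Zs.relIndex V ≤ 2 := by
          by_contra hgt
          push Not at hgt
          have h0 : V.relIndex (S : Subgroup G) ≠ 0 := by
            intro h0; rw [h0, mul_zero] at hrel; omega
          have : 2 ≤ V.relIndex (S : Subgroup G) := by omega
          nlinarith
        have hVab : ∀ a ∈ V, ∀ b ∈ V, a * b = b * a := by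
          intro a ha b hb
          by_cases haZ : a ∈ Zs
          · exact ((hZmem a).mp haZ).2 b (hVS hb) |>.symm
          by_cases hbZ : b ∈ Zs
          · exact ((hZmem b).mp hbZ).2 a (hVS ha)
          have hidx : (Zs.subgroupOf V).index = 2 := by
            have h0 : Zs.relIndex V ≠ 0 := by
              intro h0; rw [h0, zero_mul] at hrel; omega
            have h1 : Zs.relIndex V ≠ 1 := by
              rw [Ne, Subgroup.relIndex_eq_one]
              intro h; exact haZ (h ha)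
            have : Zs.relIndex V = 2 := by omega
            exact this
          have hmul : (⟨a, ha⟩ : V) * ⟨b, hb⟩ ∈ Zs.subgroupOf V := by
            rw [Subgroup.mul_mem_iff_of_index_two hidx]
            simp only [Subgroup.mem_subgroupOf]
            exact ⟨fun h => absurd h haZ, fun h => absurd h hbZ⟩
          rw [Subgroup.mem_subgroupOf] at hmul
          have hc := ((hZmem _).mp hmul).2 a (hVS ha)
          -- a * (a * b) = (a * b) * a
          have hc' : a * (a * b) = a * (b * a) := by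
            have : ((⟨a, ha⟩ : V) * ⟨b, hb⟩ : V).1 = a * b := rfl
            rw [this] at hc
            rw [hc]; group
          exact mul_left_cancel hc'
        have hNbot : N = ⊥ := by
          rw [hNdef, Subgroup.commutator_eq_bot_iff_le_centralizer]
          intro a ha
          rw [Subgroup.mem_centralizer_iff]
          intro b hb
          exact hVab b hb a ha
        rw [hpc] at hu
        obtain ⟨u₀, hu₀, rfl⟩ := hu
        have hu₀Z : u₀ ∉ Zs := by
          intro h; apply huZ; rw [hZΓdef]; exact ⟨u₀, h, rfl⟩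
        have hu₀2 : u₀ ^ 2 = 1 := by
          rw [← map_pow] at hup
          have := (QuotientGroup.eq_one_iff _).mp hup
          rw [hNbot, Subgroup.mem_bot] at this
          exact this
        apply h4' ⟨u₀, hVS hu₀⟩ (hnotc u₀ (hVS hu₀) hu₀Z)
        exact Subtype.ext hu₀2
      · -- `p = 3`
        subst h3
        exact h5 rfl (by rw [hcard']; norm_num)
    · -- `p ≥ 5`
      push Not at hp23
      apply hne
      have := Cfsg.Agent.H2.Sch.sylow_le_pCore_of_class_two p hp23.1 hp23.2 hsol hO S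
        (fun a ha b hb c hc => congrArg Subtype.val (hcl ⟨a, ha⟩ ⟨b, hb⟩ ⟨c, hc⟩))
      rwa [← hVdef] at this

end Cfsg.Agent.H13.Sch
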