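import Mathlib
import Cfsg.Agent.H13.SqfA

set_option autoImplicit false

namespace Cfsg.Agent.H13.Sqf

open Subgroup Cfsg.Agent.H72.Ito Cfsg.Agent.H72.BHM

theorem card_eq_filter {α : Type*} [Fintype α] (P : α → Prop) [DecidablePred P] :
    Nat.card {x // P x} = (Finset.univ.filter P).card := by
  rw [Nat.card_eq_fintype_card]
  exact Fintype.card_of_subtype _ (by simp)

/-- uniform exponents for the `p`-part and `p'`-part -/
theorem exists_uniform_parts (G : Type*) [Group G] [Finite G] {p : ℕ} (hp : p.Prime) :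
    ∃ a b : ℕ, ∀ g : G, g ^ a * g ^ b = g ∧ (∃ k : ℕ, orderOf (g ^ a) = p ^ k) ∧
      (orderOf (g ^ b)).Coprime p := by
  have hn0 : Nat.card G ≠ 0 := Nat.card_pos.ne'
  obtain ⟨n, hn⟩ : ∃ n : ℕ, n = Nat.card G := ⟨_, rfl⟩
  rw [← hn] at hn0
  obtain ⟨pk, hpk⟩ : ∃ pk : ℕ, pk = p ^ n.factorization p := ⟨_, rfl⟩
  obtain ⟨n', hn'⟩ : ∃ n' : ℕ, n' = n / pk := ⟨_, rfl⟩
  have hmul : pk * n' = n := by rw [hn', hpk]; exact Nat.ordProj_mul_ordCompl_eq_self n p
  have co : pk.Coprime n' := by
    rw [hn', hpk]; exact Nat.Coprime.pow_left _ (Nat.coprime_ordCompl hp hn0)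
  obtain ⟨a, ha1, ha2⟩ := Nat.chineseRemainder co 1 0
  obtain ⟨b, hb1, hb2⟩ := Nat.chineseRemainder co 0 1
  refine ⟨a, b, fun g => ⟨?_, ?_, ?_⟩⟩
  · rw [← pow_add]
    have h1 : a + b ≡ 1 [MOD pk * n'] := by
      apply (Nat.modEq_and_modEq_iff_modEq_mul co).mp
      exact ⟨by simpa using ha1.add hb1, by simpa using ha2.add hb2⟩
    rw [hmul, hn] at h1
    have h2 : a + b ≡ 1 [MOD orderOf g] := h1.of_dvd (orderOf_dvd_natCard g)
    have := (pow_eq_pow_iff_modEq (x := g) (n := a + b) (m := 1)).mpr h2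
    rw [this, pow_one]
  · have hdvd : orderOf (g ^ a) ∣ pk := by
      apply orderOf_dvd_of_pow_eq_one
      rw [← pow_mul]
      apply orderOf_dvd_iff_pow_eq_one.mp
      apply (orderOf_dvd_natCard g).trans
      rw [← hn, ← hmul, mul_comm a pk]
      exact Nat.mul_dvd_mul_left pk (Nat.modEq_zero_iff_dvd.mp ha2)
    rw [hpk] at hdvd
    obtain ⟨j, _, hj⟩ := (Nat.dvd_prime_pow hp).mp hdvd
    exact ⟨j, hj⟩
  · have hdvd : orderOf (g ^ b) ∣ n' := by
      apply orderOf_dvd_of_pow_eq_one
      rw [← pow_mul]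
      apply orderOf_dvd_iff_pow_eq_one.mp
      apply (orderOf_dvd_natCard g).trans
      rw [← hn, ← hmul]
      exact Nat.mul_dvd_mul_right (Nat.modEq_zero_iff_dvd.mp hb1) n'
    rw [Nat.coprime_comm, Nat.Prime.coprime_iff_not_dvd hp]
    intro hd
    rw [hn', hpk] at hdvd
    exact Nat.not_dvd_ordCompl hp hn0 (hd.trans hdvd)

/-- the counting contradiction -/
theorem count_false {G : Type*} [Group G] [Finite G] {p q : ℕ} (hp : p.Prime) (hq : q.Prime)
    (hq3 : 3 ≤ q) (P : Subgroup G) (hPp : IsPGroup p P) (w : G)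
    (hwN : ∀ v ∈ P, w * v * w⁻¹ ∈ P)
    (hwq : ∀ v ∈ P, v * w ^ q = w ^ q * v)
    (hconj : ∀ u : G, u ≠ 1 → (∃ k : ℕ, orderOf u = p ^ k) → ∃ c : G, c * u * c⁻¹ ∈ P)
    (hB : ∀ y : G, y ≠ 1 → (orderOf y).Coprime p →
      ∃ u : G, u ≠ 1 ∧ (∃ k : ℕ, orderOf u = p ^ k) ∧ y * u = u * y)
    (hcen : ∀ u : G, u ≠ 1 → (∃ k : ℕ, orderOf u = p ^ k) →
      Nat.card P * Nat.card {y : G // (orderOf y).Coprime p ∧ y * u = u * y} ≤
        Nat.card (centralizer ({u} : Set G)))
    (hfix : 4 * Nat.card ↥(P ⊓ centralizer ({w} : Set G)) ≤ Nat.card P) : False := by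
  classical
  have : Fintype G := Fintype.ofFinite G
  obtain ⟨a, b, hab⟩ := exists_uniform_parts G hp
  obtain ⟨X, hX⟩ : ∃ X : Finset G, X = Finset.univ.filter
      (fun u : G => u ≠ 1 ∧ ∃ k : ℕ, orderOf u = p ^ k) := ⟨_, rfl⟩
  obtain ⟨NF, hNF⟩ : ∃ NF : G → Finset G, NF = fun u => Finset.univ.filter
      (fun y : G => (orderOf y).Coprime p ∧ y * u = u * y) := ⟨_, rfl⟩
  have hmemX : ∀ u, u ∈ X ↔ u ≠ 1 ∧ ∃ k : ℕ, orderOf u = p ^ k := by
    intro u; rw [hX]; simp
  have hmemNF : ∀ u y, y ∈ NF u ↔ (orderOf y).Coprime p ∧ y * u = u * y := by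
    intro u y; rw [hNF]; simp
  -- Step 1
  have h1 : Nat.card G ≤ (NF 1).card + ∑ u ∈ X, (NF u).card := by
    have e1 : Nat.card G =
        ∑ u ∈ insert 1 X, (Finset.univ.filter (fun g : G => g ^ a = u)).card := by
      rw [Nat.card_eq_fintype_card, ← Finset.card_univ]
      apply Finset.card_eq_sum_card_fiberwise
      intro g _
      show g ^ a ∈ insert 1 X
      by_cases hg : g ^ a = 1
      · rw [hg]; exact Finset.mem_insert_self _ _
      · exact Finset.mem_insert_of_mem ((hmemX _).mpr ⟨hg, (hab g).2.1⟩)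
    have e2 : ∀ u ∈ insert 1 X,
        (Finset.univ.filter (fun g : G => g ^ a = u)).card ≤ (NF u).card := by
      intro u _
      apply Finset.card_le_card_of_injOn (fun g => g ^ b)
      · intro g hg
        have hg' : g ^ a = u := by simpa using hg
        show g ^ b ∈ NF u
        rw [hmemNF]
        refine ⟨(hab g).2.2, ?_⟩
        rw [← hg']
        exact (Commute.pow_pow_self g b a).eq
      · intro g₁ hg₁ g₂ hg₂ h
        have h1' : g₁ ^ a = u := by simpa using hg₁
        have h2' : g₂ ^ a = u := by simpa using hg₂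
        have h' : g₁ ^ b = g₂ ^ b := h
        rw [← (hab g₁).1, ← (hab g₂).1, h1', h2', h']
    have h1X : (1 : G) ∉ X := by rw [hmemX]; simp
    rw [e1]
    calc ∑ u ∈ insert 1 X, (Finset.univ.filter (fun g : G => g ^ a = u)).card
        ≤ ∑ u ∈ insert 1 X, (NF u).card := Finset.sum_le_sum e2
      _ = (NF 1).card + ∑ u ∈ X, (NF u).card := Finset.sum_insert h1X
  -- Step 2
  have h2 : (NF 1).card + X.card ≤ 1 + ∑ u ∈ X, (NF u).card := by
    have hone : ∀ u, (1 : G) ∈ NF u := by intro u; rw [hmemNF]; simp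
    have e1 : ((NF 1).erase 1).card + 1 = (NF 1).card := Finset.card_erase_add_one (hone 1)
    have e2 : (NF 1).erase 1 ⊆ X.biUnion (fun u => (NF u).erase 1) := by
      intro y hy
      rw [Finset.mem_erase, hmemNF] at hy
      obtain ⟨u, hu1, hu2, hu3⟩ := hB y hy.1 hy.2.1
      rw [Finset.mem_biUnion]
      exact ⟨u, (hmemX u).mpr ⟨hu1, hu2⟩,
        Finset.mem_erase.mpr ⟨hy.1, (hmemNF u y).mpr ⟨hy.2.1, hu3⟩⟩⟩
    have e3 : ((NF 1).erase 1).card ≤ ∑ u ∈ X, ((NF u).erase 1).card :=
      (Finset.card_le_card e2).trans Finset.card_biUnion_le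
    have e4 : ∑ u ∈ X, ((NF u).erase 1).card + X.card = ∑ u ∈ X, (NF u).card := by
      rw [Finset.card_eq_sum_ones, ← Finset.sum_add_distrib]
      apply Finset.sum_congr rfl
      intro u _
      exact Finset.card_erase_add_one (hone u)
    omega
  -- Step 3
  have hPE : ∀ v ∈ P, ∃ k : ℕ, orderOf v = p ^ k := by
    intro v hv
    obtain ⟨k, hk⟩ := hPp ⟨v, hv⟩
    have h : v ^ p ^ k = 1 := by
      have := congrArg Subtype.val hk
      simpa using this
    obtain ⟨j, _, hj⟩ := (Nat.dvd_prime_pow hp).mp (orderOf_dvd_of_pow_eq_one h)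
    exact ⟨j, hj⟩
  have h3 : 1 ≤ X.card := by
    have hc : 1 < Nat.card P := by
      have : 0 < Nat.card ↥(P ⊓ centralizer ({w} : Set G)) := Nat.card_pos
      omega
    have : Nontrivial P := Finite.one_lt_card_iff_nontrivial.mp hc
    obtain ⟨v, hv⟩ := exists_ne (1 : P)
    apply Finset.card_pos.mpr
    refine ⟨(v : G), (hmemX _).mpr ⟨?_, hPE _ v.2⟩⟩
    intro h
    exact hv (Subtype.ext h)
  -- Step 4
  obtain ⟨cc, hcc⟩ : ∃ cc : G → ℕ, cc = fun u => Nat.card (centralizer ({u} : Set G)) :=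
    ⟨_, rfl⟩
  have h4 : Nat.card P * Nat.card G ≤ 2 * ∑ u ∈ X, cc u := by
    have e1 : Nat.card G ≤ 2 * ∑ u ∈ X, (NF u).card := by omega
    have e2 : ∑ u ∈ X, Nat.card P * (NF u).card ≤ ∑ u ∈ X, cc u := by
      apply Finset.sum_le_sum
      intro u hu
      obtain ⟨hu1, hu2⟩ := (hmemX u).mp hu
      have := hcen u hu1 hu2
      rw [card_eq_filter (fun y : G => (orderOf y).Coprime p ∧ y * u = u * y)] at this
      rw [hcc, hNF]; exact this
    calc Nat.card P * Nat.card G ≤ Nat.card P * (2 * ∑ u ∈ X, (NF u).card) :=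
          Nat.mul_le_mul_left _ e1
      _ = 2 * ∑ u ∈ X, Nat.card P * (NF u).card := by
          rw [Nat.mul_left_comm, Finset.mul_sum]
      _ ≤ 2 * ∑ u ∈ X, cc u := Nat.mul_le_mul_left _ e2
  -- Step 5
  obtain ⟨PF, hPF⟩ : ∃ PF : Finset G, PF = Finset.univ.filter (fun v : G => v ∈ P ∧ v ≠ 1) :=
    ⟨_, rfl⟩
  have hmemPF : ∀ v, v ∈ PF ↔ v ∈ P ∧ v ≠ 1 := by intro v; rw [hPF]; simp
  obtain ⟨ω, hω⟩ : ∃ ω : G → ℕ, ω = fun v => if v * w = w * v then q else 1 := ⟨_, rfl⟩
  have hω1 : ∀ v, 1 ≤ ω v := by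
    intro v; rw [hω]; dsimp only; split_ifs <;> omega
  have hwpow : ∀ (i : ℕ) (v : G), v ∈ P → w ^ i * v * (w ^ i)⁻¹ ∈ P := by
    intro i
    induction i with
    | zero => intro v hv; simpa using hv
    | succ i ih =>
      intro v hv
      have e : w ^ (i + 1) * v * (w ^ (i + 1))⁻¹ = w * (w ^ i * v * (w ^ i)⁻¹) * w⁻¹ := by
        rw [pow_succ']; group
      rw [e]; exact hwN _ (ih v hv)
  have hA : ∀ u ∈ X, q ≤ ∑ v ∈ PF.filter (fun v => IsConj u v), ω v := by
    intro u hu
    obtain ⟨hu1, hu2⟩ := (hmemX u).mp hu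
    obtain ⟨c, hc⟩ := hconj u hu1 hu2
    have hv0 : c * u * c⁻¹ ≠ 1 := by
      intro h
      apply hu1
      have : u = c⁻¹ * (c * u * c⁻¹) * c := by group
      rw [this, h]; group
    by_cases hcomm : (c * u * c⁻¹) * w = w * (c * u * c⁻¹)
    · have hmem : c * u * c⁻¹ ∈ PF.filter (fun v => IsConj u v) := by
        rw [Finset.mem_filter, hmemPF]
        exact ⟨⟨hc, hv0⟩, isConj_iff.mpr ⟨c, rfl⟩⟩
      have : ω (c * u * c⁻¹) = q := by rw [hω]; simp [hcomm]
      rw [← this]
      exact Finset.single_le_sum (fun _ _ => Nat.zero_le _) hmem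
    · have hinj : (Finset.range q).card ≤ (PF.filter (fun v => IsConj u v)).card := by
        apply Finset.card_le_card_of_injOn (fun i => w ^ i * (c * u * c⁻¹) * (w ^ i)⁻¹)
        · intro i _
          show w ^ i * (c * u * c⁻¹) * (w ^ i)⁻¹ ∈ PF.filter (fun v => IsConj u v)
          rw [Finset.mem_filter, hmemPF]
          refine ⟨⟨hwpow i _ hc, ?_⟩, isConj_iff.mpr ⟨w ^ i * c, by group⟩⟩
          intro h
          apply hv0
          have : c * u * c⁻¹ =
              (w ^ i)⁻¹ * (w ^ i * (c * u * c⁻¹) * (w ^ i)⁻¹) * w ^ i := by group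
          rw [this, h]; group
        · have key : ∀ i j : ℕ, i ≤ j → j < q →
              w ^ i * (c * u * c⁻¹) * (w ^ i)⁻¹ = w ^ j * (c * u * c⁻¹) * (w ^ j)⁻¹ →
              i = j := by
            intro i j hij hjq h
            by_contra hne
            obtain ⟨d, rfl⟩ := Nat.exists_eq_add_of_le hij
            have hd0 : 0 < d := by omega
            have hcd : w ^ d ∈ cen (c * u * c⁻¹) := by
              rw [mem_cen]
              rw [pow_add] at h
              have : c * u * c⁻¹ = w ^ d * (c * u * c⁻¹) * (w ^ d)⁻¹ := by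
                calc c * u * c⁻¹
                    = (w ^ i)⁻¹ * (w ^ i * (c * u * c⁻¹) * (w ^ i)⁻¹) * w ^ i := by group
                  _ = (w ^ i)⁻¹ * (w ^ i * w ^ d * (c * u * c⁻¹) * (w ^ i * w ^ d)⁻¹) *
                        w ^ i := by rw [h]
                  _ = w ^ d * (c * u * c⁻¹) * (w ^ d)⁻¹ := by group
              calc w ^ d * (c * u * c⁻¹)
                  = (w ^ d * (c * u * c⁻¹) * (w ^ d)⁻¹) * w ^ d := by group
                _ = (c * u * c⁻¹) * w ^ d := by rw [← this]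
            have hcq : w ^ q ∈ cen (c * u * c⁻¹) := by
              rw [mem_cen]; exact (hwq _ hc).symm
            have hco : d.Coprime q := by
              rw [Nat.coprime_comm, Nat.Prime.coprime_iff_not_dvd hq]
              exact Nat.not_dvd_of_pos_of_lt hd0 (by omega)
            have := mem_of_pow_mem_coprime _ w d q hcd hcq hco
            rw [mem_cen] at this
            exact hcomm this.symm
          intro i hi j hj h
          have hi' : i < q := Finset.mem_range.mp hi
          have hj' : j < q := Finset.mem_range.mp hj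
          rcases le_total i j with hij | hij
          · exact key i j hij hj' h
          · exact (key j i hij hi' h.symm).symm
      rw [Finset.card_range] at hinj
      calc q ≤ (PF.filter (fun v => IsConj u v)).card := hinj
        _ = ∑ v ∈ PF.filter (fun v => IsConj u v), 1 := Finset.card_eq_sum_ones _
        _ ≤ ∑ v ∈ PF.filter (fun v => IsConj u v), ω v :=
            Finset.sum_le_sum (fun v _ => hω1 v)
  have hB' : ∀ v ∈ PF, ∑ u ∈ X.filter (fun u => IsConj u v), cc u = Nat.card G := by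
    intro v hv
    obtain ⟨hvP, hv1⟩ := (hmemPF v).mp hv
    have e1 : X.filter (fun u => IsConj u v) = Finset.univ.filter (fun u => IsConj v u) := by
      ext u
      simp only [Finset.mem_filter, Finset.mem_univ, true_and, hmemX]
      constructor
      · rintro ⟨_, h⟩; exact h.symm
      · intro h
        refine ⟨?_, h.symm⟩
        obtain ⟨c, rfl⟩ := isConj_iff.mp h
        refine ⟨?_, ?_⟩
        · intro h'
          apply hv1
          have : v = c⁻¹ * (c * v * c⁻¹) * c := by group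
          rw [this, h']; group
        · obtain ⟨k, hk⟩ := hPE v hvP
          exact ⟨k, by rw [orderOf_conj', hk]⟩
    have e2 : ∀ u ∈ Finset.univ.filter (fun u => IsConj v u), cc u = cc v := by
      intro u hu
      have hconj' : IsConj v u := (Finset.mem_filter.mp hu).2
      have i1 : (cen u).index = (cen v).index := index_of_isConj hconj'
      have i2 : Nat.card (cen u) * (cen u).index = Nat.card G := Subgroup.card_mul_index _
      have i3 : Nat.card (cen v) * (cen v).index = Nat.card G := Subgroup.card_mul_index _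
      rw [hcc]
      show Nat.card (cen u) = Nat.card (cen v)
      rw [i1, ← i3] at i2
      exact Nat.eq_of_mul_eq_mul_right (Nat.pos_of_ne_zero Subgroup.index_ne_zero_of_finite) i2
    rw [e1, Finset.sum_congr rfl e2, Finset.sum_const, smul_eq_mul, ← card_eq_filter, card_conj,
      hcc, mul_comm]
    exact Subgroup.card_mul_index _
  have h5 : q * ∑ u ∈ X, cc u ≤ Nat.card G * ∑ v ∈ PF, ω v := by
    calc q * ∑ u ∈ X, cc u = ∑ u ∈ X, cc u * q := by
          rw [Finset.mul_sum]; exact Finset.sum_congr rfl (fun _ _ => mul_comm _ _)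
      _ ≤ ∑ u ∈ X, cc u * ∑ v ∈ PF.filter (fun v => IsConj u v), ω v :=
          Finset.sum_le_sum (fun u hu => Nat.mul_le_mul_left _ (hA u hu))
      _ = ∑ u ∈ X, ∑ v ∈ PF, (if IsConj u v then cc u * ω v else 0) := by
          apply Finset.sum_congr rfl
          intro u _
          rw [Finset.mul_sum, Finset.sum_filter]
      _ = ∑ v ∈ PF, ∑ u ∈ X, (if IsConj u v then cc u * ω v else 0) := Finset.sum_comm
      _ = ∑ v ∈ PF, Nat.card G * ω v := by
          apply Finset.sum_congr rfl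
          intro v hv
          rw [← Finset.sum_filter, ← Finset.sum_mul, hB' v hv]
      _ = Nat.card G * ∑ v ∈ PF, ω v := by rw [Finset.mul_sum]
  -- Step 6
  obtain ⟨f, hf⟩ : ∃ f : ℕ, f = (PF.filter (fun v => v * w = w * v)).card := ⟨_, rfl⟩
  obtain ⟨f', hf'⟩ : ∃ f' : ℕ, f' = (PF.filter (fun v => ¬ v * w = w * v)).card := ⟨_, rfl⟩
  have h6 : ∑ v ∈ PF, ω v = q * f + f' := by
    rw [hω, Finset.sum_ite, Finset.sum_const, Finset.sum_const, smul_eq_mul, smul_eq_mul,
      mul_one, hf, hf', mul_comm]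
  have h7 : PF.card = f + f' := by
    rw [hf, hf']; exact (Finset.card_filter_add_card_filter_not _).symm
  have h8 : Nat.card P = PF.card + 1 := by
    have : Finset.univ.filter (fun v : G => v ∈ P) = insert 1 PF := by
      ext v
      simp only [Finset.mem_filter, Finset.mem_univ, true_and, Finset.mem_insert, hmemPF]
      constructor
      · intro h
        by_cases h1 : v = 1
        · exact Or.inl h1
        · exact Or.inr ⟨h, h1⟩
      · rintro (rfl | h)
        · exact P.one_mem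
        · exact h.1
    have e := card_eq_filter (fun v : G => v ∈ P)
    rw [this, Finset.card_insert_of_notMem (by rw [hmemPF]; simp)] at e
    exact e
  have h9 : Nat.card ↥(P ⊓ centralizer ({w} : Set G)) = f + 1 := by
    have : Finset.univ.filter (fun v : G => v ∈ P ⊓ centralizer ({w} : Set G)) =
        insert 1 (PF.filter (fun v => v * w = w * v)) := by
      ext v
      simp only [Finset.mem_filter, Finset.mem_univ, true_and, Finset.mem_insert, hmemPF,
        Subgroup.mem_inf, Subgroup.mem_centralizer_singleton_iff]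
      constructor
      · intro h
        by_cases h1 : v = 1
        · exact Or.inl h1
        · exact Or.inr ⟨⟨h.1, h1⟩, h.2⟩
      · rintro (rfl | h)
        · exact ⟨P.one_mem, by simp⟩
        · exact ⟨h.1.1, h.2⟩
    have e := card_eq_filter (fun v : G => v ∈ P ⊓ centralizer ({w} : Set G))
    rw [this, Finset.card_insert_of_notMem (by simp [hmemPF])] at e
    rw [hf]; exact e
  have hGpos : 0 < Nat.card G := Nat.card_pos
  have h10 : q * (Nat.card P * Nat.card G) ≤ 2 * (Nat.card G * (q * f + f')) := by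
    calc q * (Nat.card P * Nat.card G) ≤ q * (2 * ∑ u ∈ X, cc u) := Nat.mul_le_mul_left _ h4
      _ = 2 * (q * ∑ u ∈ X, cc u) := by ring
      _ ≤ 2 * (Nat.card G * ∑ v ∈ PF, ω v) := Nat.mul_le_mul_left _ h5
      _ = 2 * (Nat.card G * (q * f + f')) := by rw [h6]
  have h11 : q * (f + f' + 1) ≤ 2 * (q * f + f') := by
    rw [h8, h7] at h10
    have : Nat.card G * (q * (f + f' + 1)) ≤ Nat.card G * (2 * (q * f + f')) := by
      calc Nat.card G * (q * (f + f' + 1)) = q * ((f + f' + 1) * Nat.card G) := by ring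
        _ ≤ 2 * (Nat.card G * (q * f + f')) := h10
        _ = Nat.card G * (2 * (q * f + f')) := by ring
    exact Nat.le_of_mul_le_mul_left this hGpos
  have h12 : 4 * (f + 1) ≤ f + f' + 1 := by
    rw [h9, h8, h7] at hfix; exact hfix
  have hq3' : (3 : ℤ) ≤ q := by exact_mod_cast hq3
  have h11' : (q : ℤ) * (f + f' + 1) ≤ 2 * (q * f + f') := by exact_mod_cast h11
  have h12' : (4 : ℤ) * (f + 1) ≤ f + f' + 1 := by exact_mod_cast h12
  nlinarith [mul_nonneg (sub_nonneg.mpr hq3') (Int.natCast_nonneg f),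
    mul_nonneg (sub_nonneg.mpr hq3') (sub_nonneg.mpr h12')]

end Cfsg.Agent.H13.Sqf
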