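import Mathlib
import Cfsg.Agent.H13.SqfA
import Cfsg.Agent.H13.SqfC

set_option autoImplicit false

universe u

namespace Cfsg.Agent.H13.Sqf

open Subgroup Cfsg.Agent.H72.Ito Cfsg.Agent.H72.BHM

section
variable {G : Type*} [Group G]

/-- Step 4: with abelian Sylow `p`-subgroups the hypothesis passes to centralizers of
`p`-elements. -/
theorem Hyp.cen [Finite G] {p : ℕ} [Fact p.Prime] (h : Hyp p G)
    (hab : ∀ Q : Sylow p G, ∀ a ∈ (Q : Subgroup G), ∀ b ∈ (Q : Subgroup G), a * b = b * a)
    (u : G) (hu : ∃ k : ℕ, orderOf u = p ^ k) : Hyp p ↥(centralizer ({u} : Set G)) := by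
  have hp : p.Prime := Fact.out
  intro y hy hdvd
  have hy' : (orderOf (y : G)).Coprime p := by rw [Subgroup.orderOf_coe]; exact hy
  have huy : u * (y : G) = (y : G) * u := (Subgroup.mem_centralizer_singleton_iff.mp y.2).symm
  obtain ⟨Q, S, hSQ, huS, hSC, hcard⟩ := key0 (h (y : G) hy') hu huy
  have hQC : (Q : Subgroup G) ≤ centralizer ({u} : Set G) := by
    intro a ha
    rw [Subgroup.mem_centralizer_singleton_iff]
    exact hab Q a ha u (hSQ huS)
  have hST : S ≤ (centralizer ({y} : Set (centralizer ({u} : Set G)))).map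
      (centralizer ({u} : Set G)).subtype := by
    intro s hs
    refine ⟨⟨s, hQC (hSQ hs)⟩, ?_, rfl⟩
    rw [SetLike.mem_coe, Subgroup.mem_centralizer_singleton_iff]
    apply Subtype.ext
    exact Subgroup.mem_centralizer_singleton_iff.mp (hSC hs)
  have h1 : Nat.card S ∣ Nat.card (centralizer ({y} : Set (centralizer ({u} : Set G)))) := by
    have := Subgroup.card_dvd_of_le hST
    rwa [Subgroup.card_map_of_injective (Subgroup.subtype_injective _)] at this
  have h2 : Nat.card (centralizer ({y} : Set (centralizer ({u} : Set G)))) *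
      (centralizer ({y} : Set (centralizer ({u} : Set G)))).index =
      Nat.card (centralizer ({u} : Set G)) := Subgroup.card_mul_index _
  have h3 : Nat.card S * p ^ 2 ∣ Nat.card G := by
    have : Nat.card S * p ^ 2 ∣ Nat.card (centralizer ({u} : Set G)) := by
      rw [← h2]; exact Nat.mul_dvd_mul h1 hdvd
    exact this.trans (Subgroup.card_subgroup_dvd_card _)
  have h4 : Nat.card Q * p ∣ Nat.card G := by
    have : Nat.card Q * p ∣ Nat.card S * p ^ 2 := by
      have := Nat.mul_dvd_mul_right hcard p
      have e : p * Nat.card S * p = Nat.card S * p ^ 2 := by ring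
      rwa [e] at this
    exact this.trans h3
  rw [Sylow.card_eq_multiplicity, ← pow_succ] at h4
  exact Nat.pow_succ_factorization_not_dvd Nat.card_pos.ne' hp h4

theorem card_cen_ge [Finite G] {p : ℕ} [Fact p.Prime] (P : Sylow p G) (u : G)
    (hQ : ∃ Q : Sylow p G, (Q : Subgroup G) ≤ centralizer ({u} : Set G))
    (hn : NPC p ↥(centralizer ({u} : Set G))) :
    Nat.card P * Nat.card {y : G // (orderOf y).Coprime p ∧ y * u = u * y} ≤
      Nat.card (centralizer ({u} : Set G)) := by
  have hp : p.Prime := Fact.out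
  obtain ⟨H, hHn, hHco, k, hk⟩ := hn
  obtain ⟨Q, hQ⟩ := hQ
  have h1 : Nat.card H * p ^ k = Nat.card (centralizer ({u} : Set G)) := by
    rw [← hk]; exact Subgroup.card_mul_index H
  have h2 : Nat.card {y : G // (orderOf y).Coprime p ∧ y * u = u * y} = Nat.card H := by
    apply Nat.card_congr
    exact
      { toFun := fun y => ⟨⟨y.1, Subgroup.mem_centralizer_singleton_iff.mpr y.2.2⟩,
          mem_of_coprime_of_index hk (by rw [Subgroup.orderOf_mk]; exact y.2.1)⟩
        invFun := fun h => ⟨((h : centralizer ({u} : Set G)) : G),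
          by
            rw [Subgroup.orderOf_coe]
            exact orderOf_coprime_of_mem hHco h.2,
          Subgroup.mem_centralizer_singleton_iff.mp (h : centralizer ({u} : Set G)).2⟩
        left_inv := fun y => rfl
        right_inv := fun h => rfl }
  have h3 : Nat.card P ≤ p ^ k := by
    have e : Nat.card P = Nat.card Q := by
      rw [Sylow.card_eq_multiplicity, Sylow.card_eq_multiplicity]
    have h4 : Nat.card Q ∣ Nat.card H * p ^ k := by
      rw [h1]; exact Subgroup.card_dvd_of_le hQ
    have h5 : (Nat.card Q).Coprime (Nat.card H) := by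
      rw [Sylow.card_eq_multiplicity]
      exact Nat.Coprime.pow_left _ hHco.symm
    rw [e]
    exact Nat.le_of_dvd (pow_pos hp.pos k) (h5.dvd_of_dvd_mul_left h4)
  rw [h2, ← h1, mul_comm]
  exact Nat.mul_le_mul_left _ h3

/-- a `p`-element-like normalizing element: if `w^p` centralizes the abelian Sylow subgroup `P`
and `w` normalizes it, then `w` centralizes it. -/
theorem mem_centralizer_of_pow_p [Finite G] {p : ℕ} [Fact p.Prime] (P : Sylow p G)
    (habP : ∀ a ∈ (P : Subgroup G), ∀ b ∈ (P : Subgroup G), a * b = b * a) (w : G)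
    (hwN : w ∈ normalizer ((P : Subgroup G) : Set G))
    (hwp : w ^ p ∈ centralizer ((P : Subgroup G) : Set G)) :
    w ∈ centralizer ((P : Subgroup G) : Set G) := by
  have hp : p.Prime := Fact.out
  obtain ⟨a, b, hab, ⟨j, hj⟩, hb⟩ := Cfsg.Agent.H72.exists_pparts p hp w
  have h1 : w ^ b ∈ centralizer ((P : Subgroup G) : Set G) := by
    apply mem_of_pow_mem_coprime _ (w ^ b) p (orderOf (w ^ b))
    · rw [← pow_mul, mul_comm, pow_mul]; exact Subgroup.pow_mem _ hwp _
    · rw [pow_orderOf_eq_one]; exact Subgroup.one_mem _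
    · exact hb.symm
  have h2 : w ^ a ∈ (P : Subgroup G) := by
    have hz : IsPGroup p (zpowers (w ^ a)) :=
      IsPGroup.of_card (n := j) (by rw [Nat.card_zpowers, hj])
    have hle : zpowers (w ^ a) ≤ normalizer ((P : Subgroup G) : Set G) := by
      rw [Subgroup.zpowers_le]; exact Subgroup.pow_mem _ hwN _
    have hsup := IsPGroup.to_sup_of_normal_right' hz P.isPGroup' hle
    have := P.is_maximal' hsup le_sup_right
    rw [← this]
    exact Subgroup.mem_sup_left (Subgroup.mem_zpowers _)
  have h3 : w ^ a ∈ centralizer ((P : Subgroup G) : Set G) := by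
    rw [Subgroup.mem_centralizer_iff]
    intro v hv
    exact habP v hv _ h2
  rw [← hab]
  exact Subgroup.mul_mem _ h3 h1

theorem exists_w_aux (N C : Subgroup G) [Finite G] : ∀ (n : ℕ) (w : G), orderOf w = n → w ∈ N →
    w ∉ C → ∃ (w' : G) (q : ℕ), q.Prime ∧ q ∣ Nat.card G ∧ w' ∈ N ∧ w' ∉ C ∧ w' ^ q ∈ C := by
  intro n
  induction n using Nat.strong_induction_on with
  | _ n ih =>
  intro w hn hwN hwC
  have hw1 : orderOf w ≠ 1 := by
    intro h
    rw [orderOf_eq_one_iff] at h
    rw [h] at hwC
    exact hwC (Subgroup.one_mem _)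
  have hq : (orderOf w).minFac.Prime := Nat.minFac_prime hw1
  have hqd : (orderOf w).minFac ∣ orderOf w := Nat.minFac_dvd _
  by_cases hc : w ^ (orderOf w).minFac ∈ C
  · exact ⟨w, _, hq, hqd.trans (orderOf_dvd_natCard w), hwN, hwC, hc⟩
  · have hlt : orderOf (w ^ (orderOf w).minFac) < n := by
      rw [orderOf_pow_of_dvd hq.ne_zero hqd, ← hn]
      exact Nat.div_lt_self (orderOf_pos w) hq.one_lt
    exact ih _ hlt _ rfl (Subgroup.pow_mem _ hwN _) hc

theorem card_modEq_fix [Finite G] {q : ℕ} [Fact q.Prime] (P : Subgroup G) (w : G)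
    (hwN : ∀ v ∈ P, w * v * w⁻¹ ∈ P) (hwq : ∀ v ∈ P, v * w ^ q = w ^ q * v) :
    Nat.card P ≡ Nat.card ↥(P ⊓ centralizer ({w} : Set G)) [MOD q] := by
  classical
  have : Fintype P := Fintype.ofFinite P
  obtain ⟨f, hf⟩ : ∃ f : Function.End P, f = fun v => ⟨w * v * w⁻¹, hwN v v.2⟩ := ⟨_, rfl⟩
  have hf1 : ∀ v : P, ((f v : P) : G) = w * v * w⁻¹ := by intro v; rw [hf]
  have hpow : ∀ (n : ℕ) (v : P), (((f ^ n) v : P) : G) = w ^ n * v * (w ^ n)⁻¹ := by
    intro n
    induction n with
    | zero => intro v; rw [pow_zero]; show (v : G) = _; simp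
    | succ n ih =>
      intro v
      rw [pow_succ']
      show ((f ((f ^ n) v) : P) : G) = _
      rw [hf1, ih, pow_succ']; group
  have hfq : f ^ q ^ 1 = 1 := by
    rw [pow_one]
    funext v
    apply Subtype.ext
    rw [hpow]
    show _ = (v : G)
    have := hwq v v.2
    calc w ^ q * (v : G) * (w ^ q)⁻¹ = ((v : G) * w ^ q) * (w ^ q)⁻¹ := by rw [this]
      _ = (v : G) := by group
  have hmod := Equiv.Perm.card_fixedPoints_modEq (p := q) (n := 1) hfq
  have hmod' : Nat.card P ≡ Nat.card (Function.fixedPoints (f : P → P)) [MOD q] := by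
    rw [Nat.card_eq_fintype_card, Nat.card_eq_fintype_card]
    convert hmod
  have e2 : Nat.card (Function.fixedPoints (f : P → P)) =
      Nat.card ↥(P ⊓ centralizer ({w} : Set G)) := by
    apply Nat.card_congr
    exact
      { toFun := fun x => ⟨((x.1 : P) : G), Subgroup.mem_inf.mpr ⟨x.1.2, by
          rw [Subgroup.mem_centralizer_singleton_iff]
          have h1 : f x.1 = x.1 := x.2
          have h2 := congrArg Subtype.val h1
          rw [hf1] at h2
          calc ((x.1 : P) : G) * w = (w * ((x.1 : P) : G) * w⁻¹) * w := by rw [h2]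
            _ = w * ((x.1 : P) : G) := by group⟩⟩
        invFun := fun y => ⟨⟨y.1, (Subgroup.mem_inf.mp y.2).1⟩, by
          show f _ = _
          apply Subtype.ext
          rw [hf1]
          have h1 := Subgroup.mem_centralizer_singleton_iff.mp (Subgroup.mem_inf.mp y.2).2
          show w * (y : G) * w⁻¹ = (y : G)
          rw [← h1]; group⟩
        left_inv := fun x => rfl
        right_inv := fun y => rfl }
  rw [e2] at hmod'
  exact hmod'

/-- Steps 5 and 6: the abelian Sylow case with no central `p`-element. -/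
theorem final_case [Finite G] {p : ℕ} [Fact p.Prime]
    (hmin : ∀ r : ℕ, r.Prime → r ∣ Nat.card G → p ≤ r) (h : Hyp p G) (P : Sylow p G)
    (hab : ∀ Q : Sylow p G, ∀ a ∈ (Q : Subgroup G), ∀ b ∈ (Q : Subgroup G), a * b = b * a)
    (hC : ∀ u : G, u ≠ 1 → (∃ k : ℕ, orderOf u = p ^ k) →
      NPC p ↥(centralizer ({u} : Set G))) : NPC p G := by
  have hp : p.Prime := Fact.out
  by_cases hNC : normalizer ((P : Subgroup G) : Set G) ≤ centralizer ((P : Subgroup G) : Set G)
  · have hcompl := MonoidHom.ker_transferSylow_isComplement' P hNC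
    have hndvd := MonoidHom.not_dvd_card_ker_transferSylow P hNC
    obtain ⟨n, hn⟩ := IsPGroup.iff_card.mp P.isPGroup'
    exact ⟨(MonoidHom.transferSylow P hNC).ker, inferInstance,
      (Nat.Coprime.symm ((Nat.Prime.coprime_iff_not_dvd hp).mpr hndvd)),
      n, by rw [hcompl.symm.index_eq_card, hn]⟩
  · exfalso
    obtain ⟨w₀, hw₀N, hw₀C⟩ := SetLike.not_le_iff_exists.mp hNC
    obtain ⟨w, q, hq, hqd, hwN, hwC, hwq⟩ := exists_w_aux _ _ _ w₀ rfl hw₀N hw₀C
    have hqp : q ≠ p := by
      rintro rfl
      exact hwC (mem_centralizer_of_pow_p P (hab P) w hwN hwq)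
    have hpq : p < q := lt_of_le_of_ne (hmin q hq hqd) (Ne.symm hqp)
    have hq3 : 3 ≤ q := by have := hp.two_le; omega
    haveI : Fact q.Prime := ⟨hq⟩
    have hwN' : ∀ v ∈ (P : Subgroup G), w * v * w⁻¹ ∈ (P : Subgroup G) := by
      intro v hv
      exact (Subgroup.mem_normalizer_iff.mp hwN v).mp hv
    have hwq' : ∀ v ∈ (P : Subgroup G), v * w ^ q = w ^ q * v := by
      intro v hv
      exact (Subgroup.mem_centralizer_iff.mp hwq) v hv
    -- the fixed point count
    obtain ⟨n, hn⟩ := IsPGroup.iff_card.mp P.isPGroup'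
    have hmod := card_modEq_fix (P : Subgroup G) w hwN' hwq'
    have hdvd : Nat.card ↥((P : Subgroup G) ⊓ centralizer ({w} : Set G)) ∣ p ^ n := by
      rw [← hn]; exact Subgroup.card_dvd_of_le inf_le_left
    obtain ⟨i, hin, hi⟩ := (Nat.dvd_prime_pow hp).mp hdvd
    have hne : i ≠ n := by
      rintro rfl
      apply hwC
      have heq : (P : Subgroup G) ⊓ centralizer ({w} : Set G) = (P : Subgroup G) := by
        apply Subgroup.eq_of_le_of_card_ge inf_le_left
        rw [hi, hn]
      rw [Subgroup.mem_centralizer_iff]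
      intro v hv
      have : v ∈ (P : Subgroup G) ⊓ centralizer ({w} : Set G) := by rw [heq]; exact hv
      exact Subgroup.mem_centralizer_singleton_iff.mp (Subgroup.mem_inf.mp this).2
    have hn2 : i + 2 ≤ n := by
      by_contra hcon
      have hn1 : n = i + 1 := by omega
      rw [hn, hi, hn1] at hmod
      have h1 : q ∣ p ^ (i + 1) - p ^ i :=
        (Nat.modEq_iff_dvd' (Nat.pow_le_pow_right hp.pos (Nat.le_succ i))).mp hmod.symm
      have e : p ^ (i + 1) - p ^ i = p ^ i * (p - 1) := by
        rw [pow_succ, Nat.mul_sub, mul_one]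
      rw [e] at h1
      rcases (Nat.Prime.dvd_mul hq).mp h1 with h2 | h2
      · exact hqp ((Nat.prime_dvd_prime_iff_eq hq hp).mp (hq.dvd_of_dvd_pow h2))
      · have := Nat.le_of_dvd (by have := hp.two_le; omega) h2
        omega
    have hfix : 4 * Nat.card ↥((P : Subgroup G) ⊓ centralizer ({w} : Set G)) ≤
        Nat.card (P : Subgroup G) := by
      rw [hn, hi]
      calc 4 * p ^ i ≤ p ^ 2 * p ^ i := by
            apply Nat.mul_le_mul_right
            have := hp.two_le
            nlinarith
        _ = p ^ (i + 2) := by ring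
        _ ≤ p ^ n := Nat.pow_le_pow_right hp.pos hn2
    have hcardP : p ^ 2 ≤ Nat.card (P : Subgroup G) := by
      rw [hn]
      exact Nat.pow_le_pow_right hp.pos (by omega)
    -- the hypotheses of the counting lemma
    have hsyl : ∀ u : G, (∃ k : ℕ, orderOf u = p ^ k) → ∃ Q : Sylow p G, u ∈ Q := by
      rintro u ⟨k, hk⟩
      have hz : IsPGroup p (zpowers u) := IsPGroup.of_card (n := k) (by rw [Nat.card_zpowers, hk])
      obtain ⟨Q, hQ⟩ := hz.exists_le_sylow
      exact ⟨Q, hQ (Subgroup.mem_zpowers u)⟩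
    have hconj : ∀ u : G, u ≠ 1 → (∃ k : ℕ, orderOf u = p ^ k) →
        ∃ c : G, c * u * c⁻¹ ∈ (P : Subgroup G) := by
      intro u _ hu
      obtain ⟨Q, hQ⟩ := hsyl u hu
      obtain ⟨g, hg⟩ := MulAction.exists_smul_eq G P Q
      have : u ∈ (g • P : Sylow p G) := by rw [hg]; exact hQ
      refine ⟨g⁻¹, ?_⟩
      rw [inv_inv]
      exact Cfsg.Agent.H72.mem_sylow_smul.mp this
    have hB : ∀ y : G, y ≠ 1 → (orderOf y).Coprime p →
        ∃ u : G, u ≠ 1 ∧ (∃ k : ℕ, orderOf u = p ^ k) ∧ y * u = u * y := by
      intro y _ hy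
      obtain ⟨Q, S, hSQ, -, hSC, hcard⟩ := key0 (u := 1) (h y hy) ⟨0, by simp⟩ (by simp)
      have hcQ : Nat.card (Q : Subgroup G) = Nat.card (P : Subgroup G) := by
        rw [Sylow.card_eq_multiplicity, Sylow.card_eq_multiplicity]
      have hS1 : 1 < Nat.card S := by
        have h1 : p ^ 2 ≤ p * Nat.card S := by
          rw [hcQ] at hcard
          exact hcardP.trans (Nat.le_of_dvd (Nat.mul_pos hp.pos Nat.card_pos) hcard)
        have := hp.two_le
        nlinarith
      have : Nontrivial S := Finite.one_lt_card_iff_nontrivial.mp hS1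
      obtain ⟨s, hs⟩ := exists_ne (1 : S)
      refine ⟨(s : G), fun h' => hs (Subtype.ext h'), ?_, ?_⟩
      · obtain ⟨k, hk⟩ := Q.isPGroup' ⟨(s : G), hSQ s.2⟩
        have h' : (s : G) ^ p ^ k = 1 := by
          have := congrArg Subtype.val hk
          simpa using this
        obtain ⟨j, _, hj⟩ := (Nat.dvd_prime_pow hp).mp (orderOf_dvd_of_pow_eq_one h')
        exact ⟨j, hj⟩
      · exact (Subgroup.mem_centralizer_singleton_iff.mp (hSC s.2)).symm
    have hcen : ∀ u : G, u ≠ 1 → (∃ k : ℕ, orderOf u = p ^ k) →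
        Nat.card (P : Subgroup G) *
          Nat.card {y : G // (orderOf y).Coprime p ∧ y * u = u * y} ≤
          Nat.card (centralizer ({u} : Set G)) := by
      intro u hu1 hu2
      apply card_cen_ge P u _ (hC u hu1 hu2)
      obtain ⟨Q, hQ⟩ := hsyl u hu2
      refine ⟨Q, ?_⟩
      intro a ha
      rw [Subgroup.mem_centralizer_singleton_iff]
      exact hab Q a ha u hQ
    exact count_false hp hq hq3 (P : Subgroup G) P.isPGroup' w hwN' hwq' hconj hB hcen hfix

end

/-- the main induction: `p` the least prime divisor, `p²` divides no class size of a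
`p'`-element: then there is a normal `p`-complement. -/
theorem npc_of_hyp (p : ℕ) [Fact p.Prime] : ∀ (n : ℕ) (G : Type u) [Group G] [Finite G],
    Nat.card G = n → (∀ r : ℕ, r.Prime → r ∣ Nat.card G → p ≤ r) → Hyp p G → NPC p G := by
  intro n
  induction n using Nat.strong_induction_on with
  | _ n ih =>
  intro G _ _ hn hmin h
  have hp : p.Prime := Fact.out
  obtain ⟨P⟩ : Nonempty (Sylow p G) := inferInstance
  have hred : ∀ Z : Subgroup G, Z.Normal → Z ≠ ⊥ → IsPGroup p Z →
      (∀ a ∈ Z, ∀ b ∈ Z, a * b = b * a) →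
      (∀ y : G, (orderOf y).Coprime p → ∀ z ∈ Z, y * z = z * y) → NPC p G := by
    intro Z hZn hZ1 hZp hZab hZc
    haveI := hZn
    apply NPC.lift Z hZp hZab hZc
    have hlt : Nat.card (G ⧸ Z) < n := by
      rw [← hn, ← Subgroup.index_eq_card]
      have h1 : Nat.card Z * Z.index = Nat.card G := Subgroup.card_mul_index Z
      have h2 : 1 < Nat.card Z := (Subgroup.one_lt_card_iff_ne_bot Z).mpr hZ1
      have h3 : 0 < Z.index := Nat.pos_of_ne_zero Subgroup.index_ne_zero_of_finite
      nlinarith
    refine ih _ hlt (G ⧸ Z) rfl ?_ (h.quot hp Z)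
    intro r hr hrd
    apply hmin r hr
    rw [← Subgroup.index_eq_card] at hrd
    exact hrd.trans (Subgroup.index_dvd_card Z)
  obtain ⟨hDn, hDc⟩ := step1 h P
  by_cases hD : ⁅(P : Subgroup G), (P : Subgroup G)⁆ = ⊥
  · have habP : ∀ a ∈ (P : Subgroup G), ∀ b ∈ (P : Subgroup G), a * b = b * a := by
      intro a ha b hb
      have := Subgroup.commutator_mem_commutator ha hb
      rw [hD, Subgroup.mem_bot, commutatorElement_eq_one_iff_mul_comm] at this
      exact this
    have hab : ∀ Q : Sylow p G, ∀ a ∈ (Q : Subgroup G), ∀ b ∈ (Q : Subgroup G),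
        a * b = b * a := by
      intro Q a ha b hb
      obtain ⟨g, hg⟩ := MulAction.exists_smul_eq G P Q
      have hmem : ∀ x ∈ (Q : Subgroup G), g⁻¹ * x * g ∈ (P : Subgroup G) := by
        intro x hx
        have : x ∈ (g • P : Sylow p G) := by rw [hg]; exact hx
        exact Cfsg.Agent.H72.mem_sylow_smul.mp this
      have := habP _ (hmem a ha) _ (hmem b hb)
      calc a * b = g * ((g⁻¹ * a * g) * (g⁻¹ * b * g)) * g⁻¹ := by group
        _ = g * ((g⁻¹ * b * g) * (g⁻¹ * a * g)) * g⁻¹ := by rw [this]
        _ = b * a := by group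
    by_cases hcent : ∃ u : G, u ≠ 1 ∧ (∃ k : ℕ, orderOf u = p ^ k) ∧ u ∈ center G
    · obtain ⟨u, hu1, ⟨k, hk⟩, huc⟩ := hcent
      have hzc : zpowers u ≤ center G := by rw [Subgroup.zpowers_le]; exact huc
      apply hred (zpowers u)
      · constructor
        intro z hz g
        have := Subgroup.mem_center_iff.mp (hzc hz) g
        have e : g * z * g⁻¹ = z := by rw [this]; group
        rw [e]; exact hz
      · rw [Ne, Subgroup.zpowers_eq_bot]; exact hu1
      · exact IsPGroup.of_card (n := k) (by rw [Nat.card_zpowers, hk])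
      · intro a ha b _
        exact (Subgroup.mem_center_iff.mp (hzc ha) b).symm
      · intro y _ z hz
        exact Subgroup.mem_center_iff.mp (hzc hz) y
    · push Not at hcent
      apply final_case hmin h P hab
      intro u hu1 hu2
      have hne : centralizer ({u} : Set G) ≠ ⊤ := by
        intro htop
        apply hcent u hu1 hu2
        rw [Subgroup.mem_center_iff]
        intro g
        have : g ∈ centralizer ({u} : Set G) := by rw [htop]; exact Subgroup.mem_top g
        exact Subgroup.mem_centralizer_singleton_iff.mp this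
      have hlt : Nat.card (centralizer ({u} : Set G)) < n := by
        rw [← hn]
        have h1 : Nat.card (centralizer ({u} : Set G)) * (centralizer ({u} : Set G)).index =
            Nat.card G := Subgroup.card_mul_index _
        have h2 : (centralizer ({u} : Set G)).index ≠ 1 := fun h' =>
          hne (Subgroup.index_eq_one.mp h')
        have h3 : (centralizer ({u} : Set G)).index ≠ 0 := Subgroup.index_ne_zero_of_finite
        have h4 : 2 ≤ (centralizer ({u} : Set G)).index := by omega
        have h5 : 0 < Nat.card (centralizer ({u} : Set G)) := Nat.card_pos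
        nlinarith
      refine ih _ hlt _ rfl ?_ (h.cen hab u hu2)
      intro r hr hrd
      exact hmin r hr (hrd.trans (Subgroup.card_subgroup_dvd_card _))
  · haveI := hDn
    obtain ⟨D, hDdef⟩ : ∃ D : Subgroup G, D = ⁅(P : Subgroup G), (P : Subgroup G)⁆ := ⟨_, rfl⟩
    rw [← hDdef] at hD hDc
    haveI hDn' : D.Normal := by rw [hDdef]; exact hDn
    have hDP : D ≤ (P : Subgroup G) := by
      rw [hDdef, Subgroup.commutator_le]
      intro a ha b hb
      rw [commutatorElement_def]
      exact Subgroup.mul_mem _ (Subgroup.mul_mem _ (Subgroup.mul_mem _ ha hb)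
        (Subgroup.inv_mem _ ha)) (Subgroup.inv_mem _ hb)
    have hDp : IsPGroup p D := P.isPGroup'.to_le hDP
    apply hred (D ⊓ centralizer (D : Set G))
    · infer_instance
    · haveI : Nontrivial D := (Subgroup.nontrivial_iff_ne_bot D).mpr hD
      haveI := IsPGroup.center_nontrivial hDp
      obtain ⟨z, hz⟩ := exists_ne (1 : center D)
      intro hbot
      apply hz
      have hmem : ((z : D) : G) ∈ D ⊓ centralizer (D : Set G) := by
        refine Subgroup.mem_inf.mpr ⟨(z : D).2, ?_⟩
        rw [Subgroup.mem_centralizer_iff]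
        intro d hd
        have := Subgroup.mem_center_iff.mp z.2 ⟨d, hd⟩
        exact congrArg Subtype.val this
      rw [hbot, Subgroup.mem_bot] at hmem
      apply Subtype.ext
      apply Subtype.ext
      exact hmem
    · exact hDp.to_le inf_le_left
    · intro a ha b hb
      exact (Subgroup.mem_centralizer_iff.mp (Subgroup.mem_inf.mp hb).2) a
        (Subgroup.mem_inf.mp ha).1
    · intro y hy z hz
      exact hDc y hy z (Subgroup.mem_inf.mp hz).1

/-- groups with all class sizes squarefree are solvable -/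
theorem solvable_aux : ∀ (n : ℕ) (G : Type u) [Group G] [Finite G], Nat.card G = n →
    (∀ x : G, Squarefree (centralizer ({x} : Set G)).index) → Group.IsSolvable G := by
  intro n
  induction n using Nat.strong_induction_on with
  | _ n ih =>
  intro G _ _ hn h
  by_cases h1 : Nat.card G = 1
  · haveI : Subsingleton G := (Nat.card_eq_one_iff_unique.mp h1).1
    infer_instance
  · obtain ⟨p, hpdef⟩ : ∃ p : ℕ, p = (Nat.card G).minFac := ⟨_, rfl⟩
    have hp : p.Prime := by rw [hpdef]; exact Nat.minFac_prime h1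
    haveI : Fact p.Prime := ⟨hp⟩
    have hpd : p ∣ Nat.card G := by rw [hpdef]; exact Nat.minFac_dvd _
    have hmin : ∀ r : ℕ, r.Prime → r ∣ Nat.card G → p ≤ r := by
      intro r hr hrd
      rw [hpdef]; exact Nat.minFac_le_of_dvd hr.two_le hrd
    have hyp : Hyp p G := by
      intro y _ hd
      have := h y
      rw [sq] at hd
      exact hp.one_lt.ne' (Nat.isUnit_iff.mp (this p hd))
    obtain ⟨H, hHn, hHco, k, hk⟩ := npc_of_hyp p n G hn hmin hyp
    haveI := hHn
    have hlt : Nat.card H < n := by
      rw [← hn]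
      have h2 : Nat.card H ∣ Nat.card G := Subgroup.card_subgroup_dvd_card H
      have h3 : Nat.card H ≠ Nat.card G := by
        intro h'
        rw [h'] at hHco
        exact (Nat.Prime.coprime_iff_not_dvd hp).mp hHco.symm hpd
      exact lt_of_le_of_ne (Nat.le_of_dvd Nat.card_pos h2) h3
    have hHsq : ∀ x : H, Squarefree (centralizer ({x} : Set H)).index := by
      intro x
      have e : centralizer ({x} : Set H) = (centralizer ({(x : G)} : Set G)).subgroupOf H := by
        ext g
        rw [Subgroup.mem_centralizer_singleton_iff, Subgroup.mem_subgroupOf,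
          Subgroup.mem_centralizer_singleton_iff, Subtype.ext_iff]
        rfl
      rw [e]
      exact Squarefree.squarefree_of_dvd (relIndex_dvd_index_of_normal_right _ H) (h (x : G))
    haveI : Group.IsSolvable H := ih _ hlt H rfl hHsq
    haveI : Group.IsSolvable (G ⧸ H) := by
      have hq : IsPGroup p (G ⧸ H) := IsPGroup.of_card (n := k) (by rw [← Subgroup.index_eq_card, hk])
      haveI := hq.isNilpotent
      infer_instance
    exact Group.isSolvable_of_ker_le_range H.subtype (QuotientGroup.mk' H) (by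
      rw [QuotientGroup.ker_mk', Subgroup.range_subtype])

/-- groups with all class sizes squarefree are solvable -/
theorem solvable {G : Type u} [Group G] [Finite G]
    (h : ∀ x : G, Squarefree (centralizer ({x} : Set G)).index) : Group.IsSolvable G :=
  solvable_aux _ G rfl h

end Cfsg.Agent.H13.Sqf
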