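import Mathlib
import Cfsg.Agent.H52.SrDefs

/-!
# SR-IND (piece of helper52's SR mini-project for S2951 / S2952), helper13
-/

set_option autoImplicit false
open Cfsg

namespace Cfsg.Agent.H13.Sr

open Cfsg.Agent.H52.Sr

universe u

/-- **SR-IND**. -/
theorem ind : StInd.{u} := by
  intro X _ ι K W h1 h2 i
  rw [disjoint_iff, eq_bot_iff, ← h2 i]
  refine inf_le_inf_left _ ?_
  refine iSup₂_le ?_
  intro j hj
  exact h1 j i hj

example : Cfsg.Agent.H52.Sr.StInd.{u} := ind

end Cfsg.Agent.H13.Sr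

#print axioms Cfsg.Agent.H13.Sr.ind
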