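import Mathlib
import Cfsg.Agent.H52.SrDefs

/-!
# SR-SUP (piece of helper52's SR mini-project for S2951 / S2952), helper13
-/

set_option autoImplicit false
open Cfsg

namespace Cfsg.Agent.H13.Sr

open Cfsg.Agent.H52.Sr

universe u

/-- **SR-SUP**. -/
theorem sup : StSup.{u} := by
  intro X _ V W s
  classical
  induction s using Finset.induction_on with
  | empty =>
    intro _ _ v hv
    exact ⟨v, hv, 1, Subgroup.one_mem _, (mul_one v).symm, by simp⟩
  | insert K₀ s' hK₀ ih =>
    intro h1 h2 v hv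
    obtain ⟨c, hcV, u, hu, hvcu, hc⟩ := ih (fun K hK => h1 K (Finset.mem_insert_of_mem hK))
      (fun K₁ hK₁ K₂ hK₂ => h2 K₁ (Finset.mem_insert_of_mem hK₁) K₂
        (Finset.mem_insert_of_mem hK₂)) v hv
    obtain ⟨c', hc'V, w, hw, hcw, hc'⟩ := h1 K₀ (Finset.mem_insert_self _ _) c hcV
    refine ⟨c', hc'V, w * u, ?_, ?_, ?_⟩
    · refine Subgroup.mul_mem _ ?_ ?_
      · exact (le_iSup₂ (f := fun K (_ : K ∈ insert K₀ s') => W K) K₀
          (Finset.mem_insert_self _ _)) hw
      · refine (iSup₂_le ?_ : (⨆ K ∈ s', W K) ≤ ⨆ K ∈ insert K₀ s', W K) hu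
        intro K hK
        exact le_iSup₂ (f := fun K (_ : K ∈ insert K₀ s') => W K) K
          (Finset.mem_insert_of_mem hK)
    · rw [hvcu, hcw, mul_assoc]
    · intro K hK
      rcases Finset.mem_insert.mp hK with rfl | hK'
      · exact hc'
      · have hne : K₀ ≠ K := fun h => hK₀ (h ▸ hK')
        have hw' : w ∈ Subgroup.centralizer (K : Set X) :=
          h2 K₀ (Finset.mem_insert_self _ _) K hK hne hw
        have e : c' = c * w⁻¹ := by
          rw [hcw]
          group
        rw [e]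
        exact Subgroup.mul_mem _ (hc K hK') (Subgroup.inv_mem _ hw')

example : Cfsg.Agent.H52.Sr.StSup.{u} := sup

end Cfsg.Agent.H13.Sr

#print axioms Cfsg.Agent.H13.Sr.sup
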