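import Mathlib
import Cfsg.Agent.H19.SxDefs
import Cfsg.Agent.H63.SnIfSyl

/-!
# SX-IFA (piece of helper19's EXIST project for S2948 / S2949), helper13

A largest elementary abelian 2-subgroup of `T`, not inside `O₂(L)`, seen in `↥L`.
-/

set_option autoImplicit false
open Cfsg

namespace Cfsg.Agent.H13.Sx

open Cfsg.Agent.H19.Sx

universe u

/-- **SX-IFA**. -/
theorem ifA : StIfA.{u} := by
  intro G _ _ T L hL
  obtain ⟨⟨hle, hT2, hodd⟩, hJ, -⟩ := hL
  have hodd' : Odd (T.subgroupOf L).index := hodd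
  -- some largest elementary abelian subgroup of `T` is not inside `O₂(L)`
  have hex : ∃ A' ∈ maxElementaryAbelianSubgroups 2 ↥T,
      ¬ A'.map (Subgroup.inclusion hle) ≤ pCore 2 ↥L := by
    by_contra hall
    push_neg at hall
    apply hJ
    intro x hx
    unfold thompsonSubgroupOf at hx
    obtain ⟨y, hy, rfl⟩ := hx
    have h1 : thompsonSubgroup 2 ↥T ≤ (pCore 2 ↥L).comap (Subgroup.inclusion hle) := by
      unfold thompsonSubgroup
      refine sSup_le ?_
      intro A' hA' a ha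
      rw [Subgroup.mem_comap]
      exact hall A' hA' ⟨a, ha, rfl⟩
    have h2 := h1 hy
    rw [Subgroup.mem_comap] at h2
    unfold pCoreOf
    exact ⟨Subgroup.inclusion hle y, h2, rfl⟩
  obtain ⟨A', hA', hnot⟩ := hex
  refine ⟨A'.map (Subgroup.inclusion hle),
    Cfsg.Agent.H63.Sn.maxEA_inclusion T L hle hT2 hodd' A' hA', ?_, hnot⟩
  rintro _ ⟨a, ha, rfl⟩
  rw [Subgroup.mem_subgroupOf]
  unfold thompsonSubgroupOf thompsonSubgroup
  exact ⟨a, (le_sSup hA' : A' ≤ sSup (maxElementaryAbelianSubgroups 2 ↥T)) ha, rfl⟩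

example : Cfsg.Agent.H19.Sx.StIfA.{u} := ifA

end Cfsg.Agent.H13.Sx

#print axioms Cfsg.Agent.H13.Sx.ifA
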