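import Mathlib
import Cfsg.Agent.H64.TmDefs
import Cfsg.Agent.H4.TnCol
import Cfsg.Agent.H4.PaQb
import Cfsg.Agent.H4.IrrCount
import Cfsg.Agent.H82.Irr

/-!
# S3701 (helper64's TM project), piece TM-LIN (helper13)

If `x ∈ ker χ₁` then `χ₁` is linear and trivial on `T`.
-/

set_option autoImplicit false

namespace Cfsg.Agent.H13.Tm

open Subgroup Cfsg Cfsg.Agent.H4 Cfsg.Agent.H64.Tm Cfsg.Agent.H82

universe u

/-- If every element is `k * l` with `k ∈ K`, `l ∈ L`, then `|G| ≤ |L| · |K|`. -/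
theorem lin_cover {G : Type u} [Group G] [Fintype G] [DecidableEq G] (S L : Finset G)
    (h : ∀ g : G, ∃ k ∈ S, ∃ l ∈ L, g = k * l) :
    Fintype.card G ≤ L.card * S.card := by
  have hcov : (Finset.univ : Finset G) ⊆ L.biUnion (fun l => S.image (fun k => k * l)) := by
    intro g _
    obtain ⟨k, hk, l, hl, rfl⟩ := h g
    exact Finset.mem_biUnion.2 ⟨l, hl, Finset.mem_image.2 ⟨k, hk, rfl⟩⟩
  have h1 := Finset.card_le_card hcov
  rw [Finset.card_univ] at h1
  refine h1.trans (Finset.card_biUnion_le.trans ?_)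
  calc ∑ l ∈ L, (S.image (fun k => k * l)).card ≤ ∑ _l ∈ L, S.card :=
        Finset.sum_le_sum fun l _ => Finset.card_image_le
    _ = L.card * S.card := by rw [Finset.sum_const, smul_eq_mul]

/-- **TM-LIN**. -/
theorem lin (hV : StVals.{u}) (hF : StFratt.{u}) (hR : Cfsg.Agent.H4.Tn.StRT3.{u}) :
    StLin.{u} := by
  intro G _ _ H T a b c x y cfg χ₁ χ₂ hdec hx
  classical
  obtain ⟨hcS, hinvS⟩ := hV G H T a b c x y cfg
  have hxK : x ∈ irrKer χ₁ := (mem_irrKer χ₁ x).2 hx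
  have key : ∀ d : G, d ^ 3 = 1 → x * d = d⁻¹ * x → d ∈ irrKer χ₁ := by
    intro d hd3 hxd
    have h1 : d * x * d⁻¹ ∈ irrKer χ₁ := (irrKer_normal χ₁).conj_mem x hxK d
    have h2 : d * x * d⁻¹ * x⁻¹ ∈ irrKer χ₁ := mul_mem h1 (inv_mem hxK)
    have h4 : x * d⁻¹ = d * x := by
      calc x * d⁻¹ = d * (d⁻¹ * x) * d⁻¹ := by group
        _ = d * (x * d) * d⁻¹ := by rw [← hxd]
        _ = d * x := by group
    have h3 : d * x * d⁻¹ * x⁻¹ = d * d := by
      calc d * x * d⁻¹ * x⁻¹ = d * (x * d⁻¹) * x⁻¹ := by group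
        _ = d * (d * x) * x⁻¹ := by rw [h4]
        _ = d * d := by group
    rw [h3] at h2
    have h5 : d = (d * d) * (d * d) := by
      calc d = d ^ 3 * d := by rw [hd3, one_mul]
        _ = (d * d) * (d * d) := by rw [pow_succ, pow_succ, pow_one, mul_assoc (d * d) d d]
    rw [h5]; exact mul_mem h2 h2
  have haK := key a cfg.a3 cfg.xa
  have hbK := key b cfg.b3 cfg.xb
  obtain ⟨n, hn0, hn⟩ := irr_one_eq_natCast χ₁
  have hn' : χ₁.1 1 = (n : ℂ) := hn
  have hfr := hF G H T a b c x y cfg (irrKer χ₁) (irrKer_normal χ₁) haK hbK hxK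
  have hyc : y * c * y⁻¹ = c⁻¹ := by rw [cfg.yc]; group
  have hcmod : ∀ m : ℕ, c ^ m = c ^ (m % 3) := by
    intro m
    conv_lhs => rw [← Nat.div_add_mod m 3, pow_add, pow_mul, cfg.c3, one_pow, one_mul]
  have hy2 : y ^ 2 = 1 := by rw [pow_two]; exact cfg.y2
  have hymod : ∀ m : ℕ, y ^ m = y ^ (m % 2) := by
    intro m
    conv_lhs => rw [← Nat.div_add_mod m 2, pow_add, pow_mul, hy2, one_pow, one_mul]
  have : Fintype G := Fintype.ofFinite G
  obtain ⟨S, hS⟩ : ∃ S : Finset G, S = Finset.univ.filter (fun g => g ∈ irrKer χ₁) := ⟨_, rfl⟩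
  have hmemS : ∀ g, g ∈ S ↔ g ∈ irrKer χ₁ := by
    intro g; rw [hS]; simp
  have hS1 : 1 ≤ S.card := Finset.card_pos.2 ⟨1, (hmemS 1).2 (one_mem _)⟩
  have hnorm := irr_norm_sq χ₁
  have hnormR : ∑ g : G, Complex.normSq (χ₁.1 g) = (Fintype.card G : ℝ) := by
    have h3 : ((∑ g : G, Complex.normSq (χ₁.1 g) : ℝ) : ℂ) = (Fintype.card G : ℂ) := by
      rw [← Nat.card_eq_fintype_card, ← hnorm]
      push_cast
      refine Finset.sum_congr rfl fun g _ => ?_
      rw [Complex.mul_conj]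
    exact_mod_cast h3
  have hsub : ∑ g ∈ S, Complex.normSq (χ₁.1 g) ≤ ∑ g : G, Complex.normSq (χ₁.1 g) :=
    Finset.sum_le_sum_of_subset_of_nonneg (Finset.subset_univ S)
      (fun g _ _ => Complex.normSq_nonneg _)
  have hSsum : ∑ g ∈ S, Complex.normSq (χ₁.1 g) = (n : ℝ) * n * (S.card : ℝ) := by
    have : ∀ g ∈ S, Complex.normSq (χ₁.1 g) = (n : ℝ) * n := by
      intro g hg
      have := (mem_irrKer χ₁ g).1 ((hmemS g).1 hg)
      rw [this, hn', Complex.normSq_natCast]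
    rw [Finset.sum_congr rfl this, Finset.sum_const, nsmul_eq_mul]; ring
  rw [hSsum, hnormR] at hsub
  have hsubN : n * n * S.card ≤ Fintype.card G := by exact_mod_cast hsub
  -- `|G| ≤ 6 |K|`
  have hle6 : Fintype.card G ≤ 6 * S.card := by
    have hL := lin_cover S ((Finset.range 3 ×ˢ Finset.range 2).image
      (fun p : ℕ × ℕ => c ^ p.1 * y ^ p.2)) (by
        intro g
        obtain ⟨k, hk, m, j, rfl⟩ := hfr g
        refine ⟨k, (hmemS k).2 hk, c ^ (m % 3) * y ^ (j % 2), ?_, ?_⟩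
        · refine Finset.mem_image.2 ⟨(m % 3, j % 2), ?_, rfl⟩
          rw [Finset.mem_product, Finset.mem_range, Finset.mem_range]
          exact ⟨Nat.mod_lt _ (by norm_num), Nat.mod_lt _ (by norm_num)⟩
        · rw [hcmod m, hymod j, mul_assoc])
    have hc6 : ((Finset.range 3 ×ˢ Finset.range 2).image
        (fun p : ℕ × ℕ => c ^ p.1 * y ^ p.2)).card ≤ 6 := by
      refine Finset.card_image_le.trans ?_
      rw [Finset.card_product, Finset.card_range, Finset.card_range]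
    exact hL.trans (Nat.mul_le_mul_right _ hc6)
  have hn2 : n ≤ 2 := by
    by_contra h
    have h3 : 3 ≤ n := by omega
    have h9 : 9 * S.card ≤ n * n * S.card :=
      Nat.mul_le_mul_right _ (Nat.mul_le_mul h3 h3)
    omega
  have h1S : (1 : G) ∉ S1G a b c x := hinvS 1 (one_mul 1)
  have hd1 := hdec 1
  rw [P1, Set.indicator_of_notMem h1S] at hd1
  have hn1 : n = 1 := by
    by_contra hne
    have hn2' : n = 2 := by omega
    subst hn2'
    have h21 : χ₂.1 1 = 3 := by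
      rw [hn'] at hd1; push_cast at hd1; linear_combination -hd1
    obtain ⟨n₀, n₁, hR1, hRa⟩ := hR G χ₁.1 (isCharacter_of_isIrrCharacter χ₁.2) c y cfg.c3 hyc
    obtain ⟨m₀, m₁, hR1', hRa'⟩ := hR G χ₂.1 (isCharacter_of_isIrrCharacter χ₂.2) c y cfg.c3 hyc
    rw [hn'] at hR1
    rw [h21] at hR1'
    have hN : n₀ + 2 * n₁ = 2 := by
      have : ((2 : ℕ) : ℂ) = ((n₀ + 2 * n₁ : ℕ) : ℂ) := by push_cast; exact hR1
      exact_mod_cast this.symm
    have hM : m₀ + 2 * m₁ = 3 := by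
      have : ((3 : ℕ) : ℂ) = ((m₀ + 2 * m₁ : ℕ) : ℂ) := by
        push_cast; rw [← hR1']
      exact_mod_cast this.symm
    have hdc := hdec c
    rw [P1, Set.indicator_of_mem hcS, hRa, hRa'] at hdc
    have hZ : (n₀ : ℤ) - n₁ - (m₀ - m₁) = 2 := by
      have : (((n₀ : ℤ) - n₁ - (m₀ - m₁) : ℤ) : ℂ) = ((2 : ℤ) : ℂ) := by
        push_cast; linear_combination hdc
      exact_mod_cast this
    have hn0' : n₀ = 2 ∧ n₁ = 0 := by omega
    have hcK : c ∈ irrKer χ₁ := by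
      rw [mem_irrKer, hRa, hn', hn0'.1, hn0'.2]; norm_num
    have hle2 : Fintype.card G ≤ 2 * S.card := by
      have hL := lin_cover S ((Finset.range 2).image (fun j : ℕ => y ^ j)) (by
        intro g
        obtain ⟨k, hk, m, j, rfl⟩ := hfr g
        refine ⟨k * c ^ m, (hmemS _).2 (mul_mem hk (pow_mem hcK m)), y ^ (j % 2), ?_, ?_⟩
        · exact Finset.mem_image.2 ⟨j % 2, Finset.mem_range.2 (Nat.mod_lt _ (by norm_num)), rfl⟩
        · rw [hymod j])
      have hc2 : ((Finset.range 2).image (fun j : ℕ => y ^ j)).card ≤ 2 := by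
        refine Finset.card_image_le.trans ?_
        rw [Finset.card_range]
      exact hL.trans (Nat.mul_le_mul_right _ hc2)
    omega
  subst hn1
  have h11 : χ₁.1 1 = 1 := by rw [hn']; simp
  refine ⟨h11, ?_⟩
  have hmul := irr_linear_mul χ₁ h11
  have hne := irr_linear_ne_zero χ₁ h11 c
  have hconj : χ₁.1 (y * c * y⁻¹) = χ₁.1 c := irr_conj χ₁ c y
  have hcc : c * c = c⁻¹ := by
    calc c * c = c ^ 3 * c⁻¹ := by rw [pow_succ, mul_inv_cancel_right, pow_two]
      _ = c⁻¹ := by rw [cfg.c3, one_mul]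
  have h6 : χ₁.1 c * χ₁.1 c = χ₁.1 c := by
    rw [← hmul, hcc, ← hyc, hconj]
  have hc1 : χ₁.1 c = 1 := mul_right_cancel₀ hne (by rw [h6, one_mul])
  have hcK : c ∈ irrKer χ₁ := by rw [mem_irrKer, hc1, h11]
  intro t ht
  obtain ⟨i, j, k, rfl⟩ := cfg.Telts t ht
  have : a ^ i * b ^ j * c ^ k ∈ irrKer χ₁ :=
    mul_mem (mul_mem (pow_mem haK i) (pow_mem hbK j)) (pow_mem hcK k)
  rw [mem_irrKer, h11] at this
  exact this

/-- Verbatim check. -/
example (hV : Cfsg.Agent.H64.Tm.StVals.{u}) (hF : Cfsg.Agent.H64.Tm.StFratt.{u})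
    (hR : Cfsg.Agent.H4.Tn.StRT3.{u}) : Cfsg.Agent.H64.Tm.StLin.{u} := lin hV hF hR

end Cfsg.Agent.H13.Tm

#print axioms Cfsg.Agent.H13.Tm.lin
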