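import Cfsg.Agent.H67.UmDefs

/-!
# UM-AR3 (piece of helper67's S2263 project), helper13

At least three parts: `L` = the lcm of the `Qn (p ^ f) a_i`, `t = K - 1` with `K` the largest
multiplicity.
-/

set_option autoImplicit false

namespace Cfsg.Agent.H13.Um

open Cfsg.Agent.H67.Um

theorem qn_pos (q a : ℕ) (hq : 2 ≤ q) (ha : 1 ≤ a) : 1 ≤ Qn q a := by
  have h1 : 2 ≤ q ^ a := by
    calc 2 ≤ q := hq
      _ = q ^ 1 := (pow_one q).symm
      _ ≤ q ^ a := Nat.pow_le_pow_right (by omega) ha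
  unfold Qn
  split_ifs <;> omega

theorem qn_le (q a : ℕ) : Qn q a ≤ q ^ a + 1 := by
  unfold Qn
  split_ifs <;> omega

theorem qn_dvd (q a : ℕ) : q + 1 ∣ Qn q a := by
  unfold Qn
  split_ifs with h
  · obtain ⟨b, rfl⟩ := h
    have h1 : q ^ 2 - 1 ^ 2 ∣ (q ^ 2) ^ b - (1 ^ 2) ^ b := Nat.sub_dvd_pow_sub_pow _ _ _
    rw [Nat.sq_sub_sq] at h1
    have h2 : (q ^ 2) ^ b - (1 ^ 2) ^ b = q ^ (b + b) - 1 := by
      rw [← pow_mul, one_pow, one_pow, two_mul]
    rw [h2] at h1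
    exact (Dvd.intro _ rfl).trans h1
  · have := Odd.nat_add_dvd_pow_add_pow q 1 (Nat.not_even_iff_odd.mp h)
    simpa using this

/-- The lcm of the `Qn q a_i`, starting from `q + 1`. -/
def Lc (q : ℕ) : List (ℕ × ℕ) → ℕ
  | [] => q + 1
  | x :: l => Nat.lcm (Qn q x.1) (Lc q l)

theorem lc_bound (q : ℕ) (hq : 2 ≤ q) (l : List (ℕ × ℕ)) (hl : ∀ x ∈ l, 1 ≤ x.1) :
    ∃ e, 1 ≤ e ∧ e + l.length = (l.map (fun x => x.1)).sum + 1 ∧ q + 1 ∣ Lc q l ∧
      1 ≤ Lc q l ∧ Lc q l ≤ q ^ e + 1 ∧ ∀ x ∈ l, Qn q x.1 ∣ Lc q l := by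
  induction l with
  | nil =>
    refine ⟨1, le_rfl, by simp, ?_, ?_, ?_, by simp⟩
    · exact dvd_refl _
    · show 1 ≤ q + 1
      omega
    · show q + 1 ≤ q ^ 1 + 1
      rw [pow_one]
  | cons x l ih =>
    obtain ⟨e, he1, hes, hdvd, hpos, hle, hall⟩ :=
      ih (fun y hy => hl y (List.mem_cons_of_mem _ hy))
    have hx : 1 ≤ x.1 := hl x List.mem_cons_self
    obtain ⟨a', ha'⟩ := Nat.exists_eq_add_of_le hx
    obtain ⟨e', he'⟩ := Nat.exists_eq_add_of_le he1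
    have hLc : Lc q (x :: l) = Nat.lcm (Qn q x.1) (Lc q l) := rfl
    have hqn := qn_pos q x.1 hq hx
    refine ⟨a' + e, by omega, ?_, ?_, ?_, ?_, ?_⟩
    · simp only [List.length_cons, List.map_cons, List.sum_cons]
      omega
    · rw [hLc]
      exact hdvd.trans (Nat.dvd_lcm_right _ _)
    · rw [hLc]
      exact Nat.pos_of_ne_zero (Nat.lcm_ne_zero (by omega) (by omega))
    · rw [hLc]
      have hg : q + 1 ≤ Nat.gcd (Qn q x.1) (Lc q l) :=
        Nat.le_of_dvd (Nat.gcd_pos_of_pos_left _ hqn) (Nat.dvd_gcd (qn_dvd q x.1) hdvd)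
      have h1 : Nat.gcd (Qn q x.1) (Lc q l) * Nat.lcm (Qn q x.1) (Lc q l) =
          Qn q x.1 * Lc q l := Nat.gcd_mul_lcm _ _
      have h2 : Qn q x.1 * Lc q l ≤ (q ^ x.1 + 1) * (q ^ e + 1) :=
        Nat.mul_le_mul (qn_le q x.1) hle
      have h3 : (q ^ x.1 + 1) * (q ^ e + 1) ≤ (q + 1) * (q ^ (a' + e) + 1) := by
        rw [ha', he']
        have hu : 1 ≤ q ^ a' := Nat.one_le_pow _ _ (by omega)
        have hv : 1 ≤ q ^ e' := Nat.one_le_pow _ _ (by omega)
        have e1 : q ^ (1 + a') = q * q ^ a' := by rw [pow_add, pow_one]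
        have e2 : q ^ (1 + e') = q * q ^ e' := by rw [pow_add, pow_one]
        have e3 : q ^ (a' + (1 + e')) = q * (q ^ a' * q ^ e') := by
          rw [pow_add, pow_add, pow_one]
          ring
        rw [e1, e2, e3]
        generalize q ^ a' = u at hu
        generalize q ^ e' = v at hv
        obtain ⟨u', rfl⟩ := Nat.exists_eq_add_of_le hu
        obtain ⟨v', rfl⟩ := Nat.exists_eq_add_of_le hv
        have h : (1 + u') + (1 + v') ≤ (1 + u') * (1 + v') + 1 := by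
          nlinarith [Nat.zero_le (u' * v')]
        nlinarith [Nat.mul_le_mul_left q h]
      have h4 : (q + 1) * Nat.lcm (Qn q x.1) (Lc q l) ≤ (q + 1) * (q ^ (a' + e) + 1) := by
        calc (q + 1) * Nat.lcm (Qn q x.1) (Lc q l)
            ≤ Nat.gcd (Qn q x.1) (Lc q l) * Nat.lcm (Qn q x.1) (Lc q l) :=
              Nat.mul_le_mul_right _ hg
          _ = Qn q x.1 * Lc q l := h1
          _ ≤ (q ^ x.1 + 1) * (q ^ e + 1) := h2
          _ ≤ (q + 1) * (q ^ (a' + e) + 1) := h3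
      exact Nat.le_of_mul_le_mul_left h4 (by omega)
    · intro y hy
      rw [hLc]
      rcases List.mem_cons.mp hy with rfl | hy
      · exact Nat.dvd_lcm_left _ _
      · exact (hall y hy).trans (Nat.dvd_lcm_right _ _)

theorem k_bound (l : List (ℕ × ℕ)) (hl : ∀ x ∈ l, 1 ≤ x.1 ∧ 1 ≤ x.2) :
    ∃ K, 1 ≤ K ∧ (∀ x ∈ l, x.2 ≤ K) ∧
      (l.map (fun x => x.1)).sum + K ≤ (l.map (fun x => x.1 * x.2)).sum + 1 := by
  induction l with
  | nil => exact ⟨1, le_rfl, by simp, by simp⟩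
  | cons x l ih =>
    obtain ⟨K, hK1, hKall, hKs⟩ := ih (fun y hy => hl y (List.mem_cons_of_mem _ hy))
    obtain ⟨hx1, hx2⟩ := hl x List.mem_cons_self
    have hak : x.1 + x.2 ≤ x.1 * x.2 + 1 := by
      obtain ⟨u, hu⟩ := Nat.exists_eq_add_of_le hx1
      obtain ⟨v, hv⟩ := Nat.exists_eq_add_of_le hx2
      rw [hu, hv]
      nlinarith [Nat.zero_le (u * v)]
    have ha : x.1 ≤ x.1 * x.2 := Nat.le_mul_of_pos_right _ hx2
    by_cases hk : x.2 ≤ K
    · refine ⟨K, hK1, ?_, ?_⟩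
      · intro y hy
        rcases List.mem_cons.mp hy with rfl | hy
        · exact hk
        · exact hKall y hy
      · simp only [List.map_cons, List.sum_cons]
        omega
    · refine ⟨x.2, hx2, ?_, ?_⟩
      · intro y hy
        rcases List.mem_cons.mp hy with rfl | hy
        · exact le_rfl
        · exact (hKall y hy).trans (by omega)
      · simp only [List.map_cons, List.sum_cons]
        omega

theorem tgt_ge (p f d : ℕ) (hp : 2 ≤ p) (hf : 1 ≤ f) (hd : 3 ≤ d) :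
    (p ^ f) ^ (d - 1) - 1 ≤ tgt p f d := by
  have hq : 2 ≤ p ^ f := by
    calc 2 ≤ p := hp
      _ = p ^ 1 := (pow_one p).symm
      _ ≤ p ^ f := Nat.pow_le_pow_right (by omega) hf
  unfold tgt
  split_ifs with hodd h2f h2q
  · exact le_rfl
  · have hf1 : f = 1 := by omega
    subst hf1
    rw [pow_one]
    have h1 : p ^ (d - 1) = p ^ (d - 2) * p := by
      rw [← pow_succ]
      congr 1
      omega
    rw [h1, add_mul]
    omega
  · omega
  · have h2 : p ^ f = 2 := by omega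
    rw [h2]
    have h1 : 2 ^ (d - 1) = 4 * 2 ^ (d - 3) := by
      have : d - 1 = (d - 3) + 2 := by omega
      rw [this, pow_add]
      ring
    omega

/-- **UM-AR3**. -/
theorem ar3 : StAr3 := by
  intro p f d l hp hf hd _ hparts hlen
  obtain ⟨hl, hsum⟩ := hparts
  have hpq : p ≤ p ^ f := by
    calc p = p ^ 1 := (pow_one p).symm
      _ ≤ p ^ f := Nat.pow_le_pow_right hp.pos hf
  have hq : 2 ≤ p ^ f := hp.two_le.trans hpq
  obtain ⟨e, he1, hes, hdvd, hpos, hle, hall⟩ :=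
    lc_bound (p ^ f) hq l (fun x hx => (hl x hx).1)
  obtain ⟨K, hK1, hKall, hKs⟩ := k_bound l hl
  rw [hsum] at hKs
  refine ⟨Lc (p ^ f) l, K - 1, hpos, hall, ?_, ?_⟩
  · intro x hx
    have h1 : K - 1 < p ^ (K - 1) := Nat.lt_pow_self hp.one_lt
    exact (hKall x hx).trans (by omega)
  · have h1 : e + K + 1 ≤ d := by omega
    have hpk : p ^ (K - 1) ≤ (p ^ f) ^ (K - 1) := Nat.pow_le_pow_left hpq _
    have h2 : Lc (p ^ f) l * p ^ (K - 1) ≤ ((p ^ f) ^ e + 1) * (p ^ f) ^ (K - 1) :=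
      Nat.mul_le_mul hle hpk
    have h3 : ((p ^ f) ^ e + 1) * (p ^ f) ^ (K - 1) =
        (p ^ f) ^ (e + (K - 1)) + (p ^ f) ^ (K - 1) := by
      rw [add_mul, one_mul, pow_add]
    have h4 : (p ^ f) ^ (e + (K - 1)) ≤ (p ^ f) ^ (d - 2) :=
      Nat.pow_le_pow_right (by omega) (by omega)
    have h5 : (p ^ f) ^ (K - 1) ≤ (p ^ f) ^ (d - 3) :=
      Nat.pow_le_pow_right (by omega) (by omega)
    have h6 : (p ^ f) ^ (d - 2) + (p ^ f) ^ (d - 3) + 1 ≤ (p ^ f) ^ (d - 1) := by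
      obtain ⟨m, rfl⟩ : ∃ m, d = m + 3 := ⟨d - 3, by omega⟩
      have e1 : m + 3 - 2 = m + 1 := by omega
      have e2 : m + 3 - 3 = m := by omega
      have e3 : m + 3 - 1 = m + 2 := by omega
      rw [e1, e2, e3, pow_succ, pow_succ, pow_succ]
      have hm : 1 ≤ (p ^ f) ^ m := Nat.one_le_pow _ _ (by omega)
      generalize (p ^ f) ^ m = w at hm
      generalize p ^ f = q at hq
      nlinarith [Nat.mul_le_mul hq hq, Nat.mul_le_mul_left w hq,
        Nat.mul_le_mul_left (w * q) hq]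
    have h7 := tgt_ge p f d hp.two_le hf hd
    omega

example : Cfsg.Agent.H67.Um.StAr3 := ar3

end Cfsg.Agent.H13.Um

#print axioms Cfsg.Agent.H13.Um.ar3
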